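import Cfsg.Agent.Lib.Characters.Values
import Cfsg.Agent.Lib.Characters.Basic
import Mathlib.RingTheory.RootsOfUnity.Complex
import Mathlib.LinearAlgebra.Determinant
import Mathlib.GroupTheory.Abelianization.Defs
import Mathlib.Algebra.BigOperators.Intervals

/-!
# Products of eigenvalues in a perfect group
-/

set_option autoImplicit false
set_option linter.style.haveILetI false
set_option linter.unusedSectionVars false

noncomputable section

namespace CfsgLib.PermPrime.DegP

open Cfsg CfsgLib.Characters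

universe u

/-- Multiplicity of a root among a family of roots of unity. -/
theorem card_filter_mul {β : Type*} [Fintype β] {n : ℕ} (hn : n ≠ 0) (u : β → ℂ)
    (hu : ∀ i, u i ^ n = 1) {ζ : ℂ} (hζ : ζ ^ n = 1) :
    ((Finset.univ.filter fun i => u i = ζ).card : ℂ) * n =
      ∑ k ∈ Finset.range n, (ζ ^ k)⁻¹ * ∑ i, u i ^ k := by
  classical
  have hgeom : ∀ t : ℂ, t ^ n = 1 →
      ∑ k ∈ Finset.range n, t ^ k = if t = 1 then (n : ℂ) else 0 := by
    intro t ht
    by_cases h1 : t = 1
    · subst h1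
      simp
    · rw [if_neg h1]
      have h0 := geom_sum_mul t n
      rw [ht, sub_self, mul_eq_zero] at h0
      exact h0.resolve_right (sub_ne_zero.2 h1)
  have hζ0 : ζ ≠ 0 := fun h0 => by
    rw [h0, zero_pow hn] at hζ
    exact zero_ne_one hζ
  simp only [Finset.mul_sum]
  rw [Finset.sum_comm]
  have e : ∀ i, ∑ k ∈ Finset.range n, (ζ ^ k)⁻¹ * u i ^ k =
      if u i = ζ then (n : ℂ) else 0 := by
    intro i
    rw [Finset.sum_congr rfl fun k _ => show (ζ ^ k)⁻¹ * u i ^ k = (ζ⁻¹ * u i) ^ k by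
      rw [mul_pow, inv_pow], hgeom _ (by rw [mul_pow, inv_pow, hζ, hu, inv_one, mul_one])]
    simp only [inv_mul_eq_one₀ hζ0, eq_comm (a := ζ)]
  rw [Finset.sum_congr rfl fun i _ => e i, ← Finset.sum_filter, Finset.sum_const, nsmul_eq_mul]

/-- Families of roots of unity with equal power sums have equal products. -/
theorem prod_eq_of_power_sums {ι κ : Type*} [Fintype ι] [Fintype κ] {n : ℕ} (hn : n ≠ 0)
    (z : ι → ℂ) (w : κ → ℂ) (hz : ∀ i, z i ^ n = 1) (hw : ∀ j, w j ^ n = 1)
    (h : ∀ k < n, ∑ i, z i ^ k = ∑ j, w j ^ k) : ∏ i, z i = ∏ j, w j := by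
  classical
  have hcount : ∀ ζ : ℂ, ζ ^ n = 1 →
      ((Finset.univ.filter fun i => z i = ζ).card : ℂ) =
        ((Finset.univ.filter fun j => w j = ζ).card : ℂ) := by
    intro ζ hζ
    refine mul_right_cancel₀ (Nat.cast_ne_zero.2 hn) ?_
    rw [card_filter_mul hn z hz hζ, card_filter_mul hn w hw hζ]
    exact Finset.sum_congr rfl fun k hk => by rw [h k (Finset.mem_range.1 hk)]
  have hm : (Finset.univ : Finset ι).val.map z = (Finset.univ : Finset κ).val.map w := by
    refine Multiset.ext.2 fun ζ => ?_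
    simp only [Multiset.count_map, ← Finset.filter_val, ← Finset.card_def]
    by_cases hζ : ζ ^ n = 1
    · have h1 := hcount ζ hζ
      rw [Nat.cast_inj] at h1
      simpa only [eq_comm] using h1
    · rw [Finset.filter_false_of_mem fun i _ (hi : ζ = z i) => hζ (hi ▸ hz i),
        Finset.filter_false_of_mem fun j _ (hj : ζ = w j) => hζ (hj ▸ hw j), Finset.card_empty,
        Finset.card_empty]
  rw [Finset.prod_eq_multiset_prod, Finset.prod_eq_multiset_prod, hm]

variable {G : Type u} [Group G] [Finite G]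

/-- **In a perfect group the eigenvalues of an element multiply to one.** -/
theorem prod_eq_one_of_perfect (hperf : commutator G = ⊤) {χ : G → ℂ} (hχ : IsCharacter G χ) (g : G)
    {κ : Type*} [Fintype κ] (w : κ → ℂ) (hw : ∀ j, w j ^ orderOf g = 1)
    (h : ∀ k < orderOf g, χ (g ^ k) = ∑ j, w j ^ k) : ∏ j, w j = 1 := by
  classical
  obtain ⟨n, ρ, rfl⟩ := hχ
  obtain ⟨b, ω, hω, hb⟩ := exists_eigenbasis ρ g
  have hpow : ∀ (k : ℕ) i, ρ (g ^ k) (b i) = ω i ^ k • b i := by
    intro k i
    induction k with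
    | zero => rw [pow_zero, map_one, pow_zero, one_smul]; rfl
    | succ k ih =>
      rw [pow_succ, map_mul, Module.End.mul_apply, hb, map_smul, ih, smul_smul, pow_succ']
  have hsum : ∀ k, ρ.character (g ^ k) = ∑ i, ω i ^ k := fun k =>
    character_eq_sum_of_eigenbasis ρ _ b _ (hpow k)
  rw [← prod_eq_of_power_sums (orderOf_pos g).ne' ω w (fun i => hω i) hw fun k hk => by
    rw [← hsum, h k hk]]
  have hdet : LinearMap.det (ρ g) = 1 := by
    have h1 : g ∈ ((LinearMap.det.comp ρ).toHomUnits : G →* ℂˣ).ker :=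
      Abelianization.commutator_subset_ker _ (hperf ▸ Subgroup.mem_top g)
    exact congrArg Units.val (MonoidHom.mem_ker.mp h1)
  rw [← hdet, ← LinearMap.det_toMatrix b, ← Matrix.det_diagonal]
  congr 1
  ext i j
  rw [LinearMap.toMatrix_apply, hb, map_smul, Module.Basis.repr_self]
  by_cases hij : i = j
  · subst hij; simp
  · simp [Finsupp.single_apply, Matrix.diagonal, hij, Ne.symm hij]

/-- **In a perfect group the degree and the value at an involution agree modulo four.** -/
theorem four_dvd_of_perfect (hperf : commutator G = ⊤) {χ : G → ℂ} (hχ : IsCharacter G χ) {g : G}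
    (hg : orderOf g = 2) {d v : ℤ} (hd : χ 1 = d) (hv : χ g = v) : (4 : ℤ) ∣ d - v := by
  classical
  obtain ⟨n, ρ, hρ⟩ := hχ
  obtain ⟨b, ω, hω, hb⟩ := exists_eigenbasis ρ g
  rw [hg] at hω
  have hω' : ∀ i, ω i = 1 ∨ ω i = -1 := fun i => sq_eq_one_iff.1 (hω i)
  set S := Finset.univ.filter fun i => ω i = -1 with hS
  have hsum : ∀ k < orderOf g, χ (g ^ k) = ∑ i, ω i ^ k := by
    intro k hk
    rw [hg] at hk
    rw [← hρ]
    interval_cases k
    · rw [pow_zero, Representation.char_one]
      simp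
    · rw [pow_one, character_eq_sum_of_eigenbasis ρ g b ω hb]
      simp
  have hprod := prod_eq_one_of_perfect hperf ⟨n, ρ, hρ⟩ g ω (fun i => by rw [hg]; exact hω i) hsum
  have hsplit : ∀ i, ω i = if i ∈ S then -1 else 1 := fun i => by
    by_cases h1 : ω i = -1
    · rw [if_pos (show i ∈ S from Finset.mem_filter.2 ⟨Finset.mem_univ _, h1⟩), h1]
    · rw [if_neg (show i ∉ S from fun h2 => h1 (Finset.mem_filter.1 h2).2)]
      exact (hω' i).resolve_right h1
  rw [Finset.prod_congr rfl fun i _ => hsplit i, Finset.prod_ite_mem, Finset.univ_inter,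
    Finset.prod_const] at hprod
  have heven : Even S.card := (neg_one_pow_eq_one_iff_even (by norm_num : (-1 : ℂ) ≠ 1)).1 hprod
  have h0 := hsum 0 (by omega)
  have h1 := hsum 1 (by omega)
  rw [pow_zero, hd] at h0
  rw [pow_one, hv] at h1
  simp only [pow_zero, pow_one] at h0 h1
  have h2 : (((d - v : ℤ)) : ℂ) = ((2 * (S.card : ℤ) : ℤ) : ℂ) := by
    push_cast
    rw [h0, h1, ← Finset.sum_sub_distrib,
      Finset.sum_congr rfl fun i _ => show (1 : ℂ) - ω i = if i ∈ S then 2 else 0 by
        rw [hsplit i]; split_ifs <;> norm_num,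
      Finset.sum_ite_mem, Finset.univ_inter, Finset.sum_const, nsmul_eq_mul, mul_comm]
  rw [Int.cast_inj] at h2
  obtain ⟨c, hc⟩ := heven
  exact ⟨c, by rw [h2, hc]; push_cast; ring⟩

/-- A power of the product of all roots of unity of order `e` with `e` even. -/
theorem prod_roots_of_even {ζ : ℂ} {e : ℕ} (hζ : IsPrimitiveRoot ζ e) (he : Even e) (he0 : e ≠ 0) :
    ∏ j ∈ Finset.range e, ζ ^ j = -1 := by
  rw [Finset.prod_pow_eq_pow_sum, Finset.sum_range_id]
  obtain ⟨m, rfl⟩ := he
  have hm : ζ ^ m = -1 := by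
    refine (sq_eq_one_iff.1 (by rw [← pow_mul, show m * 2 = m + m by ring]; exact hζ.pow_eq_one)).resolve_left ?_
    exact hζ.pow_ne_one_of_pos_of_lt (by omega) (by omega)
  rw [show (m + m) * (m + m - 1) / 2 = m * (m + m - 1) by
    rw [show (m + m) * (m + m - 1) = 2 * (m * (m + m - 1)) by ring, Nat.mul_div_cancel_left _ two_pos],
    pow_mul, hm, Odd.neg_one_pow ⟨m - 1, by omega⟩]

end CfsgLib.PermPrime.DegP
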