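import Cfsg.Agent.Lib.PermPrime.DegP.Induced
import Cfsg.Agent.Lib.PermPrime.SelfCentralizing
import Cfsg.Agent.Lib.Characters.Ito
import Mathlib.GroupTheory.SpecificGroups.Cyclic
import Mathlib.GroupTheory.GroupAction.MultipleTransitivity

/-!
# Transitive groups of prime degree with a TI complement in the Sylow normalizer
-/

set_option autoImplicit false
set_option linter.style.haveILetI false
set_option linter.unusedSectionVars false

noncomputable section

namespace CfsgLib.PermPrime.DegP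

open Cfsg CfsgLib.Characters MulAction
open scoped Pointwise

universe u

/-- The running hypotheses. -/
structure Setup (p : ℕ) [Fact p.Prime] {α : Type u} [Fintype α] [DecidableEq α]
    (G : Subgroup (Equiv.Perm α)) where
  hα : Fintype.card α = p
  trans : IsPretransitive G α
  huniq : ∃! χ : IrrCharacter G, charDegree (χ : G → ℂ) = p
  P : Sylow p G
  E : Subgroup G
  hPE : (P : Subgroup G) ⊔ E = Subgroup.normalizer ((P : Subgroup G) : Set G)
  hPE' : (P : Subgroup G) ⊓ E = ⊥
  hNE : Nat.card (Subgroup.normalizer (E : Set G)) = 2 * Nat.card E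
  hTI : ∀ g : G, g ∉ Subgroup.normalizer (E : Set G) →
    E ⊓ E.map (MulAut.conj g).toMonoidHom = ⊥

variable {p : ℕ} [hp : Fact p.Prime] {α : Type u} [Fintype α] [DecidableEq α]
  {G : Subgroup (Equiv.Perm α)} [Fintype G] (S : Setup p G)

include S

theorem Setup.card_α : Nat.card α = p := by rw [Nat.card_eq_fintype_card, S.hα]

theorem Setup.nonempty : Nonempty α :=
  Fintype.card_pos_iff.1 (by rw [S.hα]; exact hp.out.pos)

theorem Setup.dvd_card : p ∣ Nat.card G := by
  haveI := S.trans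
  obtain ⟨a⟩ := S.nonempty
  have h := (stabilizer G a).index_dvd_card
  rwa [index_stabilizer_of_transitive, S.card_α] at h

theorem Setup.card_dvd_factorial : Nat.card G ∣ p.factorial := by
  have h := Subgroup.card_subgroup_dvd_card G
  rwa [Nat.card_perm, S.card_α] at h

theorem Setup.sq_not_dvd : ¬ p ^ 2 ∣ Nat.card G := fun h => by
  have h1 := h.trans S.card_dvd_factorial
  obtain ⟨m, hm⟩ : ∃ m, p = m + 1 := ⟨p - 1, by have := hp.out.pos; omega⟩
  rw [hm, Nat.factorial_succ, sq] at h1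
  have h2 : m + 1 ∣ m.factorial := Nat.dvd_of_mul_dvd_mul_left (by omega) h1
  rw [← hm, hp.out.dvd_factorial] at h2
  omega

theorem Setup.card_P : Nat.card S.P = p := by
  obtain ⟨k, hk⟩ := IsPGroup.iff_card.1 S.P.2
  have hd : Nat.card (S.P : Subgroup G) ∣ Nat.card G := Subgroup.card_subgroup_dvd_card _
  have h0 : k ≠ 0 := by
    rintro rfl
    have := S.P.not_dvd_index
    rw [pow_zero] at hk
    rw [← (S.P : Subgroup G).card_mul_index, hk, one_mul] at hd
    exact this ((show p ∣ Nat.card G from S.dvd_card).trans (by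
      rw [← (S.P : Subgroup G).card_mul_index, hk, one_mul]))
  have h1 : k < 2 := by
    by_contra h
    exact S.sq_not_dvd ((pow_dvd_pow p (show 2 ≤ k by omega)).trans (hk ▸ hd))
  rw [show Nat.card S.P = p ^ k from hk, show k = 1 by omega, pow_one]

theorem Setup.exists_gen : ∃ x : G, x ∈ (S.P : Subgroup G) ∧ orderOf x = p := by
  obtain ⟨⟨x, hx⟩, hxo⟩ := exists_prime_orderOf_dvd_card' (G := (S.P : Subgroup G)) p
    (dvd_of_eq (show p = Nat.card (S.P : Subgroup G) from S.card_P.symm))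
  exact ⟨x, hx, by rwa [Subgroup.orderOf_mk] at hxo⟩

/-- A generator of the Sylow subgroup. -/
def Setup.x : G := S.exists_gen.choose

theorem Setup.x_mem : S.x ∈ (S.P : Subgroup G) := S.exists_gen.choose_spec.1

theorem Setup.x_order : orderOf S.x = p := S.exists_gen.choose_spec.2

theorem Setup.zpowers_x : Subgroup.zpowers S.x = (S.P : Subgroup G) :=
  CfsgLib.CyclicDefect.zpowers_eq S.P S.x_order S.x_mem S.card_P

theorem Setup.x_ne_one : S.x ≠ 1 := fun h => by
  have := S.x_order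
  rw [h, orderOf_one] at this
  exact hp.out.ne_one this.symm

theorem Setup.x_pow_p : S.x ^ p = 1 := orderOf_dvd_iff_pow_eq_one.1 S.x_order.dvd

theorem Setup.x_pow_mod (i : ℕ) : S.x ^ (i % p) = S.x ^ i :=
  (congrArg (fun n => S.x ^ (i % n)) S.x_order).symm.trans (pow_mod_orderOf S.x i)

theorem Setup.exists_pow_x {z : G} (hz : z ∈ (S.P : Subgroup G)) : ∃ i : ℕ, i < p ∧ S.x ^ i = z := by
  rw [← S.zpowers_x] at hz
  obtain ⟨i, rfl⟩ := mem_powers_iff_mem_zpowers.2 hz
  exact ⟨i % p, Nat.mod_lt _ hp.out.pos, S.x_pow_mod i⟩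

/-- The cycle. -/
theorem Setup.orbit_x (a : α) : Function.Bijective fun i : Fin p => S.x ^ (i : ℕ) • a := by
  classical
  have hfix : ∀ b : α, S.x • b ≠ b → Function.Bijective fun i : Fin p => S.x ^ (i : ℕ) • b := by
    intro b hb
    refine (Nat.bijective_iff_injective_and_card _).2 ⟨fun i j h => ?_, by
      rw [Nat.card_eq_fintype_card, Fintype.card_fin, S.card_α]⟩
    refine Fin.ext ?_
    simp only at h
    have hper : period S.x b = p := by
      have h1 : period S.x b ∣ p := pow_smul_eq_iff_period_dvd.1 (by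
        rw [S.x_pow_p, one_smul])
      refine ((Nat.dvd_prime hp.out).1 h1).resolve_left fun h2 => hb ?_
      have := pow_period_smul S.x b
      rwa [h2, pow_one] at this
    rcases le_total (i : ℕ) j with hij | hij
    · have h3 : S.x ^ ((j : ℕ) - i) • b = b := by
        apply smul_left_cancel (S.x ^ (i : ℕ))
        rw [← mul_smul, ← pow_add, Nat.add_sub_cancel' hij, h]
      rw [pow_smul_eq_iff_period_dvd, hper] at h3
      have := Nat.eq_zero_of_dvd_of_lt h3 (by omega)
      omega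
    · have h3 : S.x ^ ((i : ℕ) - j) • b = b := by
        apply smul_left_cancel (S.x ^ (j : ℕ))
        rw [← mul_smul, ← pow_add, Nat.add_sub_cancel' hij, h]
      rw [pow_smul_eq_iff_period_dvd, hper] at h3
      have := Nat.eq_zero_of_dvd_of_lt h3 (by omega)
      omega
  obtain ⟨b, hb⟩ : ∃ b : α, S.x • b ≠ b := by
    by_contra! h
    exact S.x_ne_one (FaithfulSMul.eq_of_smul_eq_smul (α := α) fun b => by rw [h b, one_smul])
  refine hfix a fun ha => ?_
  obtain ⟨i, rfl⟩ := (hfix b hb).2 a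
  refine hb (smul_left_cancel (S.x ^ (i : ℕ)) ?_)
  rw [← mul_smul, ← pow_succ, pow_succ', mul_smul]
  exact ha

theorem Setup.centralizer_eq :
    Subgroup.centralizer ((S.P : Subgroup G) : Set G) = (S.P : Subgroup G) := by
  obtain ⟨a⟩ := S.nonempty
  refine le_antisymm (fun c hc => ?_) ?_
  · obtain ⟨i, hi⟩ := (S.orbit_x a).2 (c • a)
    have hcx : ∀ j : ℕ, c * S.x ^ j = S.x ^ j * c := fun j =>
      (Subgroup.mem_centralizer_iff.1 hc _ (Subgroup.pow_mem _ S.x_mem j)).symm
    have : c = S.x ^ (i : ℕ) := FaithfulSMul.eq_of_smul_eq_smul (α := α) fun b => by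
      obtain ⟨j, rfl⟩ := (S.orbit_x a).2 b
      simp only at hi ⊢
      rw [← mul_smul c, hcx, mul_smul, ← hi, ← mul_smul, ← mul_smul, ← pow_add, ← pow_add, add_comm]
    rw [this]
    exact Subgroup.pow_mem _ S.x_mem _
  · intro z hz
    rw [Subgroup.mem_centralizer_iff]
    intro w hw
    obtain ⟨i, -, rfl⟩ := S.exists_pow_x hz
    obtain ⟨j, -, rfl⟩ := S.exists_pow_x hw
    rw [← pow_add, ← pow_add, add_comm]

theorem Setup.E_le : S.E ≤ Subgroup.normalizer ((S.P : Subgroup G) : Set G) := S.hPE ▸ le_sup_right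

theorem Setup.eq_of_mul_eq {z z' h h' : G} (hz : z ∈ (S.P : Subgroup G))
    (hz' : z' ∈ (S.P : Subgroup G)) (hh : h ∈ S.E) (hh' : h' ∈ S.E) (e : z * h = z' * h') :
    z = z' ∧ h = h' := by
  have h1 : z'⁻¹ * z = h' * h⁻¹ := by
    rw [eq_mul_inv_iff_mul_eq, mul_assoc, e, inv_mul_cancel_left]
  have h2 : z'⁻¹ * z ∈ (S.P : Subgroup G) ⊓ S.E :=
    ⟨Subgroup.mul_mem _ (Subgroup.inv_mem _ hz') hz, h1 ▸ S.E.mul_mem hh' (S.E.inv_mem hh)⟩
  rw [S.hPE', Subgroup.mem_bot, inv_mul_eq_one] at h2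
  subst h2
  exact ⟨rfl, mul_left_cancel e⟩

theorem Setup.card_N :
    Nat.card (Subgroup.normalizer ((S.P : Subgroup G) : Set G)) = p * Nat.card S.E := by
  refine Eq.trans ?_ (congrArg (· * Nat.card S.E) S.card_P)
  rw [← Nat.card_prod]
  have h : ((Subgroup.normalizer ((S.P : Subgroup G) : Set G) : Subgroup G) : Set G) =
      ((S.P : Subgroup G) : Set G) * (S.E : Set G) := by
    rw [← Subgroup.coe_mul_of_right_le_normalizer_left _ _ S.E_le, S.hPE]
  refine (Nat.card_eq_of_bijective (fun (z : ↥(S.P : Subgroup G) × ↥S.E) =>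
    (⟨(z.1 : G) * z.2, by
      rw [← SetLike.mem_coe, h]
      exact Set.mul_mem_mul z.1.2 z.2.2⟩ : Subgroup.normalizer ((S.P : Subgroup G) : Set G)))
    ⟨fun z w e => ?_, fun n => ?_⟩).symm
  · obtain ⟨h1, h2⟩ := S.eq_of_mul_eq z.1.2 w.1.2 z.2.2 w.2.2 (congrArg Subtype.val e)
    exact Prod.ext (Subtype.ext h1) (Subtype.ext h2)
  · obtain ⟨z, hz, w, hw, e⟩ := Set.mem_mul.1 (h ▸ n.2 :
      (n : G) ∈ ((S.P : Subgroup G) : Set G) * (S.E : Set G))
    exact ⟨(⟨z, hz⟩, ⟨w, hw⟩), Subtype.ext e⟩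

theorem Setup.card_G : Nat.card G = p * Nat.card S.E * Nat.card (Sylow p G) := by
  rw [← S.card_N, S.P.card_eq_index_normalizer]
  exact (Subgroup.card_mul_index _).symm

theorem Setup.exists_exp (h : S.E) : ∃ j : ℕ, (h : G) * S.x * (h : G)⁻¹ = S.x ^ j := by
  obtain ⟨j, -, hj⟩ := S.exists_pow_x ((Subgroup.mem_normalizer_iff.1 (S.E_le h.2) _).1 S.x_mem)
  exact ⟨j, hj.symm⟩

theorem Setup.eq_one_of_commute {h : G} (hh : h ∈ S.E) (hc : h * S.x * h⁻¹ = S.x) : h = 1 := by
  have hC : h ∈ Subgroup.centralizer ((S.P : Subgroup G) : Set G) := by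
    rw [Subgroup.mem_centralizer_iff]
    intro w hw
    obtain ⟨j, -, rfl⟩ := S.exists_pow_x hw
    exact (((show Commute h S.x from mul_inv_eq_iff_eq_mul.1 hc).pow_right j).eq).symm
  rw [S.centralizer_eq] at hC
  have : h ∈ (S.P : Subgroup G) ⊓ S.E := ⟨hC, hh⟩
  rwa [S.hPE', Subgroup.mem_bot] at this

/-- The exponent of an element of the complement. -/
def Setup.expo (h : S.E) : ZMod p := ((S.exists_exp h).choose : ZMod p)

theorem Setup.expo_spec (h : S.E) :
    (h : G) * S.x * (h : G)⁻¹ = S.x ^ (S.expo h).val := by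
  rw [(S.exists_exp h).choose_spec, Setup.expo, ZMod.val_natCast, pow_eq_pow_iff_modEq, S.x_order]
  exact (Nat.mod_modEq _ _).symm

theorem Setup.expo_eq {h : S.E} {j : ℕ} (hj : (h : G) * S.x * (h : G)⁻¹ = S.x ^ j) :
    S.expo h = (j : ZMod p) := by
  rw [S.expo_spec h, pow_eq_pow_iff_modEq, S.x_order, ← ZMod.natCast_eq_natCast_iff,
    ZMod.natCast_zmod_val] at hj
  exact hj

/-- The exponents as a homomorphism. -/
def Setup.expoHom : S.E →* ZMod p where
  toFun := S.expo
  map_one' := by rw [S.expo_eq (h := 1) (j := 1) (by simp), Nat.cast_one]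
  map_mul' a b := by
    rw [S.expo_eq (h := a * b) (j := (S.expo b).val * (S.expo a).val), Nat.cast_mul,
      ZMod.natCast_zmod_val, ZMod.natCast_zmod_val, mul_comm]
    rw [Subgroup.coe_mul, mul_inv_rev, show (a : G) * b * S.x * ((b : G)⁻¹ * (a : G)⁻¹) =
      a * (b * S.x * (b : G)⁻¹) * (a : G)⁻¹ by group, S.expo_spec b, ← conj_pow, S.expo_spec a,
      ← pow_mul, mul_comm]

theorem Setup.expoHom_injective : Function.Injective S.expoHom.toHomUnits := by
  refine (injective_iff_map_eq_one _).2 fun h hh => Subtype.ext (S.eq_one_of_commute h.2 ?_)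
  have h1 : S.expo h = 1 := congrArg Units.val hh
  rw [S.expo_spec h, h1, ZMod.val_one, pow_one]

theorem Setup.isCyclic : IsCyclic S.E :=
  isCyclic_of_injective _ S.expoHom_injective

theorem Setup.e_dvd : Nat.card S.E ∣ p - 1 := by
  have h := Subgroup.card_dvd_of_injective S.expoHom.toHomUnits S.expoHom_injective
  rwa [Nat.card_eq_fintype_card (α := (ZMod p)ˣ), ZMod.card_units] at h

theorem Setup.not_dvd_e : ¬ p ∣ Nat.card S.E := fun h => by
  have h1 := Nat.le_of_dvd (by have := hp.out.one_lt; omega) (h.trans S.e_dvd)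
  have := hp.out.pos
  omega

theorem Setup.comm_E {a b : G} (ha : a ∈ S.E) (hb : b ∈ S.E) : a * b = b * a := by
  haveI := S.isCyclic
  exact congrArg Subtype.val (mul_comm' (⟨a, ha⟩ : S.E) ⟨b, hb⟩)

theorem Setup.not_normal : ¬ (S.P : Subgroup G).Normal := fun hn => by
  haveI := hn
  obtain ⟨χ, hχ, -⟩ := S.huniq
  obtain ⟨d, hd, hdd⟩ := CfsgLib.CharIto.degree_dvd_index_of_abelian_normal χ.2 (S.P : Subgroup G) hn
    (fun a ha b hb => by
      obtain ⟨i, -, rfl⟩ := S.exists_pow_x ha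
      obtain ⟨j, -, rfl⟩ := S.exists_pow_x hb
      rw [← pow_add, ← pow_add, add_comm])
  rw [CharCorr.irr_one_eq_charDegree, hχ, Nat.cast_inj] at hd
  subst hd
  exact S.P.not_dvd_index hdd

theorem Setup.sylow_gt_one : p + 1 ≤ Nat.card (Sylow p G) := by
  have h1 : Nat.card (Sylow p G) ≠ 1 := fun h => S.not_normal (by
    rw [S.P.card_eq_index_normalizer, Subgroup.index_eq_one] at h
    exact Subgroup.normalizer_eq_top_iff.1 h)
  have h2 : Nat.card (Sylow p G) % p = 1 := by
    have := card_sylow_modEq_one p G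
    rwa [Nat.ModEq, Nat.mod_eq_of_lt hp.out.one_lt] at this
  have := Nat.div_add_mod (Nat.card (Sylow p G)) p
  rcases Nat.eq_zero_or_pos (Nat.card (Sylow p G) / p) with h | h
  · rw [h] at this
    omega
  · have := Nat.le_mul_of_pos_right p h
    omega

theorem Setup.two_le_e : 2 ≤ Nat.card S.E := by
  by_contra h
  have h1 : Nat.card S.E = 1 := by
    have := Nat.card_pos (α := S.E)
    omega
  haveI := S.trans
  have hN : Subgroup.normalizer ((S.P : Subgroup G) : Set G) ≤
      Subgroup.centralizer ((S.P : Subgroup G) : Set G) := by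
    rw [← S.hPE, (Subgroup.card_eq_one.1 h1 : S.E = ⊥), sup_bot_eq, S.centralizer_eq]
  have hc := MonoidHom.ker_transferSylow_isComplement' S.P hN
  set K := (MonoidHom.transferSylow S.P hN).ker
  have hK : K = ⊥ := by
    obtain ⟨a⟩ := S.nonempty
    by_contra hK
    haveI : IsPretransitive K α := by
      refine ⟨fun b c => ?_⟩
      have hprim : IsPreprimitive G α := IsPreprimitive.of_prime_card (by rw [S.card_α]; exact hp.out)
      haveI := hprim
      haveI : K.Normal := MonoidHom.normal_ker _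
      have := IsPreprimitive.isQuasiPreprimitive.isPretransitive_of_normal (N := K) (fun hfix => hK
        ((Subgroup.eq_bot_iff_forall K).2 fun k hk => FaithfulSMul.eq_of_smul_eq_smul (α := α)
          fun b => by
            rw [one_smul]
            exact (hfix.ge (Set.mem_univ b)) ⟨k, hk⟩))
      exact exists_smul_eq K b c
    have hd : p ∣ Nat.card K := by
      have h := (stabilizer K a).index_dvd_card
      rwa [index_stabilizer_of_transitive, S.card_α] at h
    have hcard := hc.card_mul_card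
    rw [show Nat.card (S.P : Subgroup G) = p from S.card_P] at hcard
    refine S.sq_not_dvd ?_
    rw [← hcard, sq]
    exact mul_dvd_mul_right hd p
  have hP : (S.P : Subgroup G) = ⊤ := by
    have hcard := hc.card_mul_card
    rw [hK, Subgroup.card_bot, one_mul] at hcard
    exact Subgroup.eq_top_of_card_eq _ hcard
  exact S.not_normal (hP ▸ Subgroup.normal_top)

/-- The complement fixes exactly one point. -/
theorem Setup.exists_point : ∃ a : α, ∀ h : S.E, (h : G) • a = a ∧
    (h ≠ 1 → ∀ b : α, (h : G) • b = b → b = a) := by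
  obtain ⟨b₀⟩ := S.nonempty
  have key : ∀ h : S.E, h ≠ 1 → ∃ a : α, ∀ b : α, (h : G) • b = b ↔ b = a := by
    intro h hh
    obtain ⟨i, hi⟩ := (S.orbit_x b₀).2 ((h : G) • b₀)
    set k := S.expo h with hk
    have hk1 : k ≠ 1 := fun e => hh (Subtype.ext (S.eq_one_of_commute h.2 (by
      rw [S.expo_spec h, ← hk, e, ZMod.val_one, pow_one])))
    -- images of the powers
    have himg : ∀ j : ℕ, (h : G) • S.x ^ j • b₀ = S.x ^ (k.val * j + i) • b₀ := fun j => by
      rw [← mul_smul, show (h : G) * S.x ^ j = ((h : G) * S.x ^ j * (h : G)⁻¹) * h by group,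
        mul_smul, ← conj_pow, S.expo_spec h, ← hk, ← pow_mul, ← hi, ← mul_smul, ← pow_add]
    have heq : ∀ m n : ℕ, S.x ^ m • b₀ = S.x ^ n • b₀ ↔ (m : ZMod p) = (n : ZMod p) := by
      intro m n
      rw [ZMod.natCast_eq_natCast_iff]
      constructor
      · intro e
        have hm : ∀ m : ℕ, S.x ^ m • b₀ = S.x ^ (m % p) • b₀ := fun m => by rw [S.x_pow_mod]
        rw [hm m, hm n] at e
        exact congrArg Fin.val ((S.orbit_x b₀).1 (a₁ := ⟨m % p, Nat.mod_lt _ hp.out.pos⟩)
          (a₂ := ⟨n % p, Nat.mod_lt _ hp.out.pos⟩) e)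
      · intro e
        rw [show S.x ^ m = S.x ^ n by rw [pow_eq_pow_iff_modEq, S.x_order]; exact e]
    set j₀ : ZMod p := (i : ℕ) / (1 - k) with hj₀
    refine ⟨S.x ^ j₀.val • b₀, fun b => ?_⟩
    obtain ⟨j, rfl⟩ := (S.orbit_x b₀).2 b
    simp only
    rw [himg, heq, heq, Nat.cast_add, Nat.cast_mul, ZMod.natCast_zmod_val, ZMod.natCast_zmod_val,
      hj₀, eq_div_iff (sub_ne_zero.2 (Ne.symm hk1))]
    constructor <;> intro e <;> linear_combination -e
  obtain ⟨h₀, hh₀⟩ : ∃ h₀ : S.E, h₀ ≠ 1 := by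
    haveI : Nontrivial S.E := Finite.one_lt_card_iff_nontrivial.1 (by have := S.two_le_e; omega)
    exact exists_ne 1
  obtain ⟨a, ha⟩ := key h₀ hh₀
  have hfix : ∀ h : S.E, (h : G) • a = a := fun h => (ha _).1 (by
    rw [← mul_smul, S.comm_E h₀.2 h.2, mul_smul, (ha a).2 rfl])
  refine ⟨a, fun h => ⟨hfix h, fun hh b hb => ?_⟩⟩
  obtain ⟨a', ha'⟩ := key h hh
  rw [(ha' b).1 hb, (ha' a).1 (hfix h)]

/-- The fixed point of the complement. -/
def Setup.a : α := S.exists_point.choose

theorem Setup.smul_a {h : G} (hh : h ∈ S.E) : h • S.a = S.a :=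
  (S.exists_point.choose_spec ⟨h, hh⟩).1

theorem Setup.eq_a {h : G} (hh : h ∈ S.E) (h1 : h ≠ 1) {b : α} (hb : h • b = b) : b = S.a :=
  (S.exists_point.choose_spec ⟨h, hh⟩).2 (fun e => h1 (congrArg Subtype.val e)) b hb

theorem Setup.mem_normalizer {g y : G} (hy : y ∈ S.E) (h1 : y ≠ 1) (hgy : g * y * g⁻¹ ∈ S.E) :
    g ∈ Subgroup.normalizer (S.E : Set G) := by
  by_contra hg
  have h := S.hTI g hg
  have hmem : g * y * g⁻¹ ∈ S.E ⊓ S.E.map (MulAut.conj g).toMonoidHom := ⟨hgy, y, hy, rfl⟩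
  rw [h, Subgroup.mem_bot, conj_eq_one_iff] at hmem
  exact h1 hmem

theorem Setup.normalizer_le : Subgroup.normalizer (S.E : Set G) ≤ stabilizer G S.a := by
  intro g hg
  obtain ⟨h₀, hh₀, hne⟩ : ∃ h, h ∈ S.E ∧ h ≠ (1 : G) := by
    haveI : Nontrivial S.E := Finite.one_lt_card_iff_nontrivial.1 (by have := S.two_le_e; omega)
    obtain ⟨h, hh⟩ := exists_ne (1 : S.E)
    exact ⟨h, h.2, fun e => hh (Subtype.ext e)⟩
  rw [mem_stabilizer_iff]
  refine S.eq_a hh₀ hne ?_
  have h1 : g⁻¹ * h₀ * g ∈ S.E := by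
    have := (Subgroup.mem_normalizer_iff.1 (inv_mem hg) h₀).1 hh₀
    rwa [inv_inv] at this
  calc h₀ • g • S.a = g • (g⁻¹ * h₀ * g) • S.a := by simp only [← mul_smul]; group
    _ = g • S.a := by rw [S.smul_a h1]

theorem Setup.exists_t : ∃ t : G, t ∈ Subgroup.normalizer (S.E : Set G) ∧ t ∉ S.E := by
  by_contra! h
  have := Subgroup.card_dvd_of_le (show Subgroup.normalizer (S.E : Set G) ≤ S.E from h)
  rw [S.hNE] at this
  have := Nat.le_of_dvd Nat.card_pos this
  have := Nat.card_pos (α := S.E)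
  omega

/-- An element in the second coset. -/
def Setup.t : G := S.exists_t.choose

theorem Setup.index_E :
    (S.E.subgroupOf (Subgroup.normalizer (S.E : Set G))).index = 2 := by
  have h := (S.E.subgroupOf (Subgroup.normalizer (S.E : Set G))).card_mul_index
  rw [Nat.card_congr (Subgroup.subgroupOfEquivOfLe Subgroup.le_normalizer).toEquiv, S.hNE,
    mul_comm 2] at h
  exact Nat.eq_of_mul_eq_mul_left Nat.card_pos h

theorem Setup.coset {g : G} (hg : g ∈ Subgroup.normalizer (S.E : Set G)) :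
    g ∈ S.E ∨ S.t⁻¹ * g ∈ S.E := by
  obtain ⟨ht, htE⟩ := S.exists_t.choose_spec
  by_cases h : g ∈ S.E
  · exact Or.inl h
  · refine Or.inr ?_
    have h1 := Subgroup.mul_mem_iff_of_index_two S.index_E (a := (⟨S.t, ht⟩⁻¹ :
      Subgroup.normalizer (S.E : Set G))) (b := ⟨g, hg⟩)
    simp only [Subgroup.mem_subgroupOf, Subgroup.coe_mul, Subgroup.coe_inv, inv_mem_iff] at h1
    exact h1.2 (iff_of_false htE h)

theorem Setup.tiPair : TIPair S.E S.t := by
  obtain ⟨ht, htE⟩ := S.exists_t.choose_spec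
  refine ⟨fun _ ha _ hb => S.comm_E ha hb, htE,
    fun y hy => (Subgroup.mem_normalizer_iff.1 ht y).1 hy, ?_,
    fun g y hy h1 hgy => S.coset (S.mem_normalizer hy h1 hgy)⟩
  have h := Subgroup.sq_mem_of_index_two S.index_E (⟨S.t, ht⟩ : Subgroup.normalizer (S.E : Set G))
  rwa [Subgroup.mem_subgroupOf, sq] at h

end CfsgLib.PermPrime.DegP
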