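import Cfsg.Agent.Lib.PermPrime.DegP.Family
import Cfsg.Agent.S4441
import Cfsg.Agent.S4503
import Cfsg.Agent.Lib.Blocks.BlockKernel
import Cfsg.Agent.Lib.KGV.Ito

/-!
# A complement of odd order has half the maximal order

The principal block, read through the weights of lattices: every character of the block positive on
the singular elements is principal or of degree `p + 1`.
-/

set_option autoImplicit false
set_option linter.style.haveILetI false
set_option linter.unusedSectionVars false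

noncomputable section

namespace CfsgLib.PermPrime.DegP

open Cfsg CfsgLib.Characters MulAction CfsgLib.CyclicDefect
open scoped ComplexConjugate

universe u

theorem classInner_combo_eq_zero {H : Type u} [Group H] [Fintype H] (n n' : IrrCharacter H → ℕ)
    (h : ∀ φ, n φ = 0 ∨ n' φ = 0) :
    classInner (fun g => ∑ φ : IrrCharacter H, (n φ : ℂ) * (φ : H → ℂ) g)
      (fun g => ∑ φ : IrrCharacter H, (n' φ : ℂ) * (φ : H → ℂ) g) = 0 := by
  classical
  have e : ∀ m : IrrCharacter H → ℕ, (fun g => ∑ φ : IrrCharacter H, (m φ : ℂ) * (φ : H → ℂ) g) =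
      ∑ φ : IrrCharacter H, (m φ : ℂ) • (φ : H → ℂ) := fun m => by
    funext g
    simp [Finset.sum_apply]
  rw [e, e, classInner_sum_left]
  refine Finset.sum_eq_zero fun φ _ => ?_
  rw [classInner_smul_left, classInner_sum_right]
  rcases h φ with h0 | h0
  · rw [h0, Nat.cast_zero, zero_mul]
  · refine mul_eq_zero.2 (Or.inr (Finset.sum_eq_zero fun ψ _ => ?_))
    rw [classInner_smul_right, classInner_irr]
    split_ifs with hψ
    · rw [← hψ, h0, Nat.cast_zero, map_zero, zero_mul]
    · rw [mul_zero]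

/-- A character not vanishing on some singular element lies in the principal block. -/
theorem mem_principalBlock_of_sing {H : Type u} [Group H] [Fintype H] {q : ℕ} [Fact q.Prime]
    {M : Ideal AlgInt} (hM : IsPModular q M) (Q : Sylow q H) (hQ : Nat.card Q = q)
    (hC : Subgroup.centralizer ((Q : Subgroup H) : Set H) = (Q : Subgroup H))
    (ψ : IrrCharacter H) {g : H} (hg : q ∣ orderOf g) (hne : (ψ : H → ℂ) g ≠ 0) :
    ψ ∈ principalBlock M H := by
  classical
  obtain ⟨c, hc, hc1⟩ := exists_conj_mem Q hQ hC hg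
  rw [← irr_isClassFunction ψ g c] at hne
  obtain ⟨L, rfl⟩ := exists_loc Q hQ
  letI := Fintype.ofFinite L.C
  letI := Fintype.ofFinite L.O
  letI := Fintype.ofFinite L.Dual
  rw [← L.indB_principal hM]
  by_contra hmem
  have hO : ∀ y : L.O, y = 1 := by
    intro y
    obtain ⟨hy1, hy2⟩ := L.mem_O.1 y.2
    refine Subtype.ext ?_
    by_contra hy
    exact hy2 (dvd_of_eq (dvd_orderOf_of_mem L.P hQ (hC.le hy1) hy).symm)
  haveI : Subsingleton L.O := ⟨fun a b => by rw [hO a, hO b]⟩
  have hpow : c * g * c⁻¹ ∈ Subgroup.zpowers L.x := by rw [L.zpowers]; exact hc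
  obtain ⟨j, hj⟩ := mem_powers_iff_mem_zpowers.2 hpow
  have hj : L.x ^ j = c * g * c⁻¹ := hj
  have hjx : L.x ^ (j % q) = c * g * c⁻¹ := by
    rw [← hj]
    conv_rhs => rw [← Nat.div_add_mod j q, pow_add, pow_mul, L.x_pow_p, one_pow, one_mul]
  have hj0 : 0 < j % q := Nat.pos_of_ne_zero fun h => hc1 (by rw [← hjx, h, pow_zero])
  have h := L.proj (irr_isClassFunction ψ) (j % q) (principalIrr L.O)
  rw [Fintype.sum_subsingleton _ (1 : L.O)] at h
  have hconst : ∀ lam : L.Dual, L.coef (ψ : H → ℂ) lam (principalIrr L.O) =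
      L.coef (ψ : H → ℂ) 1 (principalIrr L.O) := fun lam => L.coef_const hM hmem lam 1
  simp only [hconst, ← Finset.mul_sum, OneMemClass.coe_one, mul_one] at h
  rw [L.sum_dual_pow_eq_zero hj0 (Nat.mod_lt _ (Fact.out : q.Prime).pos), mul_zero, mul_zero,
    show (principalIrr L.O : L.O → ℂ) 1 = 1 from rfl, map_one, one_mul, hjx] at h
  exact hne h

variable {p : ℕ} [hp : Fact p.Prime] {α : Type u} [Fintype α] [DecidableEq α]
  {G : Subgroup (Equiv.Perm α)} [Fintype G] (S : Setup p G) [Fintype S.E]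

include S

theorem Setup.sum_conj_mul (l k : S.E →* ℂ) :
    ∑ h : S.E, k h⁻¹ * l h = if l = k then (Nat.card S.E : ℂ) else 0 := by
  let m : S.E →* ℂ :=
    { toFun := fun h => k h⁻¹ * l h
      map_one' := by rw [inv_one, map_one, map_one, mul_one]
      map_mul' := fun a b => by
        rw [mul_inv_rev, map_mul, map_mul]
        ring }
  split_ifs with h
  · subst h
    rw [Finset.sum_congr rfl fun y _ => show l y⁻¹ * l y = 1 by
      rw [← map_mul, inv_mul_cancel, map_one], Finset.sum_const, Finset.card_univ, nsmul_one,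
      Nat.card_eq_fintype_card]
  · refine sum_hom_units_eq_zero m fun hm => h (MonoidHom.ext fun y => ?_)
    have h1 : k y⁻¹ * l y = 1 := DFunLike.congr_fun hm y
    have h2 : k y * k y⁻¹ = 1 := by rw [← map_mul, mul_inv_cancel, map_one]
    linear_combination k y * h1 - l y * h2

theorem Setup.orderOf_pow_x {i : ℕ} (h1 : 1 ≤ i) (hip : i < p) : orderOf (S.x ^ i) = p := by
  rw [Nat.Coprime.orderOf_pow, S.x_order]
  rw [S.x_order]
  exact hp.out.coprime_iff_not_dvd.2 fun hd => by
    have := Nat.le_of_dvd h1 hd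
    omega

theorem Setup.axis_of_const (f : G → ℂ) {c : ℂ} (hf : ∀ g : G, p ∣ orderOf g → f g = c) :
    ∑ i ∈ Finset.range p, f (S.x ^ i) = f 1 + ((p : ℂ) - 1) * c := by
  rw [Finset.range_eq_Ico, Finset.sum_eq_sum_Ico_succ_bot hp.out.pos, pow_zero,
    Finset.sum_congr rfl fun i hi => hf _ (S.orderOf_pow_x (Finset.mem_Ico.1 hi).1
      (Finset.mem_Ico.1 hi).2).symm.dvd, Finset.sum_const, Nat.card_Ico, nsmul_eq_mul,
    Nat.cast_sub (by have := hp.out.one_lt; omega)]
  push_cast
  ring

/-- A character of degree `p + 1` has a lattice with its weight. -/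
theorem Setup.exists_big_weight (hodd : Odd (Nat.card S.E)) (j : Fin (Nat.card S.E))
    (h : S.Moved (S.lin j)) :
    ∃ (d : ℕ) (ρ : G →* Matrix (Fin d) (Fin d) (WittRing p)) (c : ℕ),
      (∀ g, toC p (ρ g).trace = (c : ℂ) * (S.big (S.lin j) h : G → ℂ) g) ∧
      HasWeight p ρ S.x S.E (S.ws.ν j) := by
  classical
  set X := S.big (S.lin j) h with hX
  obtain ⟨d, ρ, n, hn, htr, j', hw⟩ := exists_lattice_weight S.P S.card_P S.centralizer_eq S.x_order
    S.x_mem S.E S.hPE.symm S.sq_not_dvd S.dvd_card S.ws S.not_dvd_e X (S.big_ne_principal h)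
    (fun φ hφ => by rw [S.eq_big_of_agree h hφ]; exact S.big_ne_principal h) (S.big_axis h)
    (by rw [S.big_deg h]; have := hp.out.two_le; omega)
  have htr' : ∀ g, toC p (ρ g).trace = (n X : ℂ) * (X : G → ℂ) g := fun g => by
    rw [htr g, Finset.sum_eq_single X]
    · intro φ _ hφ
      rw [show n φ = 0 from by_contra fun hn0 => hφ (S.eq_big_of_agree h (hn φ hn0)), Nat.cast_zero,
        zero_mul]
    · exact fun hh => absurd (Finset.mem_univ _) hh
  have hne := weight_occurs S.P S.card_P S.x_order S.x_mem S.E S.hPE.symm ρ hw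
  have hval : ∀ y : S.E, ∑ i ∈ Finset.range p, toC p (ρ ((y : G) * S.x ^ i)).trace =
      (n X : ℂ) * ((p : ℂ) * (S.lin j y + S.lin j y⁻¹)) := by
    intro y
    simp only [htr', ← Finset.mul_sum]
    congr 1
    by_cases hy : y = 1
    · subst hy
      simp only [OneMemClass.coe_one, one_mul, inv_one, map_one, hX]
      rw [S.big_axis h]
      norm_num
    · rw [S.sum_coset _ (irr_isClassFunction X) hy, hX, S.big_mem h hy, S.tw_eq_inv hodd]
  simp only [hval] at hne
  have hsplit : ∀ y : S.E, toC p (S.ws.ν j' y⁻¹) * ((n X : ℂ) * ((p : ℂ) * (S.lin j y + S.lin j y⁻¹))) =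
      (n X : ℂ) * (p : ℂ) * (S.lin j' y⁻¹ * S.lin j y + S.lin j' y⁻¹ * S.lin j y⁻¹) := fun y => by
    show S.lin j' y⁻¹ * _ = _
    ring
  simp only [hsplit, ← Finset.mul_sum, Finset.sum_add_distrib] at hne
  let li : S.E →* ℂ :=
    { toFun := fun y => S.lin j y⁻¹
      map_one' := by rw [inv_one, map_one]
      map_mul' := fun a b => by rw [mul_inv_rev, map_mul, mul_comm] }
  have hs1 := S.sum_conj_mul (S.lin j) (S.lin j')
  have hs2 : ∑ y : S.E, S.lin j' y⁻¹ * S.lin j y⁻¹ = if li = S.lin j' then (Nat.card S.E : ℂ) else 0 :=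
    S.sum_conj_mul li (S.lin j')
  rw [hs1, hs2] at hne
  have hν : ∀ {a b : Fin (Nat.card S.E)}, S.lin a = S.lin b → S.ws.ν a = S.ws.ν b := fun hab =>
    MonoidHom.ext fun y => toC_injective p (DFunLike.congr_fun hab y)
  by_cases hj : S.lin j = S.lin j'
  · exact ⟨d, ρ, n X, htr', hν hj ▸ hw⟩
  · have hj' : li = S.lin j' := by
      by_contra hj'
      rw [if_neg hj, if_neg hj'] at hne
      exact hne (by ring)
    refine ⟨d, dualRep ρ, n X, fun g => ?_, ?_⟩
    · rw [dualRep_trace, htr', irr_apply_inv, hX, S.big_conj hodd h]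
    · refine hw.dual ρ witt_prime (witt_not_dvd S.not_dvd_e)
        (exists_conj_pow S.P S.card_P S.x_order S.x_mem S.E S.hPE.symm) fun y => ?_
      refine toC_injective p ?_
      have h1 : S.lin j y⁻¹⁻¹ = S.lin j' y⁻¹ := DFunLike.congr_fun hj' y⁻¹
      rwa [inv_inv] at h1

/-- **Positivity.** A character whose sum over the Sylow subgroup exceeds its degree is principal or
has degree `p + 1`. -/
theorem Setup.positive (hodd : Odd (Nat.card S.E)) {χ : IrrCharacter G}
    (h1 : χ ≠ principalIrr G) (hbig : ∀ l (h : S.Moved l), χ ≠ S.big l h) {m : ℕ}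
    (hS : ∑ i ∈ Finset.range p, (χ : G → ℂ) (S.x ^ i) = (p : ℂ) * m)
    (hdeg : charDegree (χ : G → ℂ) < p * m) : False := by
  classical
  have h1r : ¬ p ∣ orderOf (1 : G) := by rw [orderOf_one]; exact hp.out.not_dvd_one
  have hag : ∀ φ : IrrCharacter G, (∀ g : G, ¬ p ∣ orderOf g → (φ : G → ℂ) g = (χ : G → ℂ) g) →
      φ ≠ principalIrr G := by
    intro φ hφ e
    refine h1 (S.eq_principal (LinearTwist.charDegree_eq_of_apply_one ?_))
    rw [← hφ 1 h1r, e, Nat.cast_one]
    rfl
  obtain ⟨d, ρ, n, hn, htr, j, hw⟩ := exists_lattice_weight S.P S.card_P S.centralizer_eq S.x_order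
    S.x_mem S.E S.hPE.symm S.sq_not_dvd S.dvd_card S.ws S.not_dvd_e χ h1 hag hS hdeg
  have hzero : ∀ ψ : IrrCharacter G, n ψ ≠ 0 → ψ ≠ principalIrr G := fun ψ hψ => hag ψ (hn ψ hψ)
  by_cases hl : S.lin j = 1
  · have hνj : S.ws.ν j = 1 := MonoidHom.ext fun y => toC_injective p (by
      rw [MonoidHom.one_apply, map_one]
      exact DFunLike.congr_fun hl y)
    let ρ' : G →* Matrix (Fin 1) (Fin 1) (WittRing p) := 1
    refine weight_unique S.P S.card_P S.x_order S.x_mem S.E S.hPE.symm S.not_dvd_e ρ ρ' ?_ hw ?_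
    · have e : (fun g => toC p (ρ' g).trace) = fun g => ∑ φ : IrrCharacter G,
          ((if φ = principalIrr G then 1 else 0 : ℕ) : ℂ) * (φ : G → ℂ) g := by
        funext g
        rw [Finset.sum_eq_single (principalIrr G) (fun φ _ hφ => by
          rw [if_neg hφ, Nat.cast_zero, zero_mul]) fun h => absurd (Finset.mem_univ _) h, if_pos rfl]
        simp [ρ', principalIrr]
      rw [e, show (fun g => toC p (ρ g).trace) = _ from funext htr]
      refine classInner_combo_eq_zero _ _ fun φ => ?_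
      by_cases hφ : φ = principalIrr G
      · exact Or.inr (by_contra fun h => hzero φ h hφ)
      · exact Or.inl (if_neg hφ)
    · refine ⟨1, 1, by simp [ρ'], by simp [ρ'], ?_, fun h => by simp [ρ', hνj]⟩
      simpa [dotProduct] using (witt_prime (p := p)).not_isUnit ∘ isUnit_of_dvd_one
  · have hM := S.moved_of_ne_one hodd hl
    obtain ⟨d', ρ', c, htr', hw'⟩ := S.exists_big_weight hodd j hM
    refine weight_unique S.P S.card_P S.x_order S.x_mem S.E S.hPE.symm S.not_dvd_e ρ ρ' ?_ hw hw'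
    have e : (fun g => toC p (ρ' g).trace) = fun g => ∑ φ : IrrCharacter G,
        ((if φ = S.big _ hM then c else 0 : ℕ) : ℂ) * (φ : G → ℂ) g := by
      funext g
      simp [htr' g]
    rw [e, show (fun g => toC p (ρ g).trace) = _ from funext htr]
    refine classInner_combo_eq_zero _ _ fun φ => ?_
    by_cases hφ : φ = S.big _ hM
    · refine Or.inr (by_contra fun h => hbig _ hM (S.eq_big_of_agree hM fun g hg => ?_))
      rw [← hn φ h g hg, hφ]
    · exact Or.inl (if_neg hφ)

theorem Setup.three_le (hodd : Odd (Nat.card S.E)) :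
    3 ≤ Nat.card S.E ∧ 2 * Nat.card S.E + 1 ≤ p ∧ p ≠ 2 := by
  obtain ⟨c, hc⟩ := hodd
  have h2 := S.two_le_e
  have hr := S.p_eq
  have hp2 : p ≠ 2 := fun h => by
    have h1 : Nat.card S.E * S.r = 1 := by omega
    have := Nat.le_of_dvd one_pos (Dvd.intro S.r h1)
    omega
  refine ⟨by omega, ?_, hp2⟩
  have heven : Even (Nat.card S.E * S.r) := by
    obtain ⟨k, hk⟩ := hp.out.odd_of_ne_two hp2
    exact ⟨k, by omega⟩
  have hr2 : 2 ≤ S.r := by
    rcases Nat.lt_or_ge S.r 2 with h | h
    · interval_cases hrr : S.r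
      · have := hp.out.one_lt
        omega
      · rw [mul_one] at heven
        exact absurd heven (Nat.not_even_iff_odd.2 ⟨c, hc⟩)
    · exact h
  have := Nat.mul_le_mul_left (Nat.card S.E) hr2
  omega

theorem Setup.relIndex_eq :
    (Subgroup.centralizer ((S.P : Subgroup G) : Set G)).relIndex
      (Subgroup.normalizer ((S.P : Subgroup G) : Set G)) = Nat.card S.E := by
  rw [S.centralizer_eq]
  have h := ((S.P : Subgroup G).subgroupOf
    (Subgroup.normalizer ((S.P : Subgroup G) : Set G))).card_mul_index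
  rw [Nat.card_congr (Subgroup.subgroupOfEquivOfLe Subgroup.le_normalizer).toEquiv,
    show Nat.card (S.P : Subgroup G) = p from S.card_P, S.card_N] at h
  exact Nat.eq_of_mul_eq_mul_left hp.out.pos h

theorem Setup.faithful {χ : IrrCharacter G} (hχ : χ ≠ principalIrr G) (g : G)
    (hg : (χ : G → ℂ) g = (χ : G → ℂ) 1) : g = 1 := by
  haveI := S.isSimpleGroup
  obtain ⟨K, hKn, hK⟩ := CfsgLib.Blocks.exists_kerSubgroup χ
  rcases hKn.eq_bot_or_eq_top with h | h
  · exact (Subgroup.mem_bot).1 (h ▸ (hK g).2 hg)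
  · refine absurd (S.eq_principal (LinearTwist.charDegree_eq_of_apply_one ?_)) hχ
    have h0 := S.sum_irr_eq_zero hχ
    rw [Finset.sum_congr rfl fun x _ => (hK x).1 (h ▸ Subgroup.mem_top x), Finset.sum_const,
      Finset.card_univ, nsmul_eq_mul, mul_eq_zero] at h0
    exact absurd (h0.resolve_left (Nat.cast_ne_zero.2 Fintype.card_ne_zero)) (irr_one_ne_zero χ)

/-- The distinct characters of degree `p + 1` number at most half the moved weights. -/
theorem Setup.exists_bigSet (hodd : Odd (Nat.card S.E)) :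
    ∃ 𝒳 : Finset (IrrCharacter G), 2 * 𝒳.card + 1 ≤ Nat.card S.E ∧
      (∀ l (h : S.Moved l), S.big l h ∈ 𝒳) ∧ ∀ χ ∈ 𝒳, ∃ l, ∃ h : S.Moved l, S.big l h = χ := by
  classical
  let F : Fin (Nat.card S.E) → IrrCharacter G := fun j =>
    if h : S.Moved (S.lin j) then S.big (S.lin j) h else principalIrr G
  set T := Finset.univ.filter fun j : Fin (Nat.card S.E) => S.lin j ≠ 1 with hT
  have hsurj : ∀ l : S.E →* ℂ, ∃ j, S.lin j = l := fun l => by
    obtain ⟨j, hj⟩ := S.ws.surj l
    exact ⟨j, MonoidHom.ext hj⟩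
  have hTc : T.card + 1 ≤ Nat.card S.E := by
    obtain ⟨j, hj⟩ := hsurj 1
    have := Finset.card_lt_univ_of_notMem (s := T) (x := j) (by simp [hT, hj])
    rw [Fintype.card_fin] at this
    exact this
  refine ⟨T.image F, ?_, fun l h => ?_, fun χ hχ => ?_⟩
  · have h2 : (T.image F).card * 2 ≤ T.card := by
      rw [mul_comm]
      refine Finset.mul_card_image_le_card (f := F) T 2 fun a ha => ?_
      obtain ⟨j, hj, rfl⟩ := Finset.mem_image.1 ha
      have hj1 : S.lin j ≠ 1 := (Finset.mem_filter.1 hj).2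
      have hM := S.moved_of_ne_one hodd hj1
      let li : S.E →* ℂ :=
        { toFun := fun y => S.lin j y⁻¹
          map_one' := by rw [inv_one, map_one]
          map_mul' := fun a b => by rw [mul_inv_rev, map_mul, mul_comm] }
      obtain ⟨j', hj'⟩ := hsurj li
      have hne : j' ≠ j := fun e => by
        obtain ⟨y, hy⟩ := hM.2
        rw [S.tw_eq_inv hodd] at hy
        exact hy (DFunLike.congr_fun (e ▸ hj') y).symm
      have hj'1 : S.lin j' ≠ 1 := fun e => hj1 (MonoidHom.ext fun y => by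
        have h1 : S.lin j y⁻¹⁻¹ = 1 := (DFunLike.congr_fun hj' y⁻¹).symm.trans (DFunLike.congr_fun e y⁻¹)
        rwa [inv_inv] at h1)
      have hF : F j' = F j := by
        simp only [F, dif_pos (S.moved_of_ne_one hodd hj'1), dif_pos hM]
        exact S.big_inv hodd hM _ fun y => DFunLike.congr_fun hj' y
      refine le_trans (Finset.card_pair hne).ge (Finset.card_le_card fun k hk => ?_)
      rcases Finset.mem_insert.1 hk with rfl | hk
      · exact Finset.mem_filter.2 ⟨Finset.mem_filter.2 ⟨Finset.mem_univ _, hj'1⟩, hF⟩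
      · rw [Finset.mem_singleton.1 hk]
        exact Finset.mem_filter.2 ⟨hj, rfl⟩
    omega
  · obtain ⟨j, rfl⟩ := hsurj l
    refine Finset.mem_image.2 ⟨j, Finset.mem_filter.2 ⟨Finset.mem_univ _, h.1⟩, ?_⟩
    simp only [F, dif_pos h]
  · obtain ⟨j, hj, rfl⟩ := Finset.mem_image.1 hχ
    have hM := S.moved_of_ne_one hodd (Finset.mem_filter.1 hj).2
    exact ⟨S.lin j, hM, by simp only [F, dif_pos hM]⟩

/-- **A complement of odd order.** -/
theorem Setup.p_eq_two_mul (hodd : Odd (Nat.card S.E)) : p = 2 * Nat.card S.E + 1 := by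
  classical
  obtain ⟨he3, he2, hp2⟩ := S.three_le hodd
  obtain ⟨M, hM⟩ := CfsgLib.KGV.exists_isPModular p hp.out
  obtain ⟨X, Y, hB, hdisj, hXc, hYc, εX, ε, hX, hε, hYdeg, hYag, hrel⟩ :=
    Cfsg.Agent.S4441.result p M hM hp2 S.P S.card_P _ S.relIndex_eq
  have h1r : ¬ p ∣ orderOf (1 : G) := by rw [orderOf_one]; exact hp.out.not_dvd_one
  have hxs : p ∣ orderOf S.x := S.x_order.symm.dvd
  have hsing : ∀ χ ∈ X, ∀ g : G, p ∣ orderOf g → (χ : G → ℂ) g = (εX χ : ℂ) := by
    intro χ hχ g hg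
    obtain ⟨c, hc, hc1⟩ := exists_conj_mem S.P S.card_P S.centralizer_eq hg
    rw [← irr_isClassFunction χ g c, ← (hX χ hχ).2.2 _ hc hc1 1 (Subgroup.one_mem _) h1r, mul_one]
  -- characters of degree congruent to a sign and not vanishing lie in X
  have hinX : ∀ (χ : IrrCharacter G) (δ : ℤ), (δ = 1 ∨ δ = -1) →
      (charDegree (χ : G → ℂ) : ℤ) ≡ δ [ZMOD p] → (χ : G → ℂ) S.x ≠ 0 → χ ∈ X := by
    intro χ δ hδ hd hne
    have hmem := mem_principalBlock_of_sing hM S.P S.card_P S.centralizer_eq χ hxs hne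
    rw [hB] at hmem
    refine hmem.resolve_right fun hY => ?_
    obtain ⟨k, hk⟩ := Int.modEq_iff_dvd.1 ((hYdeg χ hY).symm.trans hd)
    have h3 : (p : ℤ) ∣ ((Nat.card S.E : ℤ) - 1) ∨ (p : ℤ) ∣ ((Nat.card S.E : ℤ) + 1) := by
      rcases hδ with rfl | rfl <;> rcases hε with he | he <;> rw [he] at hk
      · exact Or.inl ⟨-k, by linear_combination -hk⟩
      · exact Or.inr ⟨k, by linear_combination hk⟩
      · exact Or.inr ⟨-k, by linear_combination -hk⟩
      · exact Or.inl ⟨k, by linear_combination hk⟩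
    rcases h3 with h3 | h3 <;> have := Int.le_of_dvd (by omega) h3 <;> omega
  obtain ⟨𝒳, h𝒳c, h𝒳, h𝒳only⟩ := S.exists_bigSet hodd
  have hprin : principalIrr G ∈ X := by
    refine hinX _ 1 (Or.inl rfl) ?_ ?_
    · rw [show charDegree (principalIrr G : G → ℂ) = 1 by simp [charDegree, principalIrr]]
      rfl
    · simp [principalIrr]
  have hbigX : ∀ l (h : S.Moved l), S.big l h ∈ X := fun l h => by
    refine hinX _ 1 (Or.inl rfl) ?_ ?_
    · rw [S.big_deg h]
      exact Int.modEq_iff_dvd.2 ⟨-1, by push_cast; ring⟩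
    · rw [S.big_sing h hxs]
      exact one_ne_zero
  have hneg : ∀ χ ∈ X, χ ≠ principalIrr G → χ ∉ 𝒳 →
      εX χ * (charDegree (χ : G → ℂ) : ℤ) ≤ -((p : ℤ) - 1) := by
    intro χ hχ h1 h2
    have hd := (hX χ hχ).2.1
    have hd0 := CfsgLib.Chars17.irrDegree_pos χ
    rcases (hX χ hχ).1 with he | he <;> rw [he] at hd ⊢
    · exfalso
      obtain ⟨k, hk⟩ : p ∣ charDegree (χ : G → ℂ) - 1 := by
        have := Int.modEq_iff_dvd.1 hd.symm
        rw [show (charDegree (χ : G → ℂ) : ℤ) - 1 = ((charDegree (χ : G → ℂ) - 1 : ℕ) : ℤ) by omega,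
          Int.natCast_dvd_natCast] at this
        exact this
      refine S.positive hodd h1 (fun l h e => h2 (e ▸ h𝒳 l h)) (m := k + 1) ?_ ?_
      · rw [S.axis_of_const _ (c := 1) fun g hg => by rw [hsing χ hχ g hg, he, Int.cast_one],
          CharCorr.irr_one_eq_charDegree, show charDegree (χ : G → ℂ) = p * k + 1 by omega]
        push_cast
        ring
      · rw [Nat.mul_add, mul_one]
        omega
    · have := Int.le_of_dvd (by omega : (0 : ℤ) < (charDegree (χ : G → ℂ) : ℤ) + 1)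
        (show (p : ℤ) ∣ (charDegree (χ : G → ℂ) : ℤ) + 1 from
          sub_neg_eq_add (charDegree (χ : G → ℂ) : ℤ) 1 ▸ Int.modEq_iff_dvd.1 hd.symm)
      omega
  -- the exceptional characters
  have hr2 : 2 ≤ (p - 1) / Nat.card S.E := by
    rw [Nat.le_div_iff_mul_le (by omega)]
    omega
  obtain ⟨θ, hθ⟩ : Y.Nonempty := by
    by_contra h
    rw [Set.not_nonempty_iff_eq_empty.1 h, Nat.card_coe_set_eq, Set.ncard_empty] at hYc
    omega
  have hYne : ∀ φ ∈ Y, φ ≠ principalIrr G := fun φ hφ e =>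
    Set.disjoint_left.1 hdisj (e ▸ hprin) hφ
  set y := charDegree (θ : G → ℂ) with hy
  have hy0 : 0 < y := CfsgLib.Chars17.irrDegree_pos θ
  set XF := (Set.toFinite X).toFinset
  set YF := (Set.toFinite Y).toFinset
  have hXF : XF.card = Nat.card S.E := by
    rw [← Set.ncard_eq_toFinset_card, ← Nat.card_coe_set_eq, hXc]
  have hYF : YF.card = (p - 1) / Nat.card S.E := by
    rw [← Set.ncard_eq_toFinset_card, ← Nat.card_coe_set_eq, hYc]
  have hT : ε * (y : ℤ) = ∑ χ ∈ XF, εX χ * (charDegree (χ : G → ℂ) : ℤ) := by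
    have h := hrel θ hθ 1 h1r
    rw [finsum_mem_eq_finite_toFinset_sum _ (Set.toFinite X)] at h
    simp only [CharCorr.irr_one_eq_charDegree, ← hy] at h
    exact_mod_cast h
  have hε1 : ε = 1 := by
    refine hε.resolve_right fun he => ?_
    rw [he] at hT
    have hcol : ∀ g : G, p ∣ orderOf g → ∑ φ ∈ YF, (φ : G → ℂ) g = 1 := by
      intro g hg
      have hg1 : g ≠ 1 := fun e => h1r (e ▸ hg)
      have h := sum_degree_mul_irr g
      rw [if_neg hg1, ← Finset.sum_subset (Finset.subset_univ (XF ∪ YF)), Finset.sum_union] at h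
      · rw [Finset.sum_congr rfl fun χ hχ => by
          rw [hsing χ ((Set.Finite.mem_toFinset _).1 hχ) g hg, CharCorr.irr_one_eq_charDegree],
          Finset.sum_congr (s₁ := YF) rfl fun φ hφ => by
            rw [← hYag θ hθ φ ((Set.Finite.mem_toFinset _).1 hφ) 1 h1r,
              CharCorr.irr_one_eq_charDegree, ← hy],
          ← Finset.mul_sum] at h
        have hTc := congrArg (fun z : ℤ => (z : ℂ)) hT
        push_cast at hTc
        have h2 : (y : ℂ) * (∑ φ ∈ YF, (φ : G → ℂ) g - 1) = 0 := by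
          rw [Finset.sum_congr (s₁ := XF) rfl fun χ _ => mul_comm (charDegree (χ : G → ℂ) : ℂ) (εX χ : ℂ),
            ← hTc] at h
          linear_combination h
        exact sub_eq_zero.1 ((mul_eq_zero.1 h2).resolve_left (Nat.cast_ne_zero.2 hy0.ne'))
      · rw [Finset.disjoint_left]
        exact fun φ h1 h2 => Set.disjoint_left.1 hdisj ((Set.Finite.mem_toFinset _).1 h1)
          ((Set.Finite.mem_toFinset _).1 h2)
      · intro φ _ hφ
        refine mul_eq_zero.2 (Or.inr (by_contra fun hne => hφ ?_))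
        have hmem := mem_principalBlock_of_sing hM S.P S.card_P S.centralizer_eq φ hg hne
        rw [hB] at hmem
        exact Finset.mem_union.2 (hmem.imp (Set.Finite.mem_toFinset _).2 (Set.Finite.mem_toFinset _).2)
    have hag : ∀ φ ∈ YF, ∑ i ∈ Finset.range p, (φ : G → ℂ) (S.x ^ i) =
        ∑ i ∈ Finset.range p, (θ : G → ℂ) (S.x ^ i) := fun φ hφ =>
      axis_eq_of_agree S.P S.card_P S.centralizer_eq S.x_order S.x_mem (hYne θ hθ)
        (hYne φ ((Set.Finite.mem_toFinset _).1 hφ))
        (fun g hg => hYag φ ((Set.Finite.mem_toFinset _).1 hφ) θ hθ g hg)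
    have hsum := S.axis_of_const (fun g => ∑ φ ∈ YF, (φ : G → ℂ) g) hcol
    beta_reduce at hsum
    rw [Finset.sum_comm, Finset.sum_congr rfl hag, Finset.sum_const, nsmul_eq_mul, hYF,
      Finset.sum_congr (s₁ := YF) rfl fun φ hφ => by
        rw [← hYag θ hθ φ ((Set.Finite.mem_toFinset _).1 hφ) 1 h1r, CharCorr.irr_one_eq_charDegree],
      Finset.sum_const, nsmul_eq_mul, hYF, ← hy, mul_one] at hsum
    have hpe : (p - 1) / Nat.card S.E * Nat.card S.E = p - 1 := Nat.div_mul_cancel S.e_dvd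
    have hpe' : (((p - 1) / Nat.card S.E : ℕ) : ℂ) * (Nat.card S.E : ℂ) = (p : ℂ) - 1 := by
      rw [← Nat.cast_mul, hpe, Nat.cast_sub hp.out.one_le, Nat.cast_one]
    have haxis : ∑ i ∈ Finset.range p, (θ : G → ℂ) (S.x ^ i) = ((y + Nat.card S.E : ℕ) : ℂ) := by
      refine mul_left_cancel₀ (Nat.cast_ne_zero.2 (by omega : (p - 1) / Nat.card S.E ≠ 0)) ?_
      rw [hsum, Nat.cast_add, mul_add, hpe']
    obtain ⟨m, hm⟩ : p ∣ y + Nat.card S.E := by
      have h := Int.modEq_iff_dvd.1 (hYdeg θ hθ).symm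
      rw [he, ← hy, show (y : ℤ) - -1 * (Nat.card S.E : ℤ) = ((y + Nat.card S.E : ℕ) : ℤ) by push_cast; ring,
        Int.natCast_dvd_natCast] at h
      exact h
    refine S.positive hodd (hYne θ hθ) (fun l h e => Set.disjoint_left.1 hdisj (e ▸ hbigX l h) hθ)
      (m := m) ?_ ?_
    · rw [haxis, hm, Nat.cast_mul]
    · rw [← hy, ← hm]
      omega
  rw [hε1, one_mul] at hT
  have hbound : (y : ℤ) ≤ Nat.card S.E := by
    have h1 : ∀ χ ∈ XF, εX χ * (charDegree (χ : G → ℂ) : ℤ) ≤ -((p : ℤ) - 1) +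
        ((if χ = principalIrr G then (p : ℤ) else 0) + (if χ ∈ 𝒳 then 2 * (p : ℤ) else 0)) := by
      intro χ hχ
      have hd := (hX χ ((Set.Finite.mem_toFinset _).1 hχ))
      by_cases h1 : χ = principalIrr G
      · rw [if_pos h1, h1, show charDegree (principalIrr G : G → ℂ) = 1 by simp [charDegree, principalIrr]]
        have : εX (principalIrr G) ≤ 1 := by
          rcases (hX _ hprin).1 with e | e <;> omega
        split_ifs <;> push_cast <;> omega
      rw [if_neg h1]
      by_cases h2 : χ ∈ 𝒳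
      · rw [if_pos h2]
        have hdeg : (charDegree (χ : G → ℂ) : ℤ) ≤ (p : ℤ) + 1 := by
          obtain ⟨l, hl, rfl⟩ := h𝒳only χ h2
          rw [S.big_deg hl]
          push_cast
          exact le_rfl
        have hd0 := CfsgLib.Chars17.irrDegree_pos χ
        rcases hd.1 with e | e <;> rw [e] <;> omega
      · rw [if_neg h2]
        have := hneg χ ((Set.Finite.mem_toFinset _).1 hχ) h1 h2
        omega
    rw [hT]
    refine (Finset.sum_le_sum h1).trans ?_
    rw [Finset.sum_add_distrib, Finset.sum_add_distrib, Finset.sum_const, hXF, nsmul_eq_mul,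
      ← Finset.sum_filter, ← Finset.sum_filter, Finset.sum_const, Finset.sum_const, nsmul_eq_mul,
      nsmul_eq_mul]
    have c1 : (XF.filter fun χ => χ = principalIrr G).card ≤ 1 :=
      Finset.card_le_one.2 fun a ha b hb => (Finset.mem_filter.1 ha).2.trans (Finset.mem_filter.1 hb).2.symm
    have c2 : (XF.filter fun χ => χ ∈ 𝒳).card ≤ 𝒳.card :=
      Finset.card_le_card fun a ha => (Finset.mem_filter.1 ha).2
    have c1' : ((XF.filter fun χ => χ = principalIrr G).card : ℤ) * p ≤ 1 * p :=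
      mul_le_mul_of_nonneg_right (by exact_mod_cast c1) (by positivity)
    have c2' : (2 * ((XF.filter fun χ => χ ∈ 𝒳).card : ℤ)) * p ≤ ((Nat.card S.E : ℤ) - 1) * p :=
      mul_le_mul_of_nonneg_right (by omega) (by positivity)
    linear_combination c1' + c2'
  have hye : y = Nat.card S.E := by
    obtain ⟨k, hk⟩ := Int.modEq_iff_dvd.1 (hYdeg θ hθ)
    rw [hε1, one_mul, ← hy] at hk
    by_contra hne
    have h1 : (0 : ℤ) < (Nat.card S.E : ℤ) - y := by omega
    have h2 := Int.le_of_dvd h1 ⟨k, hk⟩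
    omega
  have h := Cfsg.Agent.S4503.result p hp.out S.dvd_card S.sq_not_dvd (fun H hH hc => ?_)
    (θ : G → ℂ) (irr_isCharacter θ) (S.faithful (hYne θ hθ))
  · rw [← hy, hye] at h
    omega
  · haveI := S.isSimpleGroup
    rcases hH.eq_bot_or_eq_top with rfl | rfl
    · rw [Subgroup.card_bot] at hc
      exact hp.out.ne_one hc.symm
    · refine S.not_normal ?_
      rw [show (S.P : Subgroup G) = ⊤ from Subgroup.eq_top_of_card_eq _ (by
        rw [show Nat.card (S.P : Subgroup G) = p from S.card_P, ← hc, Subgroup.card_top])]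
      exact Subgroup.normal_top

end CfsgLib.PermPrime.DegP
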