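import Cfsg.Agent.Lib.PermPrime.DegP.OddFinal
import Cfsg.Agent.S4706

/-!
# Complements of even order
-/

set_option autoImplicit false
set_option linter.style.haveILetI false
set_option linter.unusedSectionVars false

noncomputable section

namespace CfsgLib.PermPrime.DegP

open Cfsg CfsgLib.Characters MulAction CfsgLib.ClassCount
open scoped ComplexConjugate

universe u

/-- An involution of `SL(2,q)`, `q` even, commutes with at least `q` elements. -/
theorem card_le_centralizer_sl {F : Type*} [Field F] [Fintype F] (h2 : (2 : F) = 0)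
    {z : Matrix.SpecialLinearGroup (Fin 2) F} (hz : z * z = 1) (hz1 : z ≠ 1) :
    Fintype.card F ≤ Nat.card (Subgroup.centralizer ({z} : Set (Matrix.SpecialLinearGroup (Fin 2) F))) := by
  classical
  set A : Matrix (Fin 2) (Fin 2) F := (z : Matrix (Fin 2) (Fin 2) F) with hA
  have hsq : A * A = 1 := by
    rw [hA, ← Matrix.SpecialLinearGroup.coe_mul, hz, Matrix.SpecialLinearGroup.coe_one]
  have hdet : A 0 0 * A 1 1 - A 0 1 * A 1 0 = 1 := by
    rw [← Matrix.det_fin_two]
    exact z.det_coe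
  have e00 := congrFun (congrFun hsq 0) 0
  have e11 := congrFun (congrFun hsq 1) 1
  simp only [Matrix.mul_apply, Fin.sum_univ_two, Matrix.one_apply_eq] at e00 e11
  have ht : A 0 0 + A 1 1 = 0 := by
    have h0 : A 0 0 * (A 0 0 + A 1 1) = 0 := by linear_combination e00 + hdet + h2
    have h1 : A 1 1 * (A 0 0 + A 1 1) = 0 := by linear_combination e11 + hdet + h2
    rcases mul_eq_zero.1 h0 with h | h
    · rcases mul_eq_zero.1 h1 with h' | h'
      · rw [h, h', add_zero]
      · exact h'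
    · exact h
  have hd : ∀ c : F, (1 + c • (A - 1)).det = 1 := fun c => by
    rw [Matrix.det_fin_two]
    simp only [Matrix.add_apply, Matrix.smul_apply, Matrix.sub_apply, Matrix.one_apply_eq,
      Matrix.one_apply_ne (show (0 : Fin 2) ≠ 1 by decide),
      Matrix.one_apply_ne (show (1 : Fin 2) ≠ 0 by decide), smul_eq_mul]
    linear_combination (c - c ^ 2) * ht + c ^ 2 * hdet + (c ^ 2 - c) * h2
  let φ : F → Subgroup.centralizer ({z} : Set (Matrix.SpecialLinearGroup (Fin 2) F)) := fun c =>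
    ⟨⟨1 + c • (A - 1), hd c⟩, Subgroup.mem_centralizer_singleton_iff.2 (Subtype.ext (by
      show (1 + c • (A - 1)) * A = A * (1 + c • (A - 1))
      rw [add_mul, mul_add, one_mul, mul_one, Matrix.smul_mul, Matrix.mul_smul, sub_mul, mul_sub,
        one_mul, mul_one]))⟩
  rw [← Nat.card_eq_fintype_card]
  refine Nat.card_le_card_of_injective φ fun a b h => ?_
  have h' : (1 + a • (A - 1)) = 1 + b • (A - 1) :=
    congrArg (fun g : Subgroup.centralizer _ => ((g : Matrix.SpecialLinearGroup (Fin 2) F) :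
      Matrix (Fin 2) (Fin 2) F)) h
  have hN : A - 1 ≠ 0 := fun e => hz1 (Subtype.ext (sub_eq_zero.1 e))
  exact smul_left_injective F hN (add_left_cancel h')

variable {p : ℕ} [hp : Fact p.Prime] {α : Type u} [Fintype α] [DecidableEq α]
  {G : Subgroup (Equiv.Perm α)} [Fintype G] (S : Setup p G) [Fintype S.E]

include S

theorem Setup.exists_gen_E : ∃ y : S.E, (∀ g : S.E, g ∈ Subgroup.zpowers y) ∧
    orderOf (y : G) = Nat.card S.E := by
  haveI := S.isCyclic
  obtain ⟨y, hy⟩ := IsCyclic.exists_generator (α := S.E)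
  exact ⟨y, hy, by rw [Subgroup.orderOf_coe, orderOf_eq_card_of_forall_mem_zpowers hy]⟩

theorem Setup.exists_involution (heven : Even (Nat.card S.E)) :
    ∃ z ∈ S.E, orderOf z = 2 ∧
      Nat.card (Subgroup.centralizer ({z} : Set G)) = 2 * Nat.card S.E := by
  obtain ⟨y, -, hy⟩ := S.exists_gen_E
  obtain ⟨k, hk⟩ := heven
  have hk0 : 0 < k := by
    have := S.two_le_e
    omega
  have hz2 : orderOf ((y : G) ^ k) = 2 := by
    rw [orderOf_pow_of_dvd hk0.ne' ⟨2, by omega⟩, hy, hk, ← two_mul, Nat.mul_div_cancel _ hk0]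
  refine ⟨(y : G) ^ k, S.E.pow_mem y.2 k, hz2, ?_⟩
  rw [← S.hNE]
  congr 1
  refine congrArg (fun H : Subgroup G => (H : Type u)) (le_antisymm (fun g hg => ?_) fun g hg => ?_)
  · refine S.mem_normalizer (S.E.pow_mem y.2 k) (fun e => by rw [e, orderOf_one] at hz2; omega) ?_
    rw [Subgroup.mem_centralizer_singleton_iff.1 hg, mul_inv_cancel_right]
    exact S.E.pow_mem y.2 k
  · rw [Subgroup.mem_centralizer_singleton_iff, ← mul_inv_eq_iff_eq_mul]
    refine S.unique_involution _ ((Subgroup.mem_normalizer_iff.1 hg _).1 (S.E.pow_mem y.2 k)) _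
      (S.E.pow_mem y.2 k) ?_ hz2
    rw [← MulAut.conj_apply, MulEquiv.orderOf_eq, hz2]

/-- **A complement of order two.** -/
theorem Setup.two_order (he : Nat.card S.E = 2) : p = 5 ∧ Nat.card G = 60 := by
  classical
  have hr := S.p_eq
  rw [he] at hr
  obtain ⟨j, hj⟩ := S.even_r ⟨1, by rw [he]⟩
  have hp4 : 2 < p := by
    have := hp.out.two_le
    omega
  rcases Cfsg.Agent.S4706.result hp4 S.hα G S.P (by rw [S.card_N, he, mul_comm]) with h | h
  · exact absurd h S.not_normal
  obtain ⟨a, F, hF, hFt, hpa, hFc, ⟨eqv⟩⟩ := h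
  have h2 : (2 : F) = 0 := by
    have h1 : ((Fintype.card F : ℕ) : F) = 0 := Nat.cast_card_eq_zero F
    rw [hFc, Nat.cast_pow, Nat.cast_ofNat] at h1
    exact pow_eq_zero_iff' |>.1 h1 |>.1
  obtain ⟨z, hzE, hz2, hzc⟩ := S.exists_involution ⟨1, by rw [he]⟩
  have hzz : z * z = 1 := by rw [← sq, ← hz2, pow_orderOf_eq_one]
  have hz1 : z ≠ 1 := fun e => by rw [e, orderOf_one] at hz2; omega
  have hle := card_le_centralizer_sl h2 (z := eqv z) (by rw [← map_mul, hzz, map_one])
    fun e => hz1 (eqv.injective (e.trans (map_one eqv).symm))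
  have hcc : Nat.card (Subgroup.centralizer ({eqv z} : Set (Matrix.SpecialLinearGroup (Fin 2) F))) =
      Nat.card (Subgroup.centralizer ({z} : Set G)) := by
    refine Nat.card_congr
      { toFun := fun g => ⟨eqv.symm g, Subgroup.mem_centralizer_singleton_iff.2 (eqv.injective (by
          rw [map_mul, map_mul, MulEquiv.apply_symm_apply]
          exact Subgroup.mem_centralizer_singleton_iff.1 g.2))⟩
        invFun := fun g => ⟨eqv g, Subgroup.mem_centralizer_singleton_iff.2 (by
          rw [← map_mul, ← map_mul, Subgroup.mem_centralizer_singleton_iff.1 g.2])⟩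
        left_inv := fun g => Subtype.ext (eqv.apply_symm_apply _)
        right_inv := fun g => Subtype.ext (eqv.symm_apply_apply _) }
  rw [hcc, hzc, hFc, he] at hle
  have hp5 : p = 5 := by omega
  refine ⟨hp5, ?_⟩
  have hn := card_sylow_modEq_one p G
  have hn1 := S.sylow_gt_one
  have hfac := S.card_dvd_factorial
  rw [show p.factorial = Nat.factorial 5 from congrArg _ hp5] at hfac
  have hG : Nat.card G = 10 * Nat.card (Sylow p G) := by rw [S.card_G, he, show p * 2 = 10 by omega]
  rw [hG] at hfac ⊢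
  have hd : Nat.card (Sylow p G) ∣ 12 :=
    Nat.dvd_of_mul_dvd_mul_left (show 0 < 10 by norm_num) (hfac.trans (by decide))
  have h12 := Nat.le_of_dvd (by norm_num) hd
  generalize hgen : Nat.card (Sylow p G) = n at *
  rw [Nat.ModEq, hp5] at hn
  interval_cases n <;> omega

/-- **A complement of larger even order does not occur.** -/
theorem Setup.even_absurd (heven : Even (Nat.card S.E)) (h2 : Nat.card S.E ≠ 2) : False := by
  classical
  obtain ⟨y, hygen, hy⟩ := S.exists_gen_E
  set e := Nat.card S.E with hedef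
  have he3 : 3 ≤ e := by
    have := S.two_le_e
    omega
  obtain ⟨z, hzE, hz2, hzc⟩ := S.exists_involution heven
  have hz1 : z ≠ 1 := fun he => by rw [he, orderOf_one] at hz2; omega
  -- a faithful linear character
  obtain ⟨l, hlinj⟩ : ∃ l : S.E →* ℂ, Function.Injective l := by
    haveI : NeZero e := ⟨by omega⟩
    obtain ⟨ζ, hζ⟩ : ∃ ζ : ℂ, IsPrimitiveRoot ζ e := ⟨_, Complex.isPrimitiveRoot_exp e (by omega)⟩
    set U : ℂˣ := (hζ.isUnit (by omega)).unit with hU
    have hUo : orderOf U = e := by rw [← orderOf_units, IsUnit.unit_spec, ← hζ.eq_orderOf]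
    have hye : orderOf y = e := by rw [← Subgroup.orderOf_coe, hy]
    refine ⟨(Units.coeHom ℂ).comp (monoidHomOfForallMemZpowers hygen (g' := U) (by rw [hUo, hye])),
      fun a b h => ?_⟩
    obtain ⟨i, rfl⟩ := mem_powers_iff_mem_zpowers.2 (hygen a)
    obtain ⟨j, rfl⟩ := mem_powers_iff_mem_zpowers.2 (hygen b)
    simp only [MonoidHom.coe_comp, Function.comp_apply, Units.coeHom_apply, map_pow,
      monoidHomOfForallMemZpowers_apply_gen] at h ⊢
    have h' : U ^ i = U ^ j := Units.ext (by simpa using h)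
    rw [pow_eq_pow_iff_modEq, hUo] at h'
    rw [pow_eq_pow_iff_modEq, hye]
    exact h'
  have hl1 : ∀ g : S.E, g ≠ 1 → l g ≠ 1 := fun g hg h => hg (hlinj (h.trans (map_one l).symm))
  have hM : S.Moved l := by
    obtain ⟨y₀, hy₀, hy₀'⟩ := S.exists_moved_even heven h2
    refine ⟨fun h => hl1 ⟨z, hzE⟩ (fun e => hz1 (congrArg Subtype.val e)) (by rw [h]; rfl),
      ⟨⟨y₀, hy₀⟩, fun h => hy₀' ?_⟩⟩
    exact congrArg Subtype.val (hlinj h)
  set zE : S.E := ⟨z, hzE⟩ with hzEdef
  have hzE1 : zE ≠ 1 := fun he => hz1 (congrArg Subtype.val he)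
  have htw : S.tiPair.tw zE = zE := Subtype.ext (S.unique_involution _ (S.tiPair.conj_mem z hzE) z hzE
    (by rw [← MulAut.conj_apply, MulEquiv.orderOf_eq, hz2]) hz2)
  have hlz : l zE = -1 := by
    have h : l zE ^ 2 = 1 := by
      rw [← map_pow, show zE ^ 2 = 1 from Subtype.ext (by
        show z ^ 2 = 1
        rw [← hz2, pow_orderOf_eq_one]), map_one]
    exact (sq_eq_one_iff.1 h).resolve_left (hl1 zE hzE1)
  have hbz : (S.big l hM : G → ℂ) z = -2 := by
    rw [show z = (zE : G) from rfl, S.big_mem hM hzE1, htw, hlz]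
    norm_num
  have hsum := sum_lamDiff l hM.1
  -- the class equation
  have h := pairs_tiChar l z
  rw [S.sum_tiChar_irr hM, hbz, S.st_E hzE hz1, ← hedef] at h
  set T : ℂ := ∑ g : S.E, lamDiff l g * ((pairs z z {(g : G)}).card : ℂ) with hT
  have hcl := congrArg (Nat.cast (R := ℂ)) (card_cls_mul_centralizer z)
  rw [hzc, ← hedef] at hcl
  push_cast at h hcl
  set n := Nat.card (Sylow p G) with hn
  have hGc : (Nat.card G : ℂ) = (p : ℂ) * (e : ℂ) * (n : ℂ) := by
    rw [S.card_G]
    push_cast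
    rfl
  have hp0 : (p : ℂ) ≠ 0 := Nat.cast_ne_zero.2 hp.out.ne_zero
  have hp1 : (p : ℂ) + 1 ≠ 0 := Nat.cast_add_one_ne_zero p
  have he0 : (e : ℂ) ≠ 0 := Nat.cast_ne_zero.2 (by omega)
  have hpr : (p : ℂ) = (e : ℂ) * (S.r : ℂ) + 1 := by
    have := congrArg (Nat.cast (R := ℂ)) S.p_eq
    push_cast at this
    exact this
  have heq : 4 * ((p : ℂ) + 1) * T = ((n * e ^ 2 * S.r ^ 2 : ℕ) : ℂ) := by
    push_cast
    have hG0 : (Nat.card G : ℂ) ≠ 0 := Nat.cast_ne_zero.2 Nat.card_pos.ne'
    refine mul_left_cancel₀ (mul_ne_zero (mul_ne_zero hG0 he0) hp0) ?_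
    field_simp at h
    set cl : ℂ := ((cls z).card : ℂ)
    linear_combination (4 * (e : ℂ)) * h + (((p : ℂ) - 1) ^ 2 * (cl * (2 * e) + (Nat.card G : ℂ))) * hcl +
      (Nat.card G : ℂ) * ((p : ℂ) - 1) ^ 2 * hGc +
      (Nat.card G : ℂ) * (p : ℂ) * (e : ℂ) * (n : ℂ) * ((p : ℂ) - 1 + (e : ℂ) * S.r) * hpr
  have hTre : T.re = ∑ g : S.E, (1 - (l g).re) * ((pairs z z {(g : G)}).card : ℝ) := by
    rw [hT, Complex.re_sum]
    refine Finset.sum_congr rfl fun g _ => ?_
    simp [lamDiff]
  have hnn : ∀ g : S.E, 0 ≤ 1 - (l g).re := fun g => by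
    have hn1 : ‖l g‖ = 1 := Complex.norm_eq_one_of_pow_eq_one (n := orderOf g)
      (by rw [← map_pow, pow_orderOf_eq_one, map_one]) (orderOf_pos g).ne'
    have := Complex.re_le_norm (l g)
    linarith
  have hk : ∀ g : S.E, g ≠ 1 → (pairs z z {(g : G)}).card ≤ e := fun g hg =>
    (S.tiPair.card_pairs_le hz2 S.unique_involution g.2 fun he => hg (Subtype.ext he)).1
  have hterm : ∀ g ∈ (Finset.univ : Finset S.E),
      (1 - (l g).re) * ((pairs z z {(g : G)}).card : ℝ) ≤ (1 - (l g).re) * (e : ℝ) := fun g _ => by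
    by_cases hg : g = 1
    · simp [hg]
    · exact mul_le_mul_of_nonneg_left (by exact_mod_cast hk g hg) (hnn g)
  have hbound : T.re ≤ (e : ℝ) * e := by
    rw [hTre]
    refine (Finset.sum_le_sum hterm).trans (le_of_eq ?_)
    rw [← Finset.sum_mul, show ∑ g : S.E, (1 - (l g).re) = (∑ g : S.E, lamDiff l g).re by
      simp [Complex.re_sum, lamDiff], hsum, Complex.natCast_re]
  have hre : 4 * ((p : ℝ) + 1) * T.re = ((n * e ^ 2 * S.r ^ 2 : ℕ) : ℝ) := by
    have := congrArg Complex.re heq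
    rw [Complex.natCast_re, show 4 * ((p : ℂ) + 1) = ((4 * ((p : ℝ) + 1) : ℝ) : ℂ) by push_cast; rfl,
      Complex.re_ofReal_mul] at this
    exact this
  have hle : n * e ^ 2 * S.r ^ 2 ≤ 4 * (p + 1) * (e * e) := by
    have h' : ((n * e ^ 2 * S.r ^ 2 : ℕ) : ℝ) ≤ ((4 * (p + 1) * (e * e) : ℕ) : ℝ) := by
      rw [← hre]
      push_cast
      exact mul_le_mul_of_nonneg_left hbound (by positivity)
    exact_mod_cast h'
  have hn1 : p + 1 ≤ n := S.sylow_gt_one
  obtain ⟨j, hj⟩ := S.even_r heven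
  have hr0 : S.r ≠ 0 := fun h0 => by
    have := S.p_eq
    rw [h0] at this
    have := hp.out.one_lt
    omega
  have hnr : n * S.r ^ 2 ≤ 4 * (p + 1) :=
    Nat.le_of_mul_le_mul_left (show e * e * (n * S.r ^ 2) ≤ e * e * (4 * (p + 1)) by linarith [hle]) (by positivity)
  have hr4 : 4 ≤ S.r ^ 2 := by
    have := Nat.pow_le_pow_left (show 2 ≤ S.r by omega) 2
    omega
  have h4n : 4 * n ≤ n * S.r ^ 2 := by
    rw [mul_comm 4 n]
    exact Nat.mul_le_mul_left n hr4
  have hn2 : n = p + 1 := by omega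
  have hr : S.r = 2 := by
    have h' : n * S.r ^ 2 ≤ n * 4 := by omega
    have := Nat.le_of_mul_le_mul_left h' (by omega)
    by_contra hne
    have := Nat.pow_le_pow_left (show 3 ≤ S.r by omega) 2
    omega
  have hp2e : p = 2 * e + 1 := by
    have := S.p_eq
    rw [hr, ← hedef] at this
    omega
  have hTe : T.re = (e : ℝ) * e := by
    rw [hn2, hr] at hre
    push_cast at hre
    have : (p : ℝ) + 1 ≠ 0 := by positivity
    exact mul_left_cancel₀ (mul_ne_zero (by norm_num : (4 : ℝ) ≠ 0) this) (by linear_combination hre)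
  have hy1 : y ≠ 1 := fun he => by
    rw [he, OneMemClass.coe_one, orderOf_one] at hy
    omega
  have hcoset : ∀ i, S.t⁻¹ * i ∈ S.E → IsConj z i := by
    refine (S.tiPair.card_pairs_le hz2 S.unique_involution y.2 fun he => hy1 (Subtype.ext he)).2 ?_
    have hsum_eq : ∑ g : S.E, (1 - (l g).re) * ((pairs z z {(g : G)}).card : ℝ) =
        ∑ g : S.E, (1 - (l g).re) * (e : ℝ) := by
      rw [← hTre, hTe, ← Finset.sum_mul, show ∑ g : S.E, (1 - (l g).re) = (∑ g : S.E, lamDiff l g).re by
        simp [Complex.re_sum, lamDiff], hsum, Complex.natCast_re]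
    have hyl : 1 - (l y).re ≠ 0 := by
      intro h0
      refine hl1 y hy1 (Complex.ext (by simp; linarith) ?_)
      have hn1 : ‖l y‖ = 1 := Complex.norm_eq_one_of_pow_eq_one (n := orderOf y)
        (by rw [← map_pow, pow_orderOf_eq_one, map_one]) (orderOf_pos y).ne'
      rw [Complex.norm_def, Real.sqrt_eq_one, Complex.normSq_apply] at hn1
      have : (l y).re = 1 := by linarith
      rw [this] at hn1
      rw [Complex.one_im]
      nlinarith
    have := mul_left_cancel₀ hyl ((Finset.sum_eq_sum_iff_of_le hterm).1 hsum_eq y (Finset.mem_univ y))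
    exact_mod_cast this
  -- the class of the involution in the point stabilizer
  set M := stabilizer G S.a with hMdef
  haveI := Fintype.ofFinite M
  haveI := S.trans
  have hMc : Nat.card M = e * (2 * e + 2) := by
    have h1 := M.index_mul_card
    rw [hMdef, index_stabilizer_of_transitive, S.card_α, S.card_G, ← hn, hn2, ← hedef] at h1
    refine Nat.eq_of_mul_eq_mul_left hp.out.pos (h1.trans ?_)
    rw [show p + 1 = 2 * e + 2 by omega]
    ring
  have hzM : z ∈ M := S.smul_a hzE
  set z' : M := ⟨z, hzM⟩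
  have hfixz : ∀ b : α, z • b = b → b = S.a := fun b hb => S.eq_a hzE hz1 hb
  have hCM : Subgroup.centralizer ({z} : Set G) ≤ M := fun g hg => by
    refine hfixz _ ?_
    rw [← mul_smul, ← Subgroup.mem_centralizer_singleton_iff.1 hg, mul_smul, mem_stabilizer_iff.1 hzM]
  have hcM : Nat.card (Subgroup.centralizer ({z'} : Set M)) = 2 * e := by
    rw [← hzc]
    exact Nat.card_congr
      { toFun := fun g => ⟨((g : M) : G), Subgroup.mem_centralizer_singleton_iff.2
          (congrArg Subtype.val (Subgroup.mem_centralizer_singleton_iff.1 g.2))⟩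
        invFun := fun g => ⟨⟨g, hCM g.2⟩, Subgroup.mem_centralizer_singleton_iff.2
          (Subtype.ext (Subgroup.mem_centralizer_singleton_iff.1 g.2))⟩
        left_inv := fun g => rfl
        right_inv := fun g => rfl }
  have hclM : (cls z').card = e + 1 := by
    have h1 := card_cls_mul_centralizer z'
    rw [hcM, hMc] at h1
    exact Nat.eq_of_mul_eq_mul_right (show 0 < 2 * e by omega) (h1.trans (by ring))
  set CS := Finset.univ.filter (fun g : M => S.t⁻¹ * (g : G) ∈ S.E) with hCS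
  have hcosM : ∀ i, S.t⁻¹ * i ∈ S.E → i ∈ M := fun i hi => by
    have ht := S.exists_t.choose_spec.1
    rw [← mul_inv_cancel_left S.t i]
    exact S.normalizer_le (mul_mem ht (Subgroup.le_normalizer hi))
  have hCSc : CS.card = e := by
    have h1 : CS.card = (Finset.univ : Finset S.E).card := by
      refine Finset.card_bij' (fun g hg => (⟨_, (Finset.mem_filter.1 hg).2⟩ : S.E))
        (fun g _ => (⟨S.t * (g : G), hcosM _ (by rw [inv_mul_cancel_left]; exact g.2)⟩ : M))
        (fun _ _ => Finset.mem_univ _)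
        (fun g _ => Finset.mem_filter.2 ⟨Finset.mem_univ _, by rw [inv_mul_cancel_left]; exact g.2⟩)
        (fun g _ => Subtype.ext (mul_inv_cancel_left _ _))
        (fun g _ => Subtype.ext (inv_mul_cancel_left _ _))
    rw [h1, Finset.card_univ, ← Nat.card_eq_fintype_card]
  have hsub : insert z' CS ⊆ cls z' := by
    intro g hg
    rcases Finset.mem_insert.1 hg with rfl | hg
    · exact mem_cls_self _
    obtain ⟨c, hc⟩ := isConj_iff.1 (hcoset _ (Finset.mem_filter.1 hg).2)
    have hcM' : c ∈ M := by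
      have h1 := mem_stabilizer_iff.1 g.2
      rw [← hc, mul_smul, mul_smul, ← eq_inv_smul_iff] at h1
      rw [mem_stabilizer_iff, ← eq_inv_smul_iff]
      exact (hfixz _ h1).symm
    exact mem_cls.2 (isConj_iff.2 ⟨⟨c, hcM'⟩, Subtype.ext hc⟩)
  have hzCS : z' ∉ CS := fun h => by
    have h1 := S.E.mul_mem (Finset.mem_filter.1 h).2 (S.E.inv_mem hzE)
    rw [show S.t⁻¹ * (z' : G) * z⁻¹ = S.t⁻¹ from mul_inv_cancel_right _ _, inv_mem_iff] at h1
    exact S.tiPair.notMem h1
  have heqK : insert z' CS = cls z' := Finset.eq_of_subset_of_card_le hsub (by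
    rw [hclM, Finset.card_insert_of_notMem hzCS, hCSc])
  have hinN : ∀ m ∈ M, ∀ i, S.t⁻¹ * i ∈ S.E →
      m * i * m⁻¹ ∈ Subgroup.normalizer (S.E : Set G) := by
    intro m hm i hi
    have hiK : (⟨i, hcosM i hi⟩ : M) ∈ cls z' :=
      heqK ▸ Finset.mem_insert_of_mem (Finset.mem_filter.2 ⟨Finset.mem_univ _, hi⟩)
    have hmK : (⟨m, hm⟩ * ⟨i, hcosM i hi⟩ * ⟨m, hm⟩⁻¹ : M) ∈ cls z' :=
      mem_cls.2 ((mem_cls.1 hiK).trans (isConj_iff.2 ⟨⟨m, hm⟩, rfl⟩))
    rw [← heqK] at hmK
    rcases Finset.mem_insert.1 hmK with h' | h'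
    · rw [show m * i * m⁻¹ = z from congrArg Subtype.val h']
      exact Subgroup.le_normalizer hzE
    · have h'' := (Finset.mem_filter.1 h').2
      have e1 : m * i * m⁻¹ = S.t * (S.t⁻¹ * (m * i * m⁻¹)) := (mul_inv_cancel_left _ _).symm
      rw [e1]
      exact mul_mem S.exists_t.choose_spec.1 (Subgroup.le_normalizer h'')
  have hMN : M ≤ Subgroup.normalizer (S.E : Set G) := by
    intro m hm
    refine S.mem_normalizer y.2 (fun he => hy1 (Subtype.ext he)) ?_
    have ht0 : S.t⁻¹ * S.t ∈ S.E := by rw [inv_mul_cancel]; exact S.E.one_mem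
    have hty : S.t⁻¹ * (S.t * (y : G)) ∈ S.E := by rw [inv_mul_cancel_left]; exact y.2
    have hN : m * (y : G) * m⁻¹ ∈ Subgroup.normalizer (S.E : Set G) := by
      rw [show m * (y : G) * m⁻¹ = (m * S.t * m⁻¹)⁻¹ * (m * (S.t * y) * m⁻¹) by group]
      exact mul_mem (inv_mem (hinN m hm _ ht0)) (hinN m hm _ hty)
    refine (S.coset hN).resolve_right fun h' => ?_
    obtain ⟨c, hc⟩ := isConj_iff.1 (hcoset _ h')
    have ho : orderOf (m * (y : G) * m⁻¹) = 2 := by rw [← hc, ← MulAut.conj_apply, MulEquiv.orderOf_eq, hz2]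
    rw [← MulAut.conj_apply, MulEquiv.orderOf_eq, hy] at ho
    omega
  have hcard := Nat.le_of_dvd Nat.card_pos (Subgroup.card_dvd_of_le hMN)
  rw [S.hNE, hMc, ← hedef] at hcard
  nlinarith

end CfsgLib.PermPrime.DegP
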