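import Cfsg.Agent.Lib.PermPrime.DegP.Invert
import Cfsg.Agent.Lib.Characters.Generalized

/-!
# The characters of degree `p + 1`
-/

set_option autoImplicit false
set_option linter.style.haveILetI false
set_option linter.unusedSectionVars false

noncomputable section

namespace CfsgLib.PermPrime.DegP

open Cfsg CfsgLib.Characters MulAction
open scoped ComplexConjugate

universe u

variable {p : ℕ} [hp : Fact p.Prime] {α : Type u} [Fintype α] [DecidableEq α]
  {G : Subgroup (Equiv.Perm α)} [Fintype G] (S : Setup p G) [Fintype S.E]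

include S

theorem Setup.st_conj (g : G) : conj ((S.st : G → ℂ) g) = (S.st : G → ℂ) g := by
  obtain ⟨z, hz⟩ := S.st_int g
  rw [hz, map_intCast]

theorem Setup.singular_not_conj {g : G} (hg : p ∣ orderOf g) (c : G) : c * g * c⁻¹ ∉ S.E := fun h => by
  have := Subgroup.orderOf_dvd_natCard _ h
  rw [← MulAut.conj_apply, MulEquiv.orderOf_eq] at this
  exact S.not_dvd_e (hg.trans this)

theorem Setup.sum_st_lamDiff (l : S.E →* ℂ) (hl : l ≠ 1) :
    classInner (lamDiff l) (fun h : S.E => (S.st : G → ℂ) (h : G)) = 1 := by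
  have h : ∀ h : S.E, lamDiff l h * conj ((S.st : G → ℂ) (h : G)) = lamDiff l h := fun h => by
    by_cases h1 : h = 1
    · subst h1
      rw [lamDiff_one, zero_mul]
    · rw [S.st_E h.2 fun e => h1 (Subtype.ext e), map_one, mul_one]
  rw [classInner, Finset.sum_congr rfl fun x _ => h x, sum_lamDiff l hl,
    inv_mul_cancel₀ (Nat.cast_ne_zero.2 Nat.card_pos.ne')]

/-- The character of degree `p + 1` attached to a moved linear character. -/
theorem Setup.exists_big (l : S.E →* ℂ) (hl : l ≠ 1)
    (hne : ∃ x, l (S.tiPair.tw x) ≠ l x) :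
    ∃ X : IrrCharacter G, ∀ g : G, (X : G → ℂ) g = 1 + (S.st : G → ℂ) g - tiChar l g := by
  set F : G → ℂ := tiChar l with hFdef
  set ξ : G → ℂ := ((principalIrr G : G → ℂ) + (S.st : G → ℂ)) - F with hξ
  have hgen : IsGeneralizedCharacter G ξ :=
    isGeneralizedCharacter_sub (isGeneralizedCharacter_of_isCharacter
      (isCharacter_add (irr_isCharacter (principalIrr G)) (irr_isCharacter S.st)))
      (isGeneralizedCharacter_tiChar l)
  have hP : classInner F (principalIrr G : G → ℂ) = 1 := by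
    rw [hFdef, classInner_tiChar l (irr_isClassFunction _), classInner]
    simp only [principalIrr, map_one, mul_one, sum_lamDiff l hl]
    exact inv_mul_cancel₀ (Nat.cast_ne_zero.2 Nat.card_pos.ne')
  have hS : classInner F (S.st : G → ℂ) = 1 := by
    rw [hFdef, classInner_tiChar l (irr_isClassFunction _), S.sum_st_lamDiff l hl]
  have hne' : principalIrr G ≠ S.st := fun h => by
    have h1 := S.st_deg
    rw [← h, show charDegree (principalIrr G : G → ℂ) = 1 by simp [charDegree, principalIrr]] at h1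
    exact hp.out.ne_one h1.symm
  have hself : classInner ξ ξ = 1 := by
    have hP' : classInner (principalIrr G : G → ℂ) F = 1 := by
      rw [CfsgLib.Induction.classInner_swap, hP, map_one]
    have hS' : classInner (S.st : G → ℂ) F = 1 := by
      rw [CfsgLib.Induction.classInner_swap, hS, map_one]
    simp only [hξ, classInner_sub_left, classInner_sub_right, classInner_add_left, classInner_add_right,
      classInner_irr, if_neg hne', if_neg hne'.symm, if_true, hP, hS, hP', hS',
      show classInner F F = 3 from S.tiPair.classInner_tiChar_self l hl hne]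
    norm_num
  have hdeg : 0 ≤ (ξ 1).re := by
    rw [hξ, Pi.sub_apply, Pi.add_apply, hFdef, tiChar_one, S.st_one]
    simp only [principalIrr, sub_zero, Complex.add_re, Complex.one_re, Complex.natCast_re]
    positivity
  exact ⟨⟨ξ, isIrrCharacter_of_generalized_norm_one hgen hself hdeg⟩, fun g => rfl⟩

/-- The moved linear characters. -/
def Setup.Moved (l : S.E →* ℂ) : Prop := l ≠ 1 ∧ ∃ x, l (S.tiPair.tw x) ≠ l x

/-- The character attached to a moved linear character. -/
def Setup.big (l : S.E →* ℂ) (h : S.Moved l) : IrrCharacter G := (S.exists_big l h.1 h.2).choose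

theorem Setup.big_apply {l : S.E →* ℂ} (h : S.Moved l) (g : G) :
    (S.big l h : G → ℂ) g = 1 + (S.st : G → ℂ) g - tiChar l g :=
  (S.exists_big l h.1 h.2).choose_spec g

theorem Setup.big_one {l : S.E →* ℂ} (h : S.Moved l) : (S.big l h : G → ℂ) 1 = (p : ℂ) + 1 := by
  rw [S.big_apply, tiChar_one, S.st_one]
  ring

theorem Setup.big_deg {l : S.E →* ℂ} (h : S.Moved l) :
    charDegree (S.big l h : G → ℂ) = p + 1 :=
  LinearTwist.charDegree_eq_of_apply_one (by rw [S.big_one, Nat.cast_add, Nat.cast_one])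

theorem Setup.big_sing {l : S.E →* ℂ} (h : S.Moved l) {g : G} (hg : p ∣ orderOf g) :
    (S.big l h : G → ℂ) g = 1 := by
  rw [S.big_apply, S.st_sing hg, tiChar, S.tiPair.indFun_off _ (S.singular_not_conj hg)]
  ring

theorem Setup.big_mem {l : S.E →* ℂ} (h : S.Moved l) {y : S.E} (hy : y ≠ 1) :
    (S.big l h : G → ℂ) (y : G) = l y + l (S.tiPair.tw y) := by
  rw [S.big_apply, S.st_E y.2 fun e => hy (Subtype.ext e), tiChar,
    S.tiPair.indFun_mem _ (lamDiff_one l)]
  simp only [lamDiff]
  ring

theorem Setup.big_off {l : S.E →* ℂ} (h : S.Moved l) {g : G} (hg : ∀ c : G, c * g * c⁻¹ ∉ S.E) :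
    (S.big l h : G → ℂ) g = 1 + (S.st : G → ℂ) g := by
  rw [S.big_apply, tiChar, S.tiPair.indFun_off _ hg, sub_zero]

theorem Setup.tw_eq_inv (hodd : Odd (Nat.card S.E)) (y : S.E) : S.tiPair.tw y = y⁻¹ :=
  Subtype.ext (S.invert hodd y.2)

theorem Setup.moved_of_ne_one (hodd : Odd (Nat.card S.E)) {l : S.E →* ℂ} (hl : l ≠ 1) : S.Moved l := by
  refine ⟨hl, ?_⟩
  by_contra! h
  refine hl (MonoidHom.ext fun y => ?_)
  obtain ⟨c, hc⟩ := hodd
  have h2 : l y ^ 2 = 1 := by
    have := h y
    rw [S.tw_eq_inv ⟨c, hc⟩, map_inv] at this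
    have hy0 : l y ≠ 0 := ((Group.isUnit y).map l).ne_zero
    rw [sq]
    conv_lhs => arg 1; rw [← this]
    rw [inv_mul_cancel₀ hy0]
  have hy : l y ^ (2 * c + 1) = 1 := by
    rw [← map_pow, ← hc, pow_card_eq_one', map_one]
  rw [pow_succ, pow_mul, h2, one_pow, one_mul] at hy
  exact hy

theorem Setup.big_conj (hodd : Odd (Nat.card S.E)) {l : S.E →* ℂ} (h : S.Moved l) (g : G) :
    conj ((S.big l h : G → ℂ) g) = (S.big l h : G → ℂ) g := by
  by_cases hg : ∃ c : G, c * g * c⁻¹ ∈ S.E
  · obtain ⟨c, hc⟩ := hg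
    rw [← irr_isClassFunction (S.big l h) g c]
    by_cases h1 : (⟨c * g * c⁻¹, hc⟩ : S.E) = 1
    · have h1' : c * g * c⁻¹ = 1 := congrArg Subtype.val h1
      rw [h1', S.big_one, map_add, map_natCast, map_one]
    · rw [show c * g * c⁻¹ = ((⟨c * g * c⁻¹, hc⟩ : S.E) : G) from rfl, S.big_mem h h1,
        S.tw_eq_inv hodd, map_add, S.conj_hom, S.conj_hom, inv_inv, add_comm]
  · push Not at hg
    rw [S.big_off h hg, map_add, map_one, S.st_conj]

theorem Setup.big_inv (hodd : Odd (Nat.card S.E)) {l l' : S.E →* ℂ} (h : S.Moved l) (h' : S.Moved l')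
    (hll : ∀ y, l' y = l y⁻¹) : S.big l' h' = S.big l h := by
  refine Subtype.ext (funext fun g => ?_)
  rw [S.big_apply, S.big_apply]
  congr 1
  by_cases hg : ∃ c : G, c * g * c⁻¹ ∈ S.E
  · obtain ⟨c, hc⟩ := hg
    rw [← isClassFunction_of_isGeneralizedCharacter (isGeneralizedCharacter_tiChar l') g c,
      ← isClassFunction_of_isGeneralizedCharacter (isGeneralizedCharacter_tiChar l) g c,
      show c * g * c⁻¹ = ((⟨c * g * c⁻¹, hc⟩ : S.E) : G) from rfl, tiChar, tiChar,
      S.tiPair.indFun_mem _ (lamDiff_one l'), S.tiPair.indFun_mem _ (lamDiff_one l)]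
    simp only [lamDiff, hll, S.tw_eq_inv hodd, inv_inv]
    ring
  · push Not at hg
    rw [tiChar, tiChar, S.tiPair.indFun_off _ hg, S.tiPair.indFun_off _ hg]

theorem Setup.eq_principal {φ : IrrCharacter G} (h : charDegree (φ : G → ℂ) = 1) :
    φ = principalIrr G := by
  obtain ⟨f, hf⟩ := LinearTwist.exists_hom_of_charDegree_one (irr_isCharacter φ) h
  refine Subtype.ext (funext fun g => ?_)
  rw [hf]
  show (f g : ℂ) = 1
  have hg : g ∈ f.ker := Abelianization.commutator_subset_ker f (S.perfect ▸ Subgroup.mem_top g)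
  rw [MonoidHom.mem_ker.1 hg, Units.val_one]

theorem Setup.sum_irr_eq_zero {φ : IrrCharacter G} (hφ : φ ≠ principalIrr G) :
    ∑ g : G, (φ : G → ℂ) g = 0 := by
  have h := classInner_irr φ (principalIrr G)
  rw [if_neg hφ, classInner, mul_eq_zero] at h
  have h' := h.resolve_left (inv_ne_zero (Nat.cast_ne_zero.2 Nat.card_pos.ne'))
  simpa only [principalIrr, map_one, mul_one] using h'

theorem Setup.big_ne_principal {l : S.E →* ℂ} (h : S.Moved l) : S.big l h ≠ principalIrr G := fun e => by
  have h1 := S.big_deg h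
  rw [e, show charDegree (principalIrr G : G → ℂ) = 1 by simp [charDegree, principalIrr]] at h1
  have := hp.out.pos
  omega

/-- A character agreeing with one of degree `p + 1` on the regular elements is equal to it. -/
theorem Setup.eq_big_of_agree {l : S.E →* ℂ} (h : S.Moved l) {φ : IrrCharacter G}
    (hag : ∀ g : G, ¬ p ∣ orderOf g → (φ : G → ℂ) g = (S.big l h : G → ℂ) g) : φ = S.big l h := by
  classical
  by_contra hne
  have h1r : ¬ p ∣ orderOf (1 : G) := by rw [orderOf_one]; exact hp.out.not_dvd_one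
  have hφ1 : φ ≠ principalIrr G := fun e => by
    have := hag 1 h1r
    rw [e, S.big_one] at this
    exact hp.out.ne_zero (by exact_mod_cast (show (p : ℂ) = 0 by
      simp only [principalIrr] at this; linear_combination -this))
  set X := S.big l h
  set sg := Finset.univ.filter fun g : G => p ∣ orderOf g with hsg
  set rg := Finset.univ.filter fun g : G => ¬ p ∣ orderOf g with hrg
  have hsplit : ∀ F : G → ℂ, ∑ g, F g = ∑ g ∈ sg, F g + ∑ g ∈ rg, F g := fun F =>
    (Finset.sum_filter_add_sum_filter_not Finset.univ (fun g : G => p ∣ orderOf g) F).symm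
  have hG : (Nat.card G : ℂ) ≠ 0 := Nat.cast_ne_zero.2 Nat.card_pos.ne'
  have a1 := S.sum_irr_eq_zero hφ1
  have a2 := S.sum_irr_eq_zero (S.big_ne_principal h)
  rw [hsplit, Finset.sum_congr (s₁ := rg) rfl fun g hg => hag g (Finset.mem_filter.1 hg).2] at a1
  rw [hsplit] at a2
  have b1 : ∑ g, (φ : G → ℂ) g * conj ((X : G → ℂ) g) = 0 := by
    have := classInner_irr φ X
    rw [if_neg hne, classInner, mul_eq_zero] at this
    exact this.resolve_left (inv_ne_zero hG)
  have b2 : ∑ g, (X : G → ℂ) g * conj ((X : G → ℂ) g) = (Nat.card G : ℂ) := by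
    have := classInner_irr X X
    rw [if_pos rfl, classInner, inv_mul_eq_iff_eq_mul₀ hG, mul_one] at this
    exact this
  rw [hsplit] at b1 b2
  have hs : ∀ F : G → ℂ, ∑ g ∈ sg, F g * conj ((X : G → ℂ) g) = ∑ g ∈ sg, F g := fun F =>
    Finset.sum_congr rfl fun g hg => by
      rw [S.big_sing h (Finset.mem_filter.1 hg).2, map_one, mul_one]
  rw [hs, Finset.sum_congr (s₁ := rg) rfl fun g hg => by
    rw [hag g (Finset.mem_filter.1 hg).2]] at b1
  rw [hs] at b2
  exact hG (by linear_combination b1 - b2 - a1 + a2)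

theorem Setup.big_axis {l : S.E →* ℂ} (h : S.Moved l) :
    ∑ i ∈ Finset.range p, (S.big l h : G → ℂ) (S.x ^ i) = (p : ℂ) * (2 : ℕ) := by
  rw [Finset.range_eq_Ico, Finset.sum_eq_sum_Ico_succ_bot hp.out.pos, pow_zero, S.big_one,
    Finset.sum_congr rfl fun i hi => S.big_sing h ?_, Finset.sum_const, Nat.card_Ico, nsmul_one,
    Nat.cast_sub (by have := hp.out.one_lt; omega)]
  · push_cast
    ring
  · have hi' := Finset.mem_Ico.1 hi
    rw [Nat.Coprime.orderOf_pow, S.x_order]
    rw [S.x_order]
    exact hp.out.coprime_iff_not_dvd.2 fun hd => by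
      have := Nat.le_of_dvd (by omega) hd
      omega

end CfsgLib.PermPrime.DegP
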