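import Cfsg.Agent.Lib.Characters.Induction
import Cfsg.Agent.Lib.Characters.Generalized
import Cfsg.Agent.Lib.Blocks.ClassCount
import Mathlib.Tactic.Group

/-!
# Abelian trivial-intersection subgroups of index two in their normalizers
-/

set_option autoImplicit false
set_option linter.style.haveILetI false
set_option linter.unusedSectionVars false

noncomputable section

namespace CfsgLib.PermPrime.DegP

open Cfsg CfsgLib.Characters CfsgLib.ClassCount
open scoped ComplexConjugate

universe u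

variable {G : Type u} [Group G]

/-- An abelian TI subgroup with normalizer `E ∪ t E`. -/
structure TIPair (E : Subgroup G) (t : G) : Prop where
  comm : ∀ x ∈ E, ∀ y ∈ E, x * y = y * x
  notMem : t ∉ E
  conj_mem : ∀ x ∈ E, t * x * t⁻¹ ∈ E
  t_sq : t * t ∈ E
  ti : ∀ g x : G, x ∈ E → x ≠ 1 → g * x * g⁻¹ ∈ E → g ∈ E ∨ t⁻¹ * g ∈ E

variable {E : Subgroup G} {t : G} (T : TIPair E t)

/-- Conjugation by `t` on `E`. -/
def TIPair.tw (x : E) : E := ⟨t * x * t⁻¹, T.conj_mem x x.2⟩

theorem TIPair.coe_tw (x : E) : (T.tw x : G) = t * x * t⁻¹ := rfl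

include T

theorem TIPair.tw_one : T.tw 1 = 1 := Subtype.ext (by simp [TIPair.tw])

theorem TIPair.conj_of_mem {g x : G} (hg : g ∈ E) (hx : x ∈ E) : g * x * g⁻¹ = x := by
  rw [T.comm g hg x hx, mul_inv_cancel_right]

theorem TIPair.conj_of_coset {g x : G} (hg : t⁻¹ * g ∈ E) (hx : x ∈ E) :
    g * x * g⁻¹ = t * x * t⁻¹ := by
  conv_lhs => rw [show g = t * (t⁻¹ * g) by group]
  rw [mul_inv_rev, show t * (t⁻¹ * g) * x * ((t⁻¹ * g)⁻¹ * t⁻¹) =
    t * ((t⁻¹ * g) * x * (t⁻¹ * g)⁻¹) * t⁻¹ by group, T.conj_of_mem hg hx]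

variable [Fintype G] [Fintype E]

theorem TIPair.indFun_off (θ : E → ℂ) {g : G} (hg : ∀ c : G, c * g * c⁻¹ ∉ E) :
    indFun E θ g = 0 :=
  CfsgLib.Induction.indFun_eq_zero_of_forall E fun c => by simpa using hg c⁻¹

theorem TIPair.indFun_mem (θ : E → ℂ) (h1 : θ 1 = 0) (x : E) :
    indFun E θ (x : G) = θ x + θ (T.tw x) := by
  classical
  by_cases hx : x = 1
  · subst hx
    rw [T.tw_one, h1, add_zero, OneMemClass.coe_one, CfsgLib.Induction.indFun_one_apply, h1, mul_zero]
  have hx1 : (x : G) ≠ 1 := fun e => hx (Subtype.ext e)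
  rw [CfsgLib.Induction.indFun_apply, ← Equiv.sum_comp (Equiv.inv G)]
  have key : ∀ g : G, extendByZero E θ ((g⁻¹)⁻¹ * (x : G) * g⁻¹) =
      (if g ∈ E then θ x else 0) + (if t⁻¹ * g ∈ E then θ (T.tw x) else 0) := by
    intro g
    rw [inv_inv]
    by_cases hg : g ∈ E
    · rw [if_pos hg, if_neg, add_zero, T.conj_of_mem hg x.2, CfsgLib.Induction.extendByZero_mem E θ x.2]
      intro h'
      refine T.notMem ?_
      have h2 := E.mul_mem hg (E.inv_mem h')
      rwa [mul_inv_rev, inv_inv, mul_inv_cancel_left] at h2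
    · rw [if_neg hg, zero_add]
      by_cases hg' : t⁻¹ * g ∈ E
      · rw [if_pos hg', T.conj_of_coset hg' x.2, CfsgLib.Induction.extendByZero_mem E θ (T.conj_mem x x.2)]
        rfl
      · rw [if_neg hg', CfsgLib.Induction.extendByZero_notMem E θ fun hm =>
          (T.ti g x x.2 hx1 hm).elim hg hg']
  simp only [Equiv.inv_apply]
  rw [Finset.sum_congr rfl fun g _ => key g, Finset.sum_add_distrib, ← Finset.sum_filter,
    ← Finset.sum_filter, Finset.sum_const, Finset.sum_const]
  have c1 : (Finset.univ.filter fun g : G => g ∈ E).card = Nat.card E := by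
    rw [Nat.card_eq_fintype_card, Fintype.card_subtype]
  have c2 : (Finset.univ.filter fun g : G => t⁻¹ * g ∈ E).card = Nat.card E := by
    rw [← c1]
    exact Finset.card_equiv (Equiv.mulLeft t⁻¹) fun g => by simp
  rw [c1, c2, nsmul_eq_mul, nsmul_eq_mul, ← mul_add, inv_mul_cancel_left₀]
  exact Nat.cast_ne_zero.2 Nat.card_pos.ne'

omit [Fintype G] in
theorem sum_hom_eq_zero (l : E →* ℂ) (hl : l ≠ 1) : ∑ x : E, l x = 0 := sum_hom_units_eq_zero l hl

/-- The difference of the principal character and a linear one. -/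
def lamDiff (l : E →* ℂ) : E → ℂ := fun x => 1 - l x

omit T in
theorem lamDiff_one (l : E →* ℂ) : lamDiff l 1 = 0 := by simp [lamDiff]

/-- The induced difference. -/
def tiChar (l : E →* ℂ) : G → ℂ := indFun E (lamDiff l)

omit T in
theorem sum_lamDiff (l : E →* ℂ) (hl : l ≠ 1) :
    ∑ x : E, lamDiff l x = (Nat.card E : ℂ) := by
  simp only [lamDiff, Finset.sum_sub_distrib, sum_hom_units_eq_zero l hl, sub_zero, Finset.sum_const,
    Finset.card_univ, nsmul_one, Nat.card_eq_fintype_card]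

omit T in
theorem isGeneralizedCharacter_tiChar (l : E →* ℂ) : IsGeneralizedCharacter G (tiChar l) := by
  have e : tiChar l = indFun E (fun _ => (1 : ℂ)) - indFun E (l : E → ℂ) := by
    rw [tiChar, show lamDiff l = (fun _ => (1 : ℂ)) - (l : E → ℂ) from rfl,
      CfsgLib.Induction.indFun_sub]
  rw [e]
  exact isGeneralizedCharacter_sub
    (isGeneralizedCharacter_of_isCharacter
      (CfsgLib.Induction.isCharacter_indFun E CfsgLib.Induction.isCharacter_const_one))
    (isGeneralizedCharacter_of_isCharacter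
      (CfsgLib.Induction.isCharacter_indFun E (CfsgLib.Induction.isCharacter_monoidHom l)))

omit T in
theorem tiChar_one (l : E →* ℂ) : tiChar l (1 : G) = 0 := by
  rw [tiChar, CfsgLib.Induction.indFun_one_apply, lamDiff_one, mul_zero]

omit T in
theorem classInner_tiChar (l : E →* ℂ) {ψ : G → ℂ} (hψ : IsClassFunction G ψ) :
    classInner (tiChar l) ψ = classInner (lamDiff l) (fun h : E => ψ h) :=
  CfsgLib.Induction.classInner_indFun E (lamDiff l) hψ

theorem TIPair.classInner_tiChar_self (l : E →* ℂ) (hl : l ≠ 1)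
    (hne : ∃ x, l (T.tw x) ≠ l x) : classInner (tiChar l) (tiChar (G := G) l) = 3 := by
  classical
  rw [classInner_tiChar l (isClassFunction_of_isGeneralizedCharacter
    (isGeneralizedCharacter_tiChar l))]
  have e : ∀ x : E, tiChar l (x : G) = lamDiff l x + lamDiff l (T.tw x) :=
    fun x => T.indFun_mem _ (lamDiff_one l) x
  have hunit : ∀ x : E, conj (l x) = l x⁻¹ := fun x => by
    have h1 : l x * l x⁻¹ = 1 := by rw [← map_mul, mul_inv_cancel, map_one]
    have hn : ‖l x‖ = 1 := Complex.norm_eq_one_of_pow_eq_one (n := orderOf x)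
      (by rw [← map_pow, pow_orderOf_eq_one, map_one]) (orderOf_pos x).ne'
    rw [eq_inv_of_mul_eq_one_right h1, Complex.inv_def, Complex.normSq_eq_norm_sq, hn]
    simp
  let l' : E →* ℂ :=
    { toFun := fun x => l (T.tw x)⁻¹
      map_one' := by rw [T.tw_one, inv_one, map_one]
      map_mul' := fun x y => by
        have h2 : T.tw (x * y) = T.tw x * T.tw y := Subtype.ext (by
          simp only [TIPair.coe_tw, Subgroup.coe_mul]
          group)
        rw [h2, mul_inv_rev, map_mul, mul_comm] }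
  let li : E →* ℂ :=
    { toFun := fun x => l x⁻¹
      map_one' := by rw [inv_one, map_one]
      map_mul' := fun x y => by rw [mul_inv_rev, map_mul, mul_comm] }
  have hl' : l' ≠ 1 := fun h => hl (MonoidHom.ext fun x => by
    have h2 : T.tw (T.tw x) = x := Subtype.ext (by
      simp only [TIPair.coe_tw]
      rw [show t * (t * (x : G) * t⁻¹) * t⁻¹ = (t * t) * x * (t * t)⁻¹ by group,
        T.conj_of_mem T.t_sq x.2])
    have h3 : l (T.tw (T.tw x))⁻¹ = 1 := DFunLike.congr_fun h (T.tw x)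
    rw [h2, map_inv, inv_eq_one] at h3
    exact h3)
  have hli : li ≠ 1 := fun h => hl (MonoidHom.ext fun x => by
    have h3 : l x⁻¹ = 1 := DFunLike.congr_fun h x
    rw [map_inv, inv_eq_one] at h3
    exact h3)
  have hll' : l * l' ≠ 1 := fun h => by
    obtain ⟨x, hx⟩ := hne
    have h3 : l x * l (T.tw x)⁻¹ = 1 := DFunLike.congr_fun h x
    rw [map_inv] at h3
    have h0 : l (T.tw x) ≠ 0 := fun h4 => by rw [h4, inv_zero, mul_zero] at h3; exact zero_ne_one h3
    rw [mul_inv_eq_one₀ h0] at h3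
    exact hx h3.symm
  have h5 : ∑ x : E, lamDiff l x * conj (tiChar l (x : G)) = 3 * (Nat.card E : ℂ) := by
    have e2 : ∀ x : E, lamDiff l x * conj (tiChar l (x : G)) =
        2 - li x - l' x - 2 * l x + 1 + (l * l') x := by
      intro x
      have h1 : l x * l x⁻¹ = 1 := by rw [← map_mul, mul_inv_cancel, map_one]
      rw [e x]
      simp only [lamDiff, map_add, map_sub, map_one, hunit]
      show _ = 2 - l x⁻¹ - l (T.tw x)⁻¹ - 2 * l x + 1 + l x * l (T.tw x)⁻¹
      linear_combination h1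
    simp only [Finset.sum_congr rfl fun x _ => e2 x, Finset.sum_add_distrib, Finset.sum_sub_distrib,
      ← Finset.mul_sum, sum_hom_units_eq_zero li hli, sum_hom_units_eq_zero l' hl',
      sum_hom_units_eq_zero l hl, sum_hom_units_eq_zero (l * l') hll', Finset.sum_const,
      Finset.card_univ, nsmul_eq_mul, Nat.card_eq_fintype_card]
    ring
  rw [classInner, h5, mul_comm (3 : ℂ), inv_mul_cancel_left₀ (Nat.cast_ne_zero.2 Nat.card_pos.ne')]

omit T in
/-- The class equation tested against the induced difference. -/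
theorem pairs_tiChar (l : E →* ℂ) (a : G) :
    (Nat.card G : ℂ) * ∑ x : E, lamDiff l x * ((pairs a a {(x : G)}).card : ℂ) =
      (Nat.card E : ℂ) * ((cls a).card : ℂ) ^ 2 *
        ∑ χ : IrrCharacter G, (χ : G → ℂ) a ^ 2 / (χ : G → ℂ) 1 *
          classInner (tiChar l) (χ : G → ℂ) := by
  classical
  have hE : (Nat.card E : ℂ) ≠ 0 := Nat.cast_ne_zero.2 Nat.card_pos.ne'
  rw [Finset.sum_congr (s₁ := (Finset.univ : Finset (IrrCharacter G))) rfl fun χ _ => by
    rw [classInner_tiChar l (irr_isClassFunction χ)]]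
  simp only [classInner, Finset.mul_sum]
  have h : ∀ x : E, (Nat.card G : ℂ) * (lamDiff l x * ((pairs a a {(x : G)}).card : ℂ)) =
      ∑ χ : IrrCharacter G, (Nat.card E : ℂ) * ((cls a).card : ℂ) ^ 2 *
        ((χ : G → ℂ) a ^ 2 / (χ : G → ℂ) 1 *
          ((Nat.card E : ℂ)⁻¹ * (lamDiff l x * conj ((χ : G → ℂ) (x : G))))) := by
    intro x
    rw [mul_left_comm, mul_comm (Nat.card G : ℂ), card_pairs_mul, Finset.mul_sum]
    refine Finset.sum_congr rfl fun χ _ => ?_
    have h1 : (χ : G → ℂ) 1 ≠ 0 := irr_one_ne_zero χ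
    rw [Finset.sum_singleton, irr_apply_inv, centralChar, card_cls]
    field_simp
  rw [Finset.sum_congr rfl fun x _ => h x, Finset.sum_comm]

/-- Involutions with product in `E` lie in the second coset. -/
theorem TIPair.mem_coset_of_mul_mem {i j : G} (hi : i * i = 1) (hj : j * j = 1)
    (huniq : ∀ z ∈ E, ∀ z' ∈ E, orderOf z = 2 → orderOf z' = 2 → z = z') (hi1 : i ≠ 1) (hj1 : j ≠ 1)
    (hij : i * j ∈ E) (hne : i * j ≠ 1) : i ∉ E ∧ t⁻¹ * i ∈ E := by
  have hiE : i ∉ E := fun h => by
    have hjE : j ∈ E := by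
      have := E.mul_mem h hij
      rwa [← mul_assoc, hi, one_mul] at this
    have := huniq i h j hjE (orderOf_eq_prime (by rw [sq, hi]) hi1)
      (orderOf_eq_prime (by rw [sq, hj]) hj1)
    subst this
    exact hne hi
  refine ⟨hiE, (T.ti i (i * j) hij hne ?_).resolve_left hiE⟩
  rw [inv_eq_of_mul_eq_one_right hi, ← mul_assoc, hi, one_mul]
  have := E.inv_mem hij
  rwa [mul_inv_rev, inv_eq_of_mul_eq_one_right hi, inv_eq_of_mul_eq_one_right hj] at this

/-- **At most `|E|` pairs of conjugates of an involution have a given product in `E`.** -/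
theorem TIPair.card_pairs_le {a : G} (ha : orderOf a = 2)
    (huniq : ∀ z ∈ E, ∀ z' ∈ E, orderOf z = 2 → orderOf z' = 2 → z = z') {x : G} (hx : x ∈ E)
    (hx1 : x ≠ 1) :
    (pairs a a {x}).card ≤ Nat.card E ∧ ((pairs a a {x}).card = Nat.card E →
      ∀ i, t⁻¹ * i ∈ E → IsConj a i) := by
  classical
  set C := Finset.univ.filter fun g : G => t⁻¹ * g ∈ E with hC
  have hCc : C.card = Nat.card E := by
    rw [Nat.card_eq_fintype_card, Fintype.card_subtype]
    exact Finset.card_equiv (Equiv.mulLeft t⁻¹) fun g => by simp [hC]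
  have hord : ∀ i ∈ cls a, i * i = 1 ∧ i ≠ 1 := fun i hi => by
    obtain ⟨c, rfl⟩ := isConj_iff.1 (mem_cls.1 hi)
    have h2 : orderOf (c * a * c⁻¹) = 2 := by rw [← MulAut.conj_apply, MulEquiv.orderOf_eq, ha]
    exact ⟨by rw [← sq, ← h2, pow_orderOf_eq_one], fun h => by rw [h, orderOf_one] at h2; omega⟩
  have hmem : ∀ z ∈ pairs a a {x}, z.1 ∈ cls a ∧ z.1 * z.2 = x ∧ z.1 ∈ C := fun z hz => by
    simp only [pairs, Finset.mem_filter, Finset.mem_product, Finset.mem_singleton] at hz
    obtain ⟨⟨h1, h2⟩, h3⟩ := hz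
    refine ⟨h1, h3, Finset.mem_filter.2 ⟨Finset.mem_univ _, ?_⟩⟩
    exact (T.mem_coset_of_mul_mem (hord _ h1).1 (hord _ h2).1 huniq (hord _ h1).2 (hord _ h2).2
      (h3.symm ▸ hx) (h3.symm ▸ hx1)).2
  have hinj : Set.InjOn Prod.fst (↑(pairs a a {x}) : Set (G × G)) := fun z hz w hw h => by
    refine Prod.ext h (mul_left_cancel (a := z.1) ?_)
    rw [(hmem z hz).2.1, h, (hmem w hw).2.1]
  have hsub : (pairs a a {x}).image Prod.fst ⊆ C := fun g hg => by
    obtain ⟨z, hz, rfl⟩ := Finset.mem_image.1 hg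
    exact (hmem z hz).2.2
  rw [← Finset.card_image_of_injOn hinj, ← hCc]
  refine ⟨Finset.card_le_card hsub, fun h i hi => ?_⟩
  have := (Finset.eq_of_subset_of_card_le hsub h.ge).ge
    (Finset.mem_filter.2 ⟨Finset.mem_univ i, hi⟩)
  obtain ⟨z, hz, rfl⟩ := Finset.mem_image.1 this
  exact mem_cls.1 (hmem z hz).1

/-- If the whole second coset lies in the class, there are exactly `|E|` pairs. -/
theorem TIPair.card_pairs_eq {a : G} (ha : orderOf a = 2)
    (huniq : ∀ z ∈ E, ∀ z' ∈ E, orderOf z = 2 → orderOf z' = 2 → z = z')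
    (hall : ∀ i, t⁻¹ * i ∈ E → IsConj a i) {x : G} (hx : x ∈ E) (hx1 : x ≠ 1) :
    (pairs a a {x}).card = Nat.card E := by
  classical
  refine le_antisymm (T.card_pairs_le ha huniq hx hx1).1 ?_
  have h : ∀ g : E, (t * g, (t * g)⁻¹ * x) ∈ pairs a a {x} := by
    intro g
    have h1 : IsConj a (t * g) := hall _ (by rw [inv_mul_cancel_left]; exact g.2)
    have h2 : IsConj a ((t * g)⁻¹ * x) := by
      obtain ⟨c, hc⟩ := isConj_iff.1 h1
      have hinv : (t * (g : G))⁻¹ = t * g := by
        refine inv_eq_of_mul_eq_one_right ?_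
        rw [← hc, ← sq, ← MulAut.conj_apply, ← map_pow, ← ha, pow_orderOf_eq_one, map_one]
      rw [hinv, mul_assoc]
      exact hall _ (by rw [inv_mul_cancel_left]; exact E.mul_mem g.2 hx)
    simp only [pairs, Finset.mem_filter, Finset.mem_product, Finset.mem_singleton, mem_cls]
    exact ⟨⟨h1, h2⟩, by group⟩
  rw [Nat.card_eq_fintype_card, ← Finset.card_univ]
  refine Finset.card_le_card_of_injOn (fun g : E => (t * (g : G), (t * (g : G))⁻¹ * x))
    (fun g _ => h g) fun g _ g' _ hg => Subtype.ext (mul_left_cancel (congrArg Prod.fst hg))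

end CfsgLib.PermPrime.DegP
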