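import Cfsg.Agent.Lib.PermPrime.DegP.Steinberg
import Cfsg.Agent.Lib.Small.Basic

/-!
# The action of the normalizer on the complement
-/

set_option autoImplicit false
set_option linter.style.haveILetI false
set_option linter.unusedSectionVars false

noncomputable section

namespace CfsgLib.PermPrime.DegP

open Cfsg MulAction

universe u

variable {p : ℕ} [hp : Fact p.Prime] {α : Type u} [Fintype α] [DecidableEq α]
  {G : Subgroup (Equiv.Perm α)} [Fintype G] (S : Setup p G)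

include S

theorem Setup.not_comm : ¬ IsMulCommutative G := fun h => S.not_normal ⟨fun z hz g => by
  rwa [h.is_comm.comm g z, mul_inv_cancel_right]⟩

theorem Setup.sq_mem {g : G} (hg : g ∈ Subgroup.normalizer (S.E : Set G)) : g ^ 2 ∈ S.E := by
  have h := Subgroup.sq_mem_of_index_two S.index_E (⟨g, hg⟩ : Subgroup.normalizer (S.E : Set G))
  rwa [Subgroup.mem_subgroupOf] at h

theorem Setup.orderOf_unique {z z' : G} (hz : z ∈ S.E) (hz' : z' ∈ S.E)
    (h : orderOf z = orderOf z') : Subgroup.zpowers z = Subgroup.zpowers z' := by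
  classical
  haveI := S.isCyclic
  haveI := Fintype.ofFinite S.E
  have key : Subgroup.zpowers (⟨z, hz⟩ : S.E) = Subgroup.zpowers (⟨z', hz'⟩ : S.E) := by
    set Z := Subgroup.zpowers (⟨z', hz'⟩ : S.E)
    refine Subgroup.eq_of_le_of_card_ge (Subgroup.zpowers_le.2 ?_) (le_of_eq ?_)
    swap
    · show Nat.card Z = Nat.card (Subgroup.zpowers (⟨z, hz⟩ : S.E))
      rw [Nat.card_zpowers, Nat.card_zpowers, Subgroup.orderOf_mk z' hz', Subgroup.orderOf_mk z hz, h]
    set n := orderOf z'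
    have hsub : Finset.univ.filter (fun g : S.E => g ∈ Z) ⊆
        Finset.univ.filter fun g : S.E => g ^ n = 1 := fun g hg => by
      simp only [Finset.mem_filter, Finset.mem_univ, true_and] at hg ⊢
      refine orderOf_dvd_iff_pow_eq_one.1 ((Subgroup.orderOf_dvd_natCard _ hg).trans (dvd_of_eq ?_))
      rw [Nat.card_zpowers, Subgroup.orderOf_mk z' hz']
    have hle := IsCyclic.card_pow_eq_one_le (α := S.E) (orderOf_pos z' : 0 < n)
    have hcard : (Finset.univ.filter fun g : S.E => g ∈ Z).card = n := by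
      rw [← Fintype.card_subtype, ← Nat.card_eq_fintype_card]
      exact (Nat.card_zpowers _).trans (Subgroup.orderOf_mk _ _)
    have heq := Finset.eq_of_subset_of_card_le hsub (hle.trans hcard.ge)
    have hmem : (⟨z, hz⟩ : S.E) ∈ Finset.univ.filter fun g : S.E => g ^ n = 1 := by
      simp only [Finset.mem_filter, Finset.mem_univ, true_and]
      rw [← orderOf_dvd_iff_pow_eq_one, Subgroup.orderOf_mk z hz, h]
    rw [← heq] at hmem
    exact (Finset.mem_filter.1 hmem).2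
  have h2 := congrArg (Subgroup.map S.E.subtype) key
  rwa [MonoidHom.map_zpowers, MonoidHom.map_zpowers] at h2

theorem Setup.unique_involution : ∀ z ∈ S.E, ∀ z' ∈ S.E, orderOf z = 2 → orderOf z' = 2 → z = z' := by
  intro z hz z' hz' h h'
  have hzz : z ∈ Subgroup.zpowers z' := S.orderOf_unique hz hz' (h.trans h'.symm) ▸ Subgroup.mem_zpowers z
  obtain ⟨k, hk⟩ := mem_powers_iff_mem_zpowers.2 hzz
  have hk : z' ^ k = z := hk
  rw [← pow_mod_orderOf, h'] at hk
  rcases Nat.mod_two_eq_zero_or_one k with hk2 | hk2 <;> rw [hk2] at hk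
  · rw [pow_zero] at hk
    rw [← hk, orderOf_one] at h
    omega
  · rw [← hk, pow_one]

/-- **An odd part of the complement is not centralized by its normalizer.** -/
theorem Setup.exists_moved {q : ℕ} (hq : q.Prime) (hq2 : q ≠ 2) (hqe : q ∣ Nat.card S.E) :
    ∃ y ∈ S.E, (∃ k, orderOf y = q ^ k) ∧ S.t * y * S.t⁻¹ ≠ y := by
  classical
  haveI : Fact q.Prime := ⟨hq⟩
  haveI := S.isSimpleGroup
  haveI := S.isCyclic
  by_contra! hcon
  let Q : Sylow q S.E := default
  set R : Subgroup G := (Q : Subgroup S.E).map S.E.subtype with hR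
  have hRE : R ≤ S.E := Subgroup.map_subtype_le _
  have hRp : IsPGroup q R := Q.2.map _
  obtain ⟨z, hzQ, hz1⟩ : ∃ z : S.E, z ∈ (Q : Subgroup S.E) ∧ z ≠ 1 := by
    have := Q.ne_bot_of_dvd_card hqe
    obtain ⟨z, hz, hz1⟩ := (Subgroup.bot_or_exists_ne_one (Q : Subgroup S.E)).resolve_left this
    exact ⟨z, hz, hz1⟩
  have hz1' : (z : G) ≠ 1 := fun h => hz1 (Subtype.ext h)
  have hNR : Subgroup.normalizer (R : Set G) ≤ Subgroup.normalizer (S.E : Set G) := fun g hg =>
    S.mem_normalizer z.2 hz1' (hRE ((Subgroup.mem_normalizer_iff.1 hg _).1 ⟨z, hzQ, rfl⟩))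
  obtain ⟨Q', hQ'⟩ := hRp.exists_le_sylow
  have heq : (Q' : Subgroup G) = R := by
    refine le_antisymm ?_ hQ'
    haveI : Group.IsNilpotent Q' := Q'.2.isNilpotent
    by_contra hne
    have hlt : R.subgroupOf Q' < ⊤ := lt_top_iff_ne_top.2 fun h => hne (Subgroup.subgroupOf_eq_top.1 h)
    obtain ⟨g, hgN, hgR⟩ := SetLike.exists_of_lt (Group.normalizerCondition_of_isNilpotent _ hlt)
    rw [Subgroup.mem_subgroupOf] at hgR
    have hgN' : (g : G) ∈ Subgroup.normalizer (R : Set G) := by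
      rw [Subgroup.mem_normalizer_iff]
      intro r
      constructor
      · intro hr
        have := (Subgroup.mem_normalizer_iff.1 hgN ⟨r, hQ' hr⟩).1 (Subgroup.mem_subgroupOf.2 hr)
        simpa [Subgroup.mem_subgroupOf] using this
      · intro hr
        have hrQ : r ∈ (Q' : Subgroup G) := by
          have := (Q' : Subgroup G).mul_mem ((Q' : Subgroup G).mul_mem
            ((Q' : Subgroup G).inv_mem g.2) (hQ' hr)) g.2
          simpa [mul_assoc] using this
        exact Subgroup.mem_subgroupOf.1 ((Subgroup.mem_normalizer_iff.1 hgN ⟨r, hrQ⟩).2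
          (by simpa [Subgroup.mem_subgroupOf] using hr))
    obtain ⟨k, hk⟩ := Q'.2 g
    have hgk : (g : G) ^ q ^ k = 1 := congrArg Subtype.val hk
    obtain ⟨c, hc⟩ : Odd (q ^ k) := (hq.odd_of_ne_two hq2).pow
    have hgE : (g : G) ∈ S.E := by
      have e : (g : G) = ((g : G) ^ 2) ^ (c + 1) := by
        rw [← pow_mul, show 2 * (c + 1) = q ^ k + 1 by omega, pow_succ, hgk, one_mul]
      rw [e]
      exact S.E.pow_mem (S.sq_mem (hNR hgN')) _
    refine hgR ⟨⟨g, hgE⟩, ?_, rfl⟩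
    have hz : IsPGroup q (Subgroup.zpowers (⟨g, hgE⟩ : S.E)) := by
      obtain ⟨i, -, hi⟩ := (Nat.dvd_prime_pow hq).1 (orderOf_dvd_of_pow_eq_one
        (show (⟨g, hgE⟩ : S.E) ^ q ^ k = 1 from Subtype.ext hgk))
      exact IsPGroup.of_card (n := i) (by rw [Nat.card_zpowers, hi])
    obtain ⟨Q₂, hQ₂⟩ := hz.exists_le_sylow
    haveI : (Q : Subgroup S.E).Normal := by
      haveI : IsMulCommutative S.E := inferInstance
      exact Subgroup.normal_of_isMulCommutative _
    haveI := Sylow.unique_of_normal Q inferInstance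
    rw [show Q = Q₂ from Subsingleton.elim _ _]
    exact hQ₂ (Subgroup.mem_zpowers _)
  refine CfsgLib.Small.not_normalizer_le_centralizer S.not_comm
    (hqe.trans (Subgroup.card_subgroup_dvd_card _)) Q' ?_
  rw [heq]
  intro g hg
  rw [Subgroup.mem_centralizer_iff]
  intro r hr
  obtain ⟨r', hr', rfl⟩ : ∃ r' ∈ (Q : Subgroup S.E), (r' : G) = r := hr
  rcases S.coset (hNR hg) with h | h
  · exact S.comm_E r'.2 h
  · obtain ⟨k, hk⟩ := IsPGroup.iff_orderOf.1 Q.2 ⟨r', hr'⟩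
    have hord : orderOf (r' : G) = q ^ k := by
      rw [Subgroup.orderOf_coe, ← hk]
      exact (Subgroup.orderOf_mk _ _).symm
    have h2 := S.tiPair.conj_of_coset h r'.2
    rw [hcon _ r'.2 ⟨k, hord⟩, mul_inv_eq_iff_eq_mul] at h2
    exact h2.symm

theorem Setup.tw_tw {y : G} (hy : y ∈ S.E) : S.t * (S.t * y * S.t⁻¹) * S.t⁻¹ = y := by
  rw [show S.t * (S.t * y * S.t⁻¹) * S.t⁻¹ = (S.t * S.t) * y * (S.t * S.t)⁻¹ by group,
    S.tiPair.conj_of_mem S.tiPair.t_sq hy]

/-- No non-trivial element of a complement of odd order is fixed. -/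
theorem Setup.fixed_eq_one (hodd : Odd (Nat.card S.E)) {f : G} (hf : f ∈ S.E)
    (hfix : S.t * f * S.t⁻¹ = f) : f = 1 := by
  classical
  by_contra hne
  have hne1 : orderOf f ≠ 1 := fun h => hne (orderOf_eq_one_iff.1 h)
  set q := (orderOf f).minFac with hqdef
  have hq : q.Prime := Nat.minFac_prime hne1
  have hqe : q ∣ Nat.card S.E := (Nat.minFac_dvd _).trans (Subgroup.orderOf_dvd_natCard _ hf)
  have hq2 : q ≠ 2 := fun h => by
    rw [h] at hqe
    exact (Nat.not_even_iff_odd.2 hodd) (even_iff_two_dvd.2 hqe)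
  obtain ⟨y, hy, ⟨k, hyk⟩, hmov⟩ := S.exists_moved hq hq2 hqe
  set z := f ^ (orderOf f / q) with hzdef
  have hzE : z ∈ S.E := S.E.pow_mem hf _
  have hzo : orderOf z = q := by
    rw [hzdef, orderOf_pow_of_dvd (Nat.div_pos (Nat.le_of_dvd (orderOf_pos f) (Nat.minFac_dvd _))
      hq.pos).ne' (Nat.div_dvd_of_dvd (Nat.minFac_dvd _))]
    exact Nat.div_div_self (Nat.minFac_dvd _) (orderOf_pos f).ne'
  have hzfix : S.t * z * S.t⁻¹ = z := by rw [hzdef, ← conj_pow, hfix]
  set w := y⁻¹ * (S.t * y * S.t⁻¹) with hw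
  have hwE : w ∈ S.E := S.E.mul_mem (S.E.inv_mem hy) (S.tiPair.conj_mem y hy)
  have hw1 : w ≠ 1 := fun h => hmov (inv_mul_eq_one.1 h).symm
  have hwinv : S.t * w * S.t⁻¹ = w⁻¹ := by
    rw [hw, show S.t * (y⁻¹ * (S.t * y * S.t⁻¹)) * S.t⁻¹ =
      (S.t * y * S.t⁻¹)⁻¹ * (S.t * (S.t * y * S.t⁻¹) * S.t⁻¹) by group, S.tw_tw hy]
    group
  have hwd : orderOf w ∣ q ^ k := by
    refine orderOf_dvd_of_pow_eq_one ?_
    rw [hw, (show Commute y⁻¹ (S.t * y * S.t⁻¹) from
      S.comm_E (S.E.inv_mem hy) (S.tiPair.conj_mem y hy)).mul_pow, inv_pow, ← hyk,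
      pow_orderOf_eq_one, inv_one, one_mul, conj_pow, pow_orderOf_eq_one, mul_one, mul_inv_cancel]
  obtain ⟨i, -, hi⟩ := (Nat.dvd_prime_pow hq).1 hwd
  have hi0 : i ≠ 0 := fun h => hw1 (orderOf_eq_one_iff.1 (by rw [hi, h, pow_zero]))
  set v := w ^ (q ^ (i - 1)) with hv
  have hvo : orderOf v = q := by
    rw [hv, orderOf_pow_of_dvd (pow_ne_zero _ hq.ne_zero) (hi ▸ pow_dvd_pow q (by omega)), hi,
      Nat.pow_div (by omega) hq.pos, show i - (i - 1) = 1 by omega, pow_one]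
  have hvinv : S.t * v * S.t⁻¹ = v⁻¹ := by rw [hv, ← conj_pow, hwinv, inv_pow]
  have hvz : v ∈ Subgroup.zpowers z :=
    S.orderOf_unique (S.E.pow_mem hwE _) hzE (hvo.trans hzo.symm) ▸ Subgroup.mem_zpowers v
  obtain ⟨j, hj⟩ := mem_powers_iff_mem_zpowers.2 hvz
  have hj : z ^ j = v := hj
  have hvfix : S.t * v * S.t⁻¹ = v := by rw [← hj, ← conj_pow, hzfix]
  have hv2 : v ^ 2 = 1 := by
    rw [sq, mul_eq_one_iff_eq_inv, ← hvinv, hvfix]
  have := Nat.le_of_dvd two_pos (orderOf_dvd_of_pow_eq_one hv2)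
  rw [hvo] at this
  have := hq.two_le
  omega

theorem Setup.invert (hodd : Odd (Nat.card S.E)) {y : G} (hy : y ∈ S.E) :
    S.t * y * S.t⁻¹ = y⁻¹ := by
  have hmem := S.E.mul_mem hy (S.tiPair.conj_mem y hy)
  have h := S.fixed_eq_one hodd hmem (by
    rw [show S.t * (y * (S.t * y * S.t⁻¹)) * S.t⁻¹ =
      (S.t * y * S.t⁻¹) * (S.t * (S.t * y * S.t⁻¹) * S.t⁻¹) by group, S.tw_tw hy,
      S.comm_E (S.tiPair.conj_mem y hy) hy])
  exact eq_inv_of_mul_eq_one_right h

theorem Setup.orderOf_coset (hodd : Odd (Nat.card S.E)) {i : G} (hi : S.t⁻¹ * i ∈ S.E) :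
    orderOf i = 2 := by
  have ht : S.t * S.t = 1 := S.fixed_eq_one hodd S.tiPair.t_sq (by group)
  refine orderOf_eq_prime ?_ fun h => ?_
  · set g := S.t⁻¹ * i with hg
    have hti : i = S.t * g := by rw [hg, mul_inv_cancel_left]
    have := S.invert hodd hi
    rw [sq, hti, show S.t * g * (S.t * g) = (S.t * g * S.t⁻¹) * (S.t * S.t) * g by group, this, ht,
      mul_one, inv_mul_cancel]
  · rw [h, mul_one, inv_mem_iff] at hi
    exact S.tiPair.notMem hi

theorem Setup.exists_conj_coset (hodd : Odd (Nat.card S.E)) {i : G} (hi : S.t⁻¹ * i ∈ S.E) :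
    ∃ g ∈ S.E, g * S.t * g⁻¹ = i := by
  obtain ⟨c, hc⟩ := hodd
  set g := (S.t⁻¹ * i) ^ (c + 1) with hg
  have hgE : g ∈ S.E := S.E.pow_mem hi _
  refine ⟨g⁻¹, S.E.inv_mem hgE, ?_⟩
  have hcard : (S.t⁻¹ * i) ^ (2 * c + 1) = 1 := by
    rw [← hc, ← orderOf_dvd_iff_pow_eq_one]
    exact Subgroup.orderOf_dvd_natCard _ hi
  have hgg : g * g = S.t⁻¹ * i := by
    rw [hg, ← pow_add, show c + 1 + (c + 1) = 2 * c + 1 + 1 by ring, pow_succ, hcard, one_mul]
  have h1 := S.invert ⟨c, hc⟩ hgE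
  calc g⁻¹ * S.t * g⁻¹⁻¹ = (S.t * g * S.t⁻¹) * S.t * g := by rw [h1, inv_inv]
    _ = S.t * (g * g) := by group
    _ = i := by rw [hgg, mul_inv_cancel_left]

theorem Setup.isConj_coset (hodd : Odd (Nat.card S.E)) {i : G} (hi : S.t⁻¹ * i ∈ S.E) :
    IsConj S.t i :=
  let ⟨g, _, hg⟩ := S.exists_conj_coset hodd hi
  isConj_iff.2 ⟨g, hg⟩

/-- For an even complement of order above two, some element is moved. -/
theorem Setup.exists_moved_even (heven : Even (Nat.card S.E)) (h2 : Nat.card S.E ≠ 2) :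
    ∃ y ∈ S.E, S.t * y * S.t⁻¹ ≠ y := by
  classical
  by_contra! hcon
  haveI := S.isSimpleGroup
  haveI := S.isCyclic
  have he2 : ∀ q : ℕ, q.Prime → q ∣ Nat.card S.E → q = 2 := fun q hq hqe => by
    by_contra hq2
    obtain ⟨y, hy, -, hy'⟩ := S.exists_moved hq hq2 hqe
    exact hy' (hcon y hy)
  set D := Subgroup.normalizer (S.E : Set G) with hD
  have hcomm : ∀ a ∈ D, ∀ b ∈ D, a * b = b * a := by
    intro a ha b hb
    have key : ∀ c ∈ D, ∀ y ∈ S.E, c * y = y * c := by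
      intro c hc y hy
      rcases S.coset hc with h | h
      · exact S.comm_E h hy
      · have h1 := S.tiPair.conj_of_coset h hy
        rw [hcon y hy, mul_inv_eq_iff_eq_mul] at h1
        exact h1
    rcases S.coset ha with h | h
    · exact (key b hb a h).symm
    rcases S.coset hb with h' | h'
    · exact key a ha b h'
    obtain ⟨u, hu, rfl⟩ : ∃ u ∈ S.E, a = S.t * u := ⟨_, h, (mul_inv_cancel_left _ _).symm⟩
    obtain ⟨v, hv, rfl⟩ : ∃ v ∈ S.E, b = S.t * v := ⟨_, h', (mul_inv_cancel_left _ _).symm⟩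
    have ht : S.t ∈ D := S.exists_t.choose_spec.1
    have hut := key S.t ht u hu
    have hvt := key S.t ht v hv
    rw [show S.t * u * (S.t * v) = S.t * (u * S.t) * v by group, ← hut,
      show S.t * v * (S.t * u) = S.t * (v * S.t) * u by group, ← hvt]
    simp only [mul_assoc]
    rw [S.comm_E hu hv]
  have hsqD : ∀ g ∈ D, g ^ 2 ∈ S.E := fun g hg => S.sq_mem hg
  obtain ⟨y, hy⟩ := IsCyclic.exists_generator (α := S.E)
  have hy2 : (y : G) ^ 2 ≠ 1 := fun h => by
    have h1 := orderOf_dvd_of_pow_eq_one h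
    rw [Subgroup.orderOf_coe, orderOf_eq_card_of_forall_mem_zpowers hy] at h1
    have := Nat.le_of_dvd two_pos h1
    have := S.two_le_e
    omega
  have hnorm : ∀ g : G, (∀ d ∈ D, g * d * g⁻¹ ∈ D) → g ∈ D := fun g hg => by
    refine S.mem_normalizer (S.E.pow_mem y.2 2) hy2 ?_
    rw [← conj_pow]
    exact hsqD _ (hg _ (Subgroup.le_normalizer y.2))
  have hNN : Subgroup.normalizer (D : Set G) ≤ D := fun g hg =>
    hnorm g fun d hd => (Subgroup.mem_normalizer_iff.1 hg d).1 hd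
  have hDp : IsPGroup 2 D := by
    obtain ⟨a, ha⟩ : ∃ a, Nat.card S.E = 2 ^ a :=
      ⟨_, Nat.eq_prime_pow_of_unique_prime_dvd Nat.card_pos.ne' fun {d} hd hde => he2 d hd hde⟩
    exact IsPGroup.of_card (n := a + 1) (by rw [hD, S.hNE, ha, pow_succ, mul_comm])
  obtain ⟨Q, hQ⟩ := hDp.exists_le_sylow
  have hQD : (Q : Subgroup G) = D := by
    refine le_antisymm ?_ hQ
    haveI : Group.IsNilpotent Q := Q.2.isNilpotent
    by_contra hne
    have hlt : D.subgroupOf Q < ⊤ := lt_top_iff_ne_top.2 fun h => hne (Subgroup.subgroupOf_eq_top.1 h)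
    obtain ⟨g, hgN, hgR⟩ := SetLike.exists_of_lt (Group.normalizerCondition_of_isNilpotent _ hlt)
    rw [Subgroup.mem_subgroupOf] at hgR
    exact hgR (hnorm _ fun d hd => by
      have := (Subgroup.mem_normalizer_iff.1 hgN ⟨d, hQ hd⟩).1 (Subgroup.mem_subgroupOf.2 hd)
      simpa [Subgroup.mem_subgroupOf] using this)
  refine CfsgLib.Small.not_normalizer_le_centralizer S.not_comm
    ((even_iff_two_dvd.1 heven).trans (Subgroup.card_subgroup_dvd_card _)) Q ?_
  rw [hQD]
  intro g hg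
  rw [Subgroup.mem_centralizer_iff]
  intro d hd
  exact hcomm d hd g (hNN hg)

end CfsgLib.PermPrime.DegP
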