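import Cfsg.Agent.Lib.PermPrime.DegP.Block
import Cfsg.Agent.Lib.Characters.Exceptional
import Mathlib.GroupTheory.GroupAction.Quotient

/-!
# Complements of odd order
-/

set_option autoImplicit false
set_option linter.style.haveILetI false
set_option linter.unusedSectionVars false

noncomputable section

namespace CfsgLib.PermPrime.DegP

open Cfsg CfsgLib.Characters MulAction CfsgLib.ClassCount
open scoped ComplexConjugate

universe u

/-- A generalized character of norm two and value `-1` at the identity. -/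
theorem exists_diff_of_norm_two_neg {H : Type u} [Group H] [Fintype H] {τ : H → ℂ}
    (hgen : IsGeneralizedCharacter H τ) (h1 : τ 1 = -1) (h2 : classInner τ τ = 2) :
    ∃ a b : IrrCharacter H, a ≠ b ∧ τ = (a : H → ℂ) - (b : H → ℂ) := by
  classical
  have hc := isClassFunction_of_isGeneralizedCharacter hgen
  choose m hm using (isGeneralizedCharacter_iff.1 hgen).2
  have hexp : τ = ∑ χ : IrrCharacter H, (m χ : ℂ) • (χ : H → ℂ) := by
    conv_lhs => rw [classFunction_eq_sum hc]
    simp only [hm]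
  rw [classInner_self_eq_sum_sq hc hm] at h2
  have hsum : ∑ χ, m χ ^ 2 = 2 := by exact_mod_cast h2
  let s := Finset.univ.filter fun χ : IrrCharacter H => m χ ≠ 0
  have hs : ∑ χ ∈ s, m χ ^ 2 = 2 := by
    rw [← hsum]
    exact Finset.sum_subset (Finset.subset_univ _) (fun χ _ hχ => by simpa [s] using hχ)
  have hsq : ∀ χ ∈ s, m χ ^ 2 = 1 := by
    intro χ hχ
    have hle : m χ ^ 2 ≤ 2 := hs ▸ Finset.single_le_sum (fun _ _ => sq_nonneg _) hχ
    have hne : m χ ≠ 0 := (Finset.mem_filter.1 hχ).2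
    have h3 : m χ ≤ 1 := by nlinarith
    have h4 : -1 ≤ m χ := by nlinarith
    have : m χ = 1 ∨ m χ = -1 := by omega
    rcases this with h | h <;> rw [h] <;> norm_num
  have hcard : s.card = 2 := by
    rw [Finset.sum_congr rfl hsq, Finset.sum_const, nsmul_one] at hs
    exact_mod_cast hs
  obtain ⟨a, b, hab, hsab⟩ := Finset.card_eq_two.1 hcard
  have hτ : τ = (m a : ℂ) • (a : H → ℂ) + (m b : ℂ) • (b : H → ℂ) := by
    rw [hexp, ← Finset.sum_subset (Finset.subset_univ s), hsab, Finset.sum_pair hab]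
    intro χ _ hχ
    rw [show m χ = 0 by simpa [s] using hχ, Int.cast_zero, zero_smul]
  obtain ⟨da, hda0, hda⟩ := irr_exists_degree a.2
  obtain ⟨db, hdb0, hdb⟩ := irr_exists_degree b.2
  have hdeg := congrFun hτ 1
  rw [h1, Pi.add_apply, Pi.smul_apply, Pi.smul_apply, hda, hdb, smul_eq_mul, smul_eq_mul] at hdeg
  have hdeg' : (-1 : ℤ) = m a * da + m b * db := by exact_mod_cast hdeg
  have ha := hsq a (hsab ▸ Finset.mem_insert_self a _)
  have hb := hsq b (hsab ▸ Finset.mem_insert_of_mem (Finset.mem_singleton_self b))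
  rcases sq_eq_one_iff.1 ha with ha | ha <;> rcases sq_eq_one_iff.1 hb with hb | hb <;>
    rw [ha, hb] at hdeg' hτ
  · omega
  · exact ⟨a, b, hab, by simp [hτ, sub_eq_add_neg]⟩
  · exact ⟨b, a, hab.symm, by simp [hτ, sub_eq_add_neg, add_comm]⟩
  · omega

/-- The values at an element with square one. -/
theorem involution_value {H : Type u} [Group H] [Finite H] {χ : H → ℂ} (hχ : IsCharacter H χ)
    {n : ℕ} (hn : χ 1 = n) {t : H} (ht : t * t = 1) :
    ∃ z : ℤ, χ t = z ∧ -(n : ℤ) ≤ z ∧ z ≤ n ∧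
      (z = -(n : ℤ) → ∀ y : H, t * y * t⁻¹ = y⁻¹ → χ (y ^ 2) = χ 1) := by
  classical
  obtain ⟨k, ρ, rfl⟩ := hχ
  obtain ⟨b, ω, hω, hb⟩ := exists_eigenbasis ρ t
  have hω2 : ∀ i, ω i = 1 ∨ ω i = -1 := fun i => sq_eq_one_iff.1 (by
    obtain ⟨c, hc⟩ := orderOf_dvd_of_pow_eq_one (show t ^ 2 = 1 by rw [sq, ht])
    rw [hc, pow_mul, hω i, one_pow])
  let s : Fin (Module.finrank ℂ (Fin k → ℂ)) → ℤ := fun i => if ω i = 1 then 1 else -1
  have hs : ∀ i, ω i = (s i : ℂ) := fun i => by
    by_cases h : ω i = 1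
    · simp [s, h]
    · simp [s, h, (hω2 i).resolve_left h]
  have hsb : ∀ i, -1 ≤ s i ∧ s i ≤ 1 := fun i => by
    by_cases h : ω i = 1 <;> simp [s, h]
  have hd : (n : ℤ) = ∑ _i : Fin (Module.finrank ℂ (Fin k → ℂ)), (1 : ℤ) := by
    rw [Representation.char_one, Nat.cast_inj] at hn
    simp [← hn]
  refine ⟨∑ i, s i, ?_, ?_, ?_, fun hz y hy => ?_⟩
  · rw [character_eq_sum_of_eigenbasis ρ t b ω hb, Int.cast_sum]
    exact Finset.sum_congr rfl fun i _ => hs i
  · rw [hd, ← Finset.sum_neg_distrib]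
    exact Finset.sum_le_sum fun i _ => (hsb i).1
  · rw [hd]
    exact Finset.sum_le_sum fun i _ => (hsb i).2
  · rw [hd, ← Finset.sum_neg_distrib, eq_comm, Finset.sum_eq_sum_iff_of_le fun i _ => (hsb i).1] at hz
    have hρ : ρ t = -1 := b.ext fun i => by
      rw [hb, hs, ← hz i (Finset.mem_univ i)]
      simp
    have hρi : ρ t⁻¹ = -1 := by rw [inv_eq_of_mul_eq_one_right ht, hρ]
    have h1 : ρ y⁻¹ = ρ y := by
      rw [← hy, map_mul, map_mul, hρ, hρi]
      refine LinearMap.ext fun v => ?_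
      simp [Module.End.mul_apply]
    show ρ.character (y ^ 2) = ρ.character 1
    have h2 : ρ (y ^ 2) = ρ 1 := by
      rw [sq, map_mul]
      conv_lhs => arg 2; rw [← h1]
      rw [← map_mul, mul_inv_cancel]
    simp only [Representation.character, h2]

variable {p : ℕ} [hp : Fact p.Prime] {α : Type u} [Fintype α] [DecidableEq α]
  {G : Subgroup (Equiv.Perm α)} [Fintype G] (S : Setup p G) [Fintype S.E]

include S

theorem Setup.not_conj_of_involution (hodd : Odd (Nat.card S.E)) {g : G} (hg : orderOf g = 2)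
    (c : G) : c * g * c⁻¹ ∉ S.E := fun h => by
  have h2 := Subgroup.orderOf_dvd_natCard _ h
  rw [← MulAut.conj_apply, MulEquiv.orderOf_eq, hg] at h2
  exact Nat.not_even_iff_odd.2 hodd (even_iff_two_dvd.2 h2)

theorem Setup.orderOf_t (hodd : Odd (Nat.card S.E)) : orderOf S.t = 2 :=
  S.orderOf_coset hodd (by rw [inv_mul_cancel]; exact S.E.one_mem)

theorem Setup.no_involution (hodd : Odd (Nat.card S.E)) :
    ∀ z ∈ S.E, ∀ z' ∈ S.E, orderOf z = 2 → orderOf z' = 2 → z = z' := fun z hz _ _ h _ =>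
  absurd (by simpa using hz) (S.not_conj_of_involution hodd h 1 ∘ by simp)

/-- The class sum of the induced difference. -/
theorem Setup.sum_tiChar_irr {l : S.E →* ℂ} (h : S.Moved l) (a : G) :
    ∑ χ : IrrCharacter G, (χ : G → ℂ) a ^ 2 / (χ : G → ℂ) 1 *
        classInner (tiChar l) (χ : G → ℂ) =
      1 + (S.st : G → ℂ) a ^ 2 / (p : ℂ) - (S.big l h : G → ℂ) a ^ 2 / ((p : ℂ) + 1) := by
  classical
  have e : tiChar l = (principalIrr G : G → ℂ) + (S.st : G → ℂ) - (S.big l h : G → ℂ) := by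
    funext g
    rw [Pi.sub_apply, Pi.add_apply, S.big_apply h]
    simp [principalIrr]
  simp only [e, classInner_sub_left, classInner_add_left, classInner_irr, mul_sub, mul_add, mul_ite,
    mul_one, mul_zero, Finset.sum_sub_distrib, Finset.sum_add_distrib, Finset.sum_ite_eq,
    Finset.mem_univ, if_true, S.st_one, S.big_one h]
  simp [principalIrr]

/-- Restriction to the normalizer of the complement. -/
theorem Setup.dihedral_bound (hodd : Odd (Nat.card S.E)) (χ : IrrCharacter G) :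
    ∃ n n' : ℕ, ∑ y : S.E, (χ : G → ℂ) (y : G) + (Nat.card S.E : ℂ) * (χ : G → ℂ) S.t =
        2 * (Nat.card S.E : ℂ) * n ∧
      ∑ y : S.E, (χ : G → ℂ) (y : G) - (Nat.card S.E : ℂ) * (χ : G → ℂ) S.t =
        2 * (Nat.card S.E : ℂ) * n' := by
  classical
  set N := Subgroup.normalizer (S.E : Set G) with hN
  haveI := Fintype.ofFinite N
  have ht : S.t ∈ N := S.exists_t.choose_spec.1
  let φ : S.E ⊕ S.E → N := fun z => match z with
    | Sum.inl y => ⟨y, Subgroup.le_normalizer y.2⟩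
    | Sum.inr y => ⟨S.t * y, N.mul_mem ht (Subgroup.le_normalizer y.2)⟩
  have hφ : Function.Bijective φ := by
    refine (Nat.bijective_iff_surjective_and_card φ).2 ⟨fun n => ?_, ?_⟩
    · rcases S.coset n.2 with h | h
      · exact ⟨Sum.inl ⟨n, h⟩, rfl⟩
      · exact ⟨Sum.inr ⟨_, h⟩, Subtype.ext (mul_inv_cancel_left _ _)⟩
    · rw [Nat.card_sum, hN, S.hNE, two_mul]
  let sg : N →* ℂ :=
    { toFun := fun n => if (n : G) ∈ S.E then 1 else -1
      map_one' := if_pos S.E.one_mem
      map_mul' := fun m n => by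
        have h := Subgroup.mul_mem_iff_of_index_two S.index_E (a := m) (b := n)
        simp only [Subgroup.mem_subgroupOf] at h
        by_cases hm : (m : G) ∈ S.E <;> by_cases hn : (n : G) ∈ S.E <;>
          simp only [hm, hn, h, iff_true, iff_false, if_true, if_false, not_true, not_false_iff] <;>
          norm_num }
  have hcos : ∀ y : S.E, (χ : G → ℂ) (S.t * y) = (χ : G → ℂ) S.t := fun y => by
    obtain ⟨g, -, hg⟩ := S.exists_conj_coset hodd (i := S.t * y) (by rw [inv_mul_cancel_left]; exact y.2)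
    rw [← hg, irr_isClassFunction χ]
  have hsgt : ∀ y : S.E, S.t * (y : G) ∉ S.E := fun y h => S.tiPair.notMem (by
    have := S.E.mul_mem h (S.E.inv_mem y.2)
    rwa [mul_inv_cancel_right] at this)
  have key : ∀ F : N →* ℂ, ∀ c : ℂ, (∀ y : S.E, F (φ (Sum.inl y)) = 1) →
      (∀ y : S.E, conj (F (φ (Sum.inr y))) = c) → ∃ n : ℕ,
      ∑ y : S.E, (χ : G → ℂ) (y : G) + c * ((Nat.card S.E : ℂ) * (χ : G → ℂ) S.t) =
        2 * (Nat.card S.E : ℂ) * n := by
    intro F c hF1 hF2
    obtain ⟨n, hn⟩ := classInner_char_nat (Clifford.isCharacter_subtype (irr_isCharacter χ) N)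
      (CfsgLib.Induction.isCharacter_monoidHom F)
    refine ⟨n, ?_⟩
    rw [classInner, inv_mul_eq_iff_eq_mul₀ (Nat.cast_ne_zero.2 Nat.card_pos.ne'), ← hφ.sum_comp,
      Fintype.sum_sum_type, show Nat.card N = 2 * Nat.card S.E from S.hNE] at hn
    push_cast at hn
    rw [← hn, Finset.sum_congr (s₁ := (Finset.univ : Finset S.E)) (f := fun y : S.E => (χ : G → ℂ) (y : G)) rfl fun y _ => show (χ : G → ℂ) (y : G) =
        (χ : G → ℂ) (φ (Sum.inl y) : G) * conj (F (φ (Sum.inl y))) by rw [hF1, map_one, mul_one],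
      Finset.sum_congr (s₁ := (Finset.univ : Finset S.E))
        (f := fun y => (χ : G → ℂ) (φ (Sum.inr y) : G) * conj (F (φ (Sum.inr y)))) rfl
        fun y _ => show _ = c * (χ : G → ℂ) S.t by rw [hF2, ← hcos y, mul_comm],
      Finset.sum_const, Finset.card_univ, nsmul_eq_mul, Nat.card_eq_fintype_card]
    ring
  obtain ⟨n, hn⟩ := key 1 1 (fun _ => rfl) fun _ => map_one _
  obtain ⟨n', hn'⟩ := key sg (-1) (fun y => if_pos y.2) fun y => by
    show conj (if S.t * (y : G) ∈ S.E then (1 : ℂ) else -1) = -1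
    rw [if_neg (hsgt y), map_neg, map_one]
  exact ⟨n, n', by linear_combination hn, by linear_combination hn'⟩

/-- The class of the second coset in the case of an odd complement. -/
theorem Setup.odd_facts (hodd : Odd (Nat.card S.E)) :
    Nat.card (fixedBy α S.t) ≤ 3 ∧
      Nat.card S.E * p * Nat.card (Subgroup.centralizer ({S.t} : Set G)) ^ 2 =
        Nat.card G * (p + 1) := by
  classical
  have hp2e := S.p_eq_two_mul hodd
  obtain ⟨he3, -, -⟩ := S.three_le hodd
  obtain ⟨l, hl⟩ : ∃ l : S.E →* ℂ, l ≠ 1 := by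
    haveI := S.isCyclic
    haveI : Nontrivial S.E := Finite.one_lt_card_iff_nontrivial.1 (by omega)
    obtain ⟨y, hy⟩ := exists_ne (1 : S.E)
    haveI : IsMulCommutative S.E := inferInstance
    letI : CommGroup S.E := { (inferInstance : Group S.E) with mul_comm := mul_comm' }
    obtain ⟨f, hf⟩ := CommGroup.exists_apply_ne_one_of_hasEnoughRootsOfUnity S.E ℂ hy
    exact ⟨(Units.coeHom ℂ).comp f, fun h => hf (Units.ext (DFunLike.congr_fun h y))⟩
  have hM := S.moved_of_ne_one hodd hl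
  have hto := S.orderOf_t hodd
  obtain ⟨s, hs⟩ := S.st_int S.t
  have hX : (S.big l hM : G → ℂ) S.t = 1 + (s : ℂ) := by
    rw [S.big_off hM (S.not_conj_of_involution hodd hto), hs]
  have hXsum : ∑ y : S.E, (S.big l hM : G → ℂ) (y : G) = (p : ℂ) - 1 := by
    let li : S.E →* ℂ :=
      { toFun := fun y => l y⁻¹
        map_one' := by rw [inv_one, map_one]
        map_mul' := fun a b => by rw [mul_inv_rev, map_mul, mul_comm] }
    have hli : li ≠ 1 := fun h => hl (MonoidHom.ext fun y => by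
      have h1 : l y⁻¹⁻¹ = 1 := DFunLike.congr_fun h y⁻¹
      rwa [inv_inv] at h1)
    have e : ∀ y : S.E, (S.big l hM : G → ℂ) (y : G) =
        l y + li y + if y = 1 then ((p : ℂ) - 1) else 0 := by
      intro y
      by_cases hy : y = 1
      · subst hy
        rw [OneMemClass.coe_one, S.big_one, map_one, map_one, if_pos rfl]
        ring
      · rw [S.big_mem hM hy, S.tw_eq_inv hodd, if_neg hy, add_zero]
        rfl
    rw [Finset.sum_congr rfl fun y _ => e y, Finset.sum_add_distrib, Finset.sum_add_distrib,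
      sum_hom_units_eq_zero l hl, sum_hom_units_eq_zero li hli, Finset.sum_ite_eq',
      if_pos (Finset.mem_univ _)]
    ring
  have hθsum : ∑ y : S.E, (S.theta : G → ℂ) (y : G) = (p : ℂ) - 1 := by
    rw [Finset.sum_eq_single (1 : S.E)
      (fun y _ hy => S.theta_mem y.2 fun e => hy (Subtype.ext e))
      (fun h => absurd (Finset.mem_univ _) h), OneMemClass.coe_one, S.theta_one]
  have he0 : (Nat.card S.E : ℂ) ≠ 0 := Nat.cast_ne_zero.2 Nat.card_pos.ne'
  have hpc : (p : ℂ) - 1 = 2 * (Nat.card S.E : ℂ) := by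
    have := congrArg (Nat.cast (R := ℂ)) hp2e
    push_cast at this
    linear_combination this
  obtain ⟨n, n', hn, hn'⟩ := S.dihedral_bound hodd (S.big l hM)
  obtain ⟨m, m', hm, hm'⟩ := S.dihedral_bound hodd S.theta
  rw [hXsum, hX, hpc] at hn hn'
  rw [hθsum, hpc] at hm hm'
  have hn2 : 2 + (1 + s) = 2 * (n : ℤ) := by
    have h1 : (((2 + (1 + s) : ℤ)) : ℂ) = ((2 * (n : ℤ) : ℤ) : ℂ) := by
      push_cast
      exact mul_left_cancel₀ he0 (by linear_combination hn)
    exact_mod_cast h1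
  have hn2' : 2 - (1 + s) = 2 * (n' : ℤ) := by
    have h1 : (((2 - (1 + s) : ℤ)) : ℂ) = ((2 * (n' : ℤ) : ℤ) : ℂ) := by
      push_cast
      exact mul_left_cancel₀ he0 (by linear_combination hn')
    exact_mod_cast h1
  set f := Nat.card (fixedBy α S.t) with hf
  have hft : (S.theta : G → ℂ) S.t = (f : ℂ) - 1 := rfl
  rw [hft] at hm hm'
  have hm2 : 2 - ((f : ℤ) - 1) = 2 * (m' : ℤ) := by
    have h1 : (((2 - ((f : ℤ) - 1) : ℤ)) : ℂ) = ((2 * (m' : ℤ) : ℤ) : ℂ) := by
      push_cast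
      exact mul_left_cancel₀ he0 (by linear_combination hm')
    exact_mod_cast h1
  refine ⟨by omega, ?_⟩
  have h4 := four_dvd_of_perfect S.perfect (irr_isCharacter S.st) hto (d := (p : ℤ)) (v := s)
    (by rw [S.st_one, Int.cast_natCast]) hs
  obtain ⟨k, hk⟩ := hodd
  have hs1 : s = -1 := by
    obtain ⟨j, hj⟩ := h4
    rw [hp2e] at hj
    push_cast at hj
    omega
  -- the class equation
  have hpairs : ∀ x : S.E, lamDiff l x * ((pairs S.t S.t {(x : G)}).card : ℂ) =
      (Nat.card S.E : ℂ) * lamDiff l x := fun x => by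
    by_cases hx : (x : G) = 1
    · rw [show x = 1 from Subtype.ext hx, lamDiff_one, zero_mul, mul_zero]
    · rw [S.tiPair.card_pairs_eq hto (S.no_involution ⟨k, hk⟩)
        (fun i hi => S.isConj_coset ⟨k, hk⟩ hi) x.2 hx, mul_comm]
  have h := pairs_tiChar l S.t
  rw [Finset.sum_congr rfl fun x _ => hpairs x, ← Finset.mul_sum, sum_lamDiff l hl,
    S.sum_tiChar_irr hM, hX, hs, hs1] at h
  have hp0 : (p : ℂ) ≠ 0 := Nat.cast_ne_zero.2 hp.out.ne_zero
  have hp1 : (p : ℂ) + 1 ≠ 0 := Nat.cast_add_one_ne_zero p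
  have hcl := congrArg (Nat.cast (R := ℂ)) (card_cls_mul_centralizer S.t)
  push_cast at h hcl
  field_simp at h
  have hfin : ((Nat.card S.E * p * Nat.card (Subgroup.centralizer ({S.t} : Set G)) ^ 2 : ℕ) : ℂ) =
      ((Nat.card G * (p + 1) : ℕ) : ℂ) := by
    push_cast
    have hG : (Nat.card G : ℂ) ≠ 0 := Nat.cast_ne_zero.2 Nat.card_pos.ne'
    refine mul_left_cancel₀ hG ?_
    set cl : ℂ := ((cls S.t).card : ℂ)
    set c : ℂ := (Nat.card (Subgroup.centralizer ({S.t} : Set G)) : ℂ)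
    rw [← hcl] at h ⊢
    have h' : cl * c * (Nat.card S.E : ℂ) * (p : ℂ) = cl ^ 2 * ((p : ℂ) + 1) :=
      mul_right_cancel₀ hp1 (by linear_combination h)
    linear_combination c ^ 2 * h'
  exact_mod_cast hfin

end CfsgLib.PermPrime.DegP
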