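import Cfsg.Agent.Lib.PermPrime.DegP.OddStab

/-!
# Complements of odd order: the orders
-/

set_option autoImplicit false
set_option linter.style.haveILetI false
set_option linter.unusedSectionVars false

noncomputable section

namespace CfsgLib.PermPrime.DegP

open Cfsg CfsgLib.Characters MulAction

universe u

theorem no_large_nine : ∀ A < 17, ∀ f < 4, ∀ T < 2 * A, 20 * A * (A + 1) ≠ f ^ 2 * T ^ 2 ∨ A < 2 := by
  decide +kernel

theorem no_large_eleven : ∀ A < 21, ∀ f < 4, ∀ T < 2 * A, 24 * A * (A + 1) ≠ f ^ 2 * T ^ 2 ∨ A < 2 := by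
  decide +kernel

theorem no_large_fifteen : ∀ A < 29, ∀ f < 4, ∀ T < 2 * A, 32 * A * (A + 1) ≠ f ^ 2 * T ^ 2 ∨ A < 2 := by
  decide +kernel

theorem small_complement {q e A f T : ℕ} (hq : q.Prime) (hqe : q = 2 * e + 1) (he : Odd e)
    (he3 : 3 ≤ e) (hA : 1 ≤ A) (hA2 : A + 2 ≤ 2 * e) (hf : f ≤ 3) (hT : T ≤ 2 * A)
    (hT2 : 2 ≤ A → T < 2 * A) (heq : (q + 1) * A * (A + 1) = f ^ 2 * T ^ 2) : e = 3 ∨ e = 5 := by
  obtain ⟨k, hk⟩ := he
  have hf2 : f ^ 2 ≤ 9 := Nat.pow_le_pow_left hf 2
  by_cases hA1 : A = 1
  · subst hA1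
    have hT3 : T ^ 2 ≤ 4 := Nat.pow_le_pow_left hT 2
    have h := Nat.mul_le_mul hf2 hT3
    rw [← heq] at h
    have : e ≤ 8 := by omega
    interval_cases e <;> first | omega | (subst hqe; norm_num at hq)
  · have h2 : 2 ≤ A := by omega
    have hT' := hT2 h2
    have h := Nat.mul_le_mul hf2 (Nat.pow_le_pow_left (le_of_lt hT') 2)
    rw [← heq] at h
    have h' : (q + 1) * (A * (A + 1)) < 36 * (A * (A + 1)) := by
      refine lt_of_le_of_lt (le_of_eq_of_le (by ring) h) ?_
      nlinarith
    have hq36 : q + 1 < 36 := Nat.lt_of_mul_lt_mul_right h'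
    have : e ≤ 17 := by omega
    interval_cases e <;> first
      | omega
      | (subst hqe; norm_num at hq; done)
      | (subst hqe; exfalso
         rcases no_large_nine A (by omega) f (by omega) T hT' with h3 | h3
         · exact h3 heq
         · omega)
      | (subst hqe; exfalso
         rcases no_large_eleven A (by omega) f (by omega) T hT' with h3 | h3
         · exact h3 heq
         · omega)
      | (subst hqe; exfalso
         rcases no_large_fifteen A (by omega) f (by omega) T hT' with h3 | h3
         · exact h3 heq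
         · omega)

theorem square_seven {w : ℕ} (h : w ^ 2 ∣ 30) : w = 1 := by
  have h1 := Nat.le_of_dvd (by norm_num) h
  have : w ≤ 5 := by nlinarith
  interval_cases w <;> first | rfl | norm_num at h

theorem square_eleven : ∀ w < 246, (60480 % (w * w) = 0 ∧ w * w % 5 = 1 ∧ w * w % 11 = 1) → w = 1 := by
  decide +kernel

variable {p : ℕ} [hp : Fact p.Prime] {α : Type u} [Fintype α] [DecidableEq α]
  {G : Subgroup (Equiv.Perm α)} [Fintype G] (S : Setup p G) [Fintype S.E]

include S

/-- **The orders for a complement of odd order.** -/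
theorem Setup.odd_order (hodd : Odd (Nat.card S.E)) :
    p = 7 ∧ Nat.card G = 168 ∨ p = 11 ∧ Nat.card G = 660 := by
  classical
  obtain ⟨w, -, hwG, hwn⟩ := S.odd_structure hodd
  obtain ⟨A, f, T, hA, hA2, hf, hT, hT2, heq⟩ := S.stab_equation hodd
  have hp2e := S.p_eq_two_mul hodd
  obtain ⟨he3, -, -⟩ := S.three_le hodd
  have he := small_complement hp.out hp2e hodd he3 hA hA2 hf hT hT2 heq
  have hfac := S.card_dvd_factorial
  rcases he with he | he
  · refine Or.inl ⟨by omega, ?_⟩
    have hp7 : p = 7 := by omega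
    have hG : Nat.card G = 168 * w ^ 2 := by
      rw [hwG, he, show p + 1 = 8 by omega, show p * 3 = 21 by omega]
      ring
    rw [hG, show p.factorial = 168 * 30 by rw [show p.factorial = Nat.factorial 7 from congrArg _ hp7]; rfl] at hfac
    rw [hG, square_seven (Nat.dvd_of_mul_dvd_mul_left (by norm_num) hfac)]
    norm_num
  · refine Or.inr ⟨by omega, ?_⟩
    have hp11 : p = 11 := by omega
    have hG : Nat.card G = 660 * w ^ 2 := by
      rw [hwG, he, show p + 1 = 12 by omega, show p * 5 = 55 by omega]
      ring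
    rw [hG, show p.factorial = 660 * 60480 by rw [show p.factorial = Nat.factorial 11 from congrArg _ hp11]; rfl] at hfac
    have hdvd := Nat.dvd_of_mul_dvd_mul_left (by norm_num) hfac
    have h11 : w * w % 11 = 1 := by
      have h := card_sylow_modEq_one p G
      rw [hwn, Nat.ModEq] at h
      rw [show p + 1 = 12 by omega, show 12 * w ^ 2 = w * w + 11 * (w * w) by ring, hp11] at h
      omega
    have h5 : w * w % 5 = 1 := by
      haveI : Fact (Nat.Prime 5) := ⟨by norm_num⟩
      have hnd : ¬ 5 ∣ w ^ 2 := fun hd => by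
        have h25 : 5 ^ 2 ∣ w ^ 2 := pow_dvd_pow_of_dvd ((Nat.prime_five).dvd_of_dvd_pow hd) 2
        have := h25.trans hdvd
        norm_num at this
      obtain ⟨Q, hQ⟩ := (IsPGroup.of_card (p := 5) (n := 1) (G := S.E) (by rw [he, pow_one])).exists_le_sylow
      have hQc : Nat.card (Q : Subgroup G) = 5 := by
        obtain ⟨k, hk⟩ := IsPGroup.iff_card.1 Q.2
        have hd : Nat.card (Q : Subgroup G) ∣ Nat.card G := Subgroup.card_subgroup_dvd_card _
        have hd2 := Subgroup.card_dvd_of_le hQ
        rw [hk] at hd hd2 ⊢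
        rw [he] at hd2
        rcases k with _ | _ | k
        · norm_num at hd2
        · rfl
        · exfalso
          rw [hG] at hd
          have h25 : 5 ^ 2 ∣ 5 * (132 * w ^ 2) :=
            (pow_dvd_pow 5 (show 2 ≤ k + 2 by omega)).trans (hd.trans (dvd_of_eq (by ring)))
          rw [sq] at h25
          rcases (Nat.prime_five).dvd_mul.1 (Nat.dvd_of_mul_dvd_mul_left (by norm_num) h25) with h | h
          · norm_num at h
          · exact hnd h
      have hQE : (Q : Subgroup G) = S.E :=
        (Subgroup.eq_of_le_of_card_ge hQ (by rw [hQc, he])).symm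
      have h := card_sylow_modEq_one 5 G
      rw [Q.card_eq_index_normalizer, ← Sylow.coe_coe, hQE] at h
      have hidx := (Subgroup.normalizer (S.E : Set G)).card_mul_index
      rw [S.hNE, he, hG] at hidx
      rw [Nat.ModEq, show (Subgroup.normalizer (S.E : Set G)).index = w * w + 5 * (13 * (w * w)) by
        have : 2 * 5 * (Subgroup.normalizer (S.E : Set G)).index = 2 * 5 * (w * w + 5 * (13 * (w * w))) :=
          hidx.trans (by ring)
        omega] at h
      omega
    have hw : w < 246 := by
      have h1 := Nat.le_of_dvd (by norm_num) hdvd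
      nlinarith
    rw [hG, square_eleven w hw ⟨by rw [← sq]; exact Nat.mod_eq_zero_of_dvd hdvd, h5, h11⟩]
    norm_num

end CfsgLib.PermPrime.DegP
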