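import Cfsg.Agent.Lib.PermPrime.DegP.Odd

/-!
# Complements of odd order: the point stabilizer
-/

set_option autoImplicit false
set_option linter.style.haveILetI false
set_option linter.unusedSectionVars false

noncomputable section

namespace CfsgLib.PermPrime.DegP

open Cfsg CfsgLib.Characters MulAction CfsgLib.ClassCount
open scoped ComplexConjugate

universe u

variable {p : ℕ} [hp : Fact p.Prime] {α : Type u} [Fintype α] [DecidableEq α]
  {G : Subgroup (Equiv.Perm α)} [Fintype G] (S : Setup p G) [Fintype S.E]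

include S

theorem Setup.exists_hom_ne_one : ∃ l : S.E →* ℂ, l ≠ 1 := by
  haveI := S.isCyclic
  haveI : Nontrivial S.E := Finite.one_lt_card_iff_nontrivial.1 (by have := S.two_le_e; omega)
  obtain ⟨y, hy⟩ := exists_ne (1 : S.E)
  haveI : IsMulCommutative S.E := inferInstance
  letI : CommGroup S.E := { (inferInstance : Group S.E) with mul_comm := mul_comm' }
  obtain ⟨f, hf⟩ := CommGroup.exists_apply_ne_one_of_hasEnoughRootsOfUnity S.E ℂ hy
  exact ⟨(Units.coeHom ℂ).comp f, fun h => hf (Units.ext (DFunLike.congr_fun h y))⟩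

/-- The order. -/
theorem Setup.odd_structure (hodd : Odd (Nat.card S.E)) :
    ∃ w : ℕ, Nat.card (Subgroup.centralizer ({S.t} : Set G)) = (p + 1) * w ∧
      Nat.card G = p * Nat.card S.E * ((p + 1) * w ^ 2) ∧
      Nat.card (Sylow p G) = (p + 1) * w ^ 2 := by
  set c := Nat.card (Subgroup.centralizer ({S.t} : Set G))
  set n := Nat.card (Sylow p G) with hn
  have heq := (S.odd_facts hodd).2
  rw [S.card_G, ← hn] at heq
  have hc2 : c ^ 2 = n * (p + 1) :=
    Nat.eq_of_mul_eq_mul_left (Nat.mul_pos Nat.card_pos hp.out.pos) (heq.trans (by ring))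
  have hcop : Nat.Coprime (p + 1) (p * Nat.card S.E) := by
    refine Nat.Coprime.mul_right (by simp) ?_
    have hp2 := S.p_eq_two_mul hodd
    rw [show p + 1 = 2 * (Nat.card S.E + 1) by omega]
    exact Nat.Coprime.mul_left (Nat.coprime_two_left.2 hodd) (by simp)
  obtain ⟨l, hl⟩ := S.exists_hom_ne_one
  have hM := S.moved_of_ne_one hodd hl
  obtain ⟨d, hd, -, hdd⟩ := irr_degree_dvd_card (S.big l hM)
  rw [S.big_one hM, ← Nat.cast_add_one, Nat.cast_inj] at hd
  rw [← hd, S.card_G, ← hn] at hdd
  obtain ⟨v, hv⟩ := hcop.dvd_of_dvd_mul_left hdd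
  have hcd : p + 1 ∣ c := (Nat.pow_dvd_pow_iff two_ne_zero).1 ⟨v, by rw [hc2, hv]; ring⟩
  obtain ⟨w, hw⟩ := hcd
  have hvw : v = w ^ 2 := by
    rw [hw, hv] at hc2
    refine Nat.eq_of_mul_eq_mul_left (show 0 < (p + 1) * (p + 1) by positivity) ?_
    linear_combination -hc2
  exact ⟨w, hw, by rw [S.card_G, ← hn, hv, hvw], by rw [hv, hvw]⟩

/-- **The relation in the point stabilizer.** -/
theorem Setup.stab_equation (hodd : Odd (Nat.card S.E)) :
    ∃ A f T : ℕ, 1 ≤ A ∧ A + 2 ≤ 2 * Nat.card S.E ∧ f ≤ 3 ∧ T ≤ 2 * A ∧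
      (2 ≤ A → T < 2 * A) ∧ (p + 1) * A * (A + 1) = f ^ 2 * T ^ 2 := by
  classical
  obtain ⟨w, hwc, hwG, -⟩ := S.odd_structure hodd
  obtain ⟨hfix, -⟩ := S.odd_facts hodd
  have hto := S.orderOf_t hodd
  have hp2e := S.p_eq_two_mul hodd
  obtain ⟨he3, -, -⟩ := S.three_le hodd
  set M := stabilizer G S.a with hMdef
  haveI := Fintype.ofFinite M
  haveI := S.trans
  have hMc : p * Nat.card M = Nat.card G := by
    rw [← M.index_mul_card, hMdef, index_stabilizer_of_transitive, S.card_α]
  have hEM : S.E ≤ M := fun g hg => S.smul_a hg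
  have htM : S.t ∈ M := S.normalizer_le S.exists_t.choose_spec.1
  set E' := S.E.subgroupOf M with hE'
  haveI := Fintype.ofFinite E'
  let ee : E' ≃* S.E := Subgroup.subgroupOfEquivOfLe hEM
  set t' : M := ⟨S.t, htM⟩ with ht'
  have hcE : Nat.card E' = Nat.card S.E := Nat.card_congr ee.toEquiv
  have T : TIPair E' t' :=
    { comm := fun a ha b hb => Subtype.ext (S.comm_E ha hb)
      notMem := S.tiPair.notMem
      conj_mem := fun a ha => S.tiPair.conj_mem (a : G) ha
      t_sq := S.tiPair.t_sq
      ti := fun g a ha ha1 hg => S.tiPair.ti (g : G) (a : G) ha (fun e => ha1 (Subtype.ext e)) hg }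
  obtain ⟨l, hl⟩ := S.exists_hom_ne_one
  have hmov := S.moved_of_ne_one hodd hl
  set l' : E' →* ℂ := l.comp ee.toMonoidHom with hl'
  have hl'1 : l' ≠ 1 := fun h => hl (MonoidHom.ext fun y => by
    obtain ⟨z, rfl⟩ := ee.surjective y
    exact DFunLike.congr_fun h z)
  have hne' : ∃ y, l' (T.tw y) ≠ l' y := by
    obtain ⟨y, hy⟩ := hmov.2
    obtain ⟨z, rfl⟩ := ee.surjective y
    refine ⟨z, fun h => hy ?_⟩
    have e : ee (T.tw z) = S.tiPair.tw (ee z) := Subtype.ext rfl
    show l (S.tiPair.tw (ee z)) = l (ee z)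
    rw [← e]
    exact h
  set F : M → ℂ := tiChar l' with hF
  have hFgen := isGeneralizedCharacter_tiChar (G := M) l'
  have hsum := sum_lamDiff l' hl'1
  have he0 : (Nat.card E' : ℂ) ≠ 0 := Nat.cast_ne_zero.2 Nat.card_pos.ne'
  have hF1 : classInner F (principalIrr M : M → ℂ) = 1 := by
    rw [hF, classInner_tiChar l' (irr_isClassFunction _), classInner]
    simp only [principalIrr, map_one, mul_one, hsum]
    exact inv_mul_cancel₀ he0
  set τ : M → ℂ := F - (principalIrr M : M → ℂ) with hτ
  have hτn : classInner τ τ = 2 := by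
    simp only [hτ, classInner_sub_left, classInner_sub_right, hF1, classInner_irr, if_true,
      CfsgLib.Induction.classInner_swap (principalIrr M : M → ℂ) F, map_one,
      show classInner F F = 3 from T.classInner_tiChar_self l' hl'1 hne']
    norm_num
  obtain ⟨a, b, hab, hdiff⟩ := exists_diff_of_norm_two_neg
    (isGeneralizedCharacter_sub hFgen (isGeneralizedCharacter_irr _))
    (show τ 1 = -1 by rw [hτ, Pi.sub_apply, hF, tiChar_one]; simp [principalIrr]) hτn
  have hFeq : F = (principalIrr M : M → ℂ) + (a : M → ℂ) - (b : M → ℂ) := by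
    funext g
    have := congrFun hdiff g
    simp only [hτ, Pi.sub_apply, Pi.add_apply] at this ⊢
    linear_combination this
  have hnp : a ≠ principalIrr M ∧ b ≠ principalIrr M := by
    have h := hF1
    rw [hFeq, classInner_sub_left, classInner_add_left, classInner_irr, classInner_irr,
      classInner_irr, if_pos rfl] at h
    constructor <;> intro e
    · rw [if_pos e, if_neg fun e' => hab (e.trans e'.symm)] at h
      norm_num at h
    · rw [if_neg fun e' => hab (e'.trans e.symm), if_pos e] at h
      norm_num at h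
  set A := charDegree (a : M → ℂ) with hA
  set B := charDegree (b : M → ℂ) with hB
  have hA0 : 0 < A := CfsgLib.Chars17.irrDegree_pos a
  have hBA : B = A + 1 := by
    have h := congrFun hFeq 1
    rw [hF, tiChar_one, Pi.sub_apply, Pi.add_apply, CharCorr.irr_one_eq_charDegree,
      CharCorr.irr_one_eq_charDegree, CharCorr.irr_one_eq_charDegree,
      show charDegree (principalIrr M : M → ℂ) = 1 by simp [charDegree, principalIrr], ← hA, ← hB] at h
    exact_mod_cast (show (B : ℂ) = (A : ℂ) + 1 by push_cast at h; linear_combination h)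
  -- the deleted permutation character
  set θM : M → ℂ := fun g => (S.theta : G → ℂ) (g : G) with hθM
  have hθc : IsCharacter M θM := Clifford.isCharacter_subtype (irr_isCharacter S.theta) M
  choose nθ hnθ using fun φ : IrrCharacter M => classInner_char_nat hθc (irr_isCharacter φ)
  have hFθ : classInner F θM = 0 := by
    rw [hF, classInner_tiChar l' (isClassFunction_of_isGeneralizedCharacter
      (isGeneralizedCharacter_of_isCharacter hθc)), classInner, Finset.sum_eq_zero, mul_zero]
    intro y _
    by_cases hy : y = 1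
    · rw [hy, lamDiff_one, zero_mul]
    · rw [hθM]
      beta_reduce
      rw [S.theta_mem (show ((y : M) : G) ∈ S.E from y.2) fun e => hy (Subtype.ext (Subtype.ext e)),
        map_zero, mul_zero]
  have hnB : nθ b = nθ (principalIrr M) + nθ a := by
    rw [hFeq, classInner_sub_left, classInner_add_left,
      CfsgLib.Induction.classInner_swap (principalIrr M : M → ℂ) θM,
      CfsgLib.Induction.classInner_swap (a : M → ℂ) θM,
      CfsgLib.Induction.classInner_swap (b : M → ℂ) θM, hnθ, hnθ, hnθ, map_natCast, map_natCast,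
      map_natCast, sub_eq_zero] at hFθ
    exact_mod_cast hFθ.symm
  have hn0 : 1 ≤ nθ (principalIrr M) := by
    have h := hnθ (principalIrr M)
    rw [classInner, inv_mul_eq_iff_eq_mul₀ (Nat.cast_ne_zero.2 Nat.card_pos.ne')] at h
    rw [Finset.sum_congr rfl fun g _ => show θM g * conj ((principalIrr M : M → ℂ) g) = θM g by
      simp [principalIrr]] at h
    simp only [hθM] at h
    letI : Fintype (Quotient (MulAction.orbitRel M α)) := Fintype.ofFinite _
    have hb := MulAction.sum_card_fixedBy_eq_card_orbits_mul_card_group M α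
    have horb : 2 ≤ Fintype.card (Quotient (MulAction.orbitRel M α)) := by
      obtain ⟨b', hb'⟩ := Fintype.exists_ne_of_one_lt_card (by rw [S.hα]; exact hp.out.one_lt) S.a
      refine Fintype.one_lt_card_iff.2 ⟨Quotient.mk'' b', Quotient.mk'' S.a, fun e => hb' ?_⟩
      obtain ⟨g, hg⟩ : b' ∈ orbit M S.a := Quotient.eq''.1 e
      exact hg.symm.trans g.2
    have h' : ∑ g : M, ((Fintype.card (fixedBy α g) : ℂ) - 1) =
        (Nat.card M : ℂ) * (nθ (principalIrr M) : ℂ) := by
      rw [← h]
      refine Finset.sum_congr rfl fun g _ => ?_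
      show _ = (Nat.card (fixedBy α (g : G)) : ℂ) - 1
      rw [← Nat.card_eq_fintype_card]
      rfl
    rw [Finset.sum_sub_distrib, ← Nat.cast_sum, hb, Finset.sum_const, Finset.card_univ, nsmul_one,
      Nat.cast_mul, ← Nat.card_eq_fintype_card (α := M)] at h'
    have h2 : ((Fintype.card (Quotient (MulAction.orbitRel M α)) : ℕ) : ℂ) =
        ((nθ (principalIrr M) + 1 : ℕ) : ℂ) := by
      push_cast
      exact mul_left_cancel₀ (Nat.cast_ne_zero.2 (Nat.card_pos (α := M)).ne')
        (by linear_combination h')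
    have h3 := Nat.cast_injective h2
    omega
  have hAbound : A + 2 ≤ 2 * Nat.card S.E := by
    have h := congrFun (classFunction_eq_sum (isClassFunction_of_isGeneralizedCharacter
      (isGeneralizedCharacter_of_isCharacter hθc))) 1
    have h1 : ((2 * Nat.card S.E : ℕ) : ℂ) =
        ((∑ φ : IrrCharacter M, nθ φ * charDegree (φ : M → ℂ) : ℕ) : ℂ) := by
      rw [show ((2 * Nat.card S.E : ℕ) : ℂ) = θM 1 by
        show _ = (S.theta : G → ℂ) 1
        rw [S.theta_one]
        have := congrArg (Nat.cast (R := ℂ)) hp2e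
        push_cast at this ⊢
        linear_combination -this, h, Finset.sum_apply, Nat.cast_sum]
      refine Finset.sum_congr rfl fun φ _ => ?_
      rw [Pi.smul_apply, smul_eq_mul, hnθ, CharCorr.irr_one_eq_charDegree, Nat.cast_mul]
    rw [Nat.cast_injective h1]
    refine le_trans ?_ (Finset.sum_le_sum_of_subset (Finset.subset_univ {principalIrr M, b}))
    rw [Finset.sum_pair hnp.2.symm, ← hB, hBA,
      show charDegree (principalIrr M : M → ℂ) = 1 by simp [charDegree, principalIrr]]
    have h2 := Nat.mul_le_mul_right (A + 1) (show 1 ≤ nθ b by omega)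
    omega
  -- values at the involution
  have ht'2 : t' * t' = 1 := Subtype.ext (by
    show S.t * S.t = 1
    rw [← sq, ← hto, pow_orderOf_eq_one])
  have hto' : orderOf t' = 2 := by rw [← Subgroup.orderOf_coe]; exact hto
  obtain ⟨z, hz, hz1, hz2, hzneg⟩ := involution_value (irr_isCharacter a)
    (CharCorr.irr_one_eq_charDegree a) ht'2
  have hFt : F t' = 0 := T.indFun_off _ fun c hc => S.not_conj_of_involution hodd hto (c : G) hc
  have hbt : (b : M → ℂ) t' = 1 + (z : ℂ) := by
    have h := congrFun hFeq t'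
    rw [hFt, Pi.sub_apply, Pi.add_apply, hz] at h
    simp only [principalIrr] at h
    linear_combination h
  have hA1 : z = -(A : ℤ) → A = 1 := by
    intro hzA
    have hconst : ∀ y : E', (a : M → ℂ) (y : M) = (A : ℂ) := by
      intro y
      obtain ⟨k, hk⟩ := hodd
      have hy1 : y ^ (2 * k + 1) = 1 := by rw [← hk, ← hcE, pow_card_eq_one']
      have hy2 : (y : M) = ((y : M) ^ (k + 1)) ^ 2 := by
        rw [← pow_mul, show (k + 1) * 2 = 2 * k + 1 + 1 by ring, pow_succ, ← Subgroup.coe_pow, hy1,
          Subgroup.coe_one, one_mul]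
      rw [hy2, hzneg hzA _ (Subtype.ext (S.invert ⟨k, hk⟩
        (show (((y : M) ^ (k + 1) : M) : G) ∈ S.E from pow_mem y.2 (k + 1)))),
        CharCorr.irr_one_eq_charDegree]
    have h : classInner F (a : M → ℂ) = 1 := by
      rw [hFeq, classInner_sub_left, classInner_add_left, classInner_irr, classInner_irr,
        classInner_irr, if_neg hnp.1.symm, if_pos rfl, if_neg hab.symm]
      ring
    rw [hF, classInner_tiChar l' (irr_isClassFunction _), classInner] at h
    simp only [hconst, map_natCast, ← Finset.sum_mul, hsum, inv_mul_cancel_left₀ he0] at h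
    exact_mod_cast h
  -- pairs and the class equation
  have hpairs : ∀ y : E', lamDiff l' y * ((pairs t' t' {(y : M)}).card : ℂ) =
      (Nat.card E' : ℂ) * lamDiff l' y := fun y => by
    by_cases hy : (y : M) = 1
    · rw [show y = 1 from Subtype.ext hy, lamDiff_one, zero_mul, mul_zero]
    · rw [T.card_pairs_eq hto' (fun u hu u' _ ho _ => absurd hu fun hu => by
          refine S.not_conj_of_involution hodd (g := (u : G)) ?_ 1 ?_
          · rw [Subgroup.orderOf_coe]; exact ho
          · simpa [hE', Subgroup.mem_subgroupOf] using hu)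
        (fun i hi => by
          obtain ⟨g, hg, e⟩ := S.exists_conj_coset hodd (i := (i : G)) hi
          exact isConj_iff.2 ⟨⟨g, hEM hg⟩, Subtype.ext e⟩) y.2 hy, mul_comm]
  have h := pairs_tiChar l' t'
  have hsumRHS : ∑ χ : IrrCharacter M, (χ : M → ℂ) t' ^ 2 / (χ : M → ℂ) 1 *
      classInner (tiChar l') (χ : M → ℂ) =
      1 + (z : ℂ) ^ 2 / (A : ℂ) - (1 + (z : ℂ)) ^ 2 / ((A : ℂ) + 1) := by
    simp only [← hF, hFeq, classInner_sub_left, classInner_add_left, classInner_irr, mul_sub, mul_add,
      mul_ite, mul_one, mul_zero, Finset.sum_sub_distrib, Finset.sum_add_distrib, Finset.sum_ite_eq,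
      Finset.mem_univ, if_true, hz, hbt, CharCorr.irr_one_eq_charDegree, ← hA, ← hB, hBA]
    simp [principalIrr, charDegree]
  rw [Finset.sum_congr rfl fun y _ => hpairs y, ← Finset.mul_sum, hsum, hsumRHS] at h
  have hA0c : (A : ℂ) ≠ 0 := Nat.cast_ne_zero.2 hA0.ne'
  have hA1c : (A : ℂ) + 1 ≠ 0 := Nat.cast_add_one_ne_zero A
  have hcl := congrArg (Nat.cast (R := ℂ)) (card_cls_mul_centralizer t')
  push_cast at h hcl
  field_simp at h
  set cM := Nat.card (Subgroup.centralizer ({t'} : Set M)) with hcM
  set T' : ℕ := ((A : ℤ) - z).toNat with hT'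
  have hTc : (T' : ℂ) = (A : ℂ) - (z : ℂ) := by
    rw [show (T' : ℂ) = (((T' : ℤ)) : ℂ) by simp, hT', Int.toNat_of_nonneg (by omega)]
    push_cast
    rfl
  have heqM : Nat.card S.E * A * (A + 1) * cM ^ 2 = Nat.card M * T' ^ 2 := by
    have h' : ((Nat.card S.E * A * (A + 1) * cM ^ 2 : ℕ) : ℂ) = ((Nat.card M * T' ^ 2 : ℕ) : ℂ) := by
      push_cast
      rw [hTc]
      rw [hcE] at h
      refine mul_left_cancel₀ (Nat.cast_ne_zero.2 (Nat.card_pos (α := M)).ne') ?_
      set cl : ℂ := ((cls t').card : ℂ)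
      rw [← hcl] at h ⊢
      linear_combination (cM : ℂ) ^ 2 * h
    exact_mod_cast h'
  -- the orbit of the fixed point under the centralizer
  set C := Subgroup.centralizer ({S.t} : Set G) with hC
  set f := Nat.card (orbit C S.a) with hf
  have hfC : f * cM = Nat.card C := by
    have hs : Nat.card (stabilizer C S.a) = cM := by
      refine Nat.card_congr
        { toFun := fun g => ⟨⟨((g : C) : G), g.2⟩, Subgroup.mem_centralizer_singleton_iff.2
            (Subtype.ext (Subgroup.mem_centralizer_singleton_iff.1 (g : C).2))⟩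
          invFun := fun g => ⟨⟨((g : M) : G), Subgroup.mem_centralizer_singleton_iff.2
            (congrArg Subtype.val (Subgroup.mem_centralizer_singleton_iff.1 g.2))⟩, (g : M).2⟩
          left_inv := fun g => rfl
          right_inv := fun g => rfl }
    rw [← (stabilizer C S.a).card_mul_index, index_stabilizer, hs, hf, Nat.card_coe_set_eq, mul_comm]
  have hf3 : f ≤ 3 := by
    refine le_trans ?_ hfix
    refine Nat.card_mono (Set.toFinite _) ?_
    rintro _ ⟨g, rfl⟩
    show S.t • (g : G) • S.a = (g : G) • S.a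
    rw [← mul_smul, (Subgroup.mem_centralizer_singleton_iff.1 g.2).symm, mul_smul,
      mem_stabilizer_iff.1 htM]
  have hMe : Nat.card M = Nat.card S.E * ((p + 1) * w ^ 2) :=
    Nat.eq_of_mul_eq_mul_left hp.out.pos (by rw [hMc, hwG]; ring)
  have hw0 : 0 < w := Nat.pos_of_ne_zero fun e => by
    rw [e, mul_zero] at hwc
    exact absurd hwc Nat.card_pos.ne'
  refine ⟨A, f, T', hA0, hAbound, hf3, by omega, fun hA2 => ?_, ?_⟩
  · have : z ≠ -(A : ℤ) := fun e => by have := hA1 e; omega
    omega
  · rw [hMe] at heqM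
    rw [hwc] at hfC
    refine Nat.eq_of_mul_eq_mul_left (show 0 < Nat.card S.E * ((p + 1) * w ^ 2) by
      have : 0 < Nat.card S.E := Nat.card_pos
      positivity) ?_
    calc Nat.card S.E * ((p + 1) * w ^ 2) * ((p + 1) * A * (A + 1))
        = Nat.card S.E * A * (A + 1) * ((p + 1) * w) ^ 2 := by ring
      _ = f ^ 2 * (Nat.card S.E * A * (A + 1) * cM ^ 2) := by rw [← hfC]; ring
      _ = Nat.card S.E * ((p + 1) * w ^ 2) * (f ^ 2 * T' ^ 2) := by rw [heqM]; ring

end CfsgLib.PermPrime.DegP
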