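import Cfsg.Agent.Lib.CyclicDefect.Green
import Cfsg.Agent.Lib.CyclicDefect.Lattice
import Mathlib.LinearAlgebra.Matrix.ToLin
import Mathlib.Data.Matrix.Block
import Mathlib.LinearAlgebra.Matrix.DotProduct

/-!
# Fixed vectors paired to a unit, and their weights for a complement in the Sylow normalizer

A lattice for a group with a Sylow subgroup `P = ⟨x⟩` of order `p` and `N(P) = P E` carries a weight
of `E` as soon as the trace sum over `P` exceeds its rank. Lattices without homomorphisms between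
them cannot share a weight.
-/

set_option autoImplicit false
set_option linter.style.haveILetI false
set_option linter.unusedSectionVars false

noncomputable section

namespace CfsgLib.PermPrime.DegP

open CfsgLib.CyclicDefect Module

universe u

variable {p : ℕ} [hp : Fact p.Prime] {G : Type u} [Group G] [Finite G]
  {O : Type*} [CommRing O]

/-- A fixed eigenvector of weight `ν` paired to a unit by an invariant functional. -/
def HasWeight {ι : Type*} [Fintype ι] [DecidableEq ι] (p : ℕ) (ρ : G →* Matrix ι ι O) (x : G)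
    (E : Subgroup G) (ν : E →* O) : Prop :=
  ∃ v φ : ι → O, (ρ x).mulVec v = v ∧ Matrix.vecMul φ (ρ x) = φ ∧ ¬ (p : O) ∣ φ ⬝ᵥ v ∧
    ∀ h : E, (ρ (h : G)).mulVec v = ν h • v

/-- The contragredient representation. -/
def dualRep {ι : Type*} [Fintype ι] [DecidableEq ι] (ρ : G →* Matrix ι ι O) :
    G →* Matrix ι ι O where
  toFun g := (ρ g⁻¹).transpose
  map_one' := by rw [inv_one, map_one, Matrix.transpose_one]
  map_mul' a b := by rw [mul_inv_rev, map_mul, Matrix.transpose_mul]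

section

variable {ι ι' : Type*} [Fintype ι] [DecidableEq ι] [Fintype ι'] [DecidableEq ι']

theorem pow_mulVec_fix (ρ : G →* Matrix ι ι O) {g : G} {v : ι → O} (hv : (ρ g).mulVec v = v)
    (i : ℕ) : (ρ (g ^ i)).mulVec v = v := by
  induction i with
  | zero => rw [pow_zero, map_one, Matrix.one_mulVec]
  | succ i ih => rw [pow_succ, map_mul, ← Matrix.mulVec_mulVec, hv, ih]

theorem inv_mulVec_fix (ρ : G →* Matrix ι ι O) {g : G} {v : ι → O} (hv : (ρ g).mulVec v = v) :
    (ρ g⁻¹).mulVec v = v := by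
  conv_lhs => rw [← hv]
  rw [Matrix.mulVec_mulVec, ← map_mul, inv_mul_cancel, map_one, Matrix.one_mulVec]

theorem pow_vecMul_fix (ρ : G →* Matrix ι ι O) {g : G} {φ : ι → O}
    (hv : Matrix.vecMul φ (ρ g) = φ) (i : ℕ) : Matrix.vecMul φ (ρ (g ^ i)) = φ := by
  induction i with
  | zero => rw [pow_zero, map_one, Matrix.vecMul_one]
  | succ i ih => rw [pow_succ, map_mul, ← Matrix.vecMul_vecMul, ih, hv]

theorem inv_vecMul_fix (ρ : G →* Matrix ι ι O) {g : G} {φ : ι → O}
    (hv : Matrix.vecMul φ (ρ g) = φ) : Matrix.vecMul φ (ρ g⁻¹) = φ := by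
  conv_lhs => rw [← hv]
  rw [Matrix.vecMul_vecMul, ← map_mul, mul_inv_cancel, map_one, Matrix.vecMul_one]

/-- The direct sum of two matrix representations. -/
def sumRep (ρ : G →* Matrix ι ι O) (ρ' : G →* Matrix ι' ι' O) :
    G →* Matrix (ι ⊕ ι') (ι ⊕ ι') O where
  toFun g := Matrix.fromBlocks (ρ g) 0 0 (ρ' g)
  map_one' := by rw [map_one, map_one, Matrix.fromBlocks_one]
  map_mul' a b := by
    rw [map_mul, map_mul, Matrix.fromBlocks_multiply]
    simp

theorem conjBy_sumRep_toBlocks (ρ : G →* Matrix ι ι O) (ρ' : G →* Matrix ι' ι' O) (g : G)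
    (X : Matrix (ι ⊕ ι') (ι ⊕ ι') O) :
    (conjBy (sumRep ρ ρ') g X).toBlocks₂₁ = ρ' g * X.toBlocks₂₁ * ρ g⁻¹ := by
  conv_lhs => rw [← Matrix.fromBlocks_toBlocks X]
  simp [conjBy, sumRep, Matrix.fromBlocks_multiply]

theorem toBlocks₂₁_sum {β : Type*} (s : Finset β) (F : β → Matrix (ι ⊕ ι') (ι ⊕ ι') O) :
    (∑ b ∈ s, F b).toBlocks₂₁ = ∑ b ∈ s, (F b).toBlocks₂₁ := by
  ext i j
  simp [Matrix.toBlocks₂₁, Matrix.sum_apply]

variable (P : Sylow p G) {x : G} (hx : orderOf x = p) (hxP : x ∈ (P : Subgroup G))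
  (hP : Nat.card P = p) (E : Subgroup G)
  (hN : Subgroup.normalizer ((P : Subgroup G) : Set G) = (P : Subgroup G) ⊔ E)

include hx hxP hP hN in
/-- **Lattices without homomorphisms do not share a weight.** -/
theorem weight_not_shared (hprime : Prime (p : O)) (he : ¬ (p : O) ∣ (Nat.card E : O))
    (ρ : G →* Matrix ι ι O) (ρ' : G →* Matrix ι' ι' O)
    (hzero : ∀ T : Matrix ι' ι O, (∀ g, ρ' g * T = T * ρ g) → T = 0)
    {ν : E →* O} (hv : HasWeight p ρ x E ν) (hv' : HasWeight p ρ' x E ν) : False := by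
  classical
  obtain ⟨v, φ, hvx, hφx, hφv, hveig⟩ := hv
  obtain ⟨v', φ', hvx', hφx', hφv', hveig'⟩ := hv'
  haveI := Fintype.ofFinite E
  set R := sumRep ρ ρ' with hR
  set f₀ : Matrix (ι ⊕ ι') (ι ⊕ ι') O :=
    Matrix.fromBlocks 0 0 (Matrix.vecMulVec v' φ) 0 with hf₀
  set X : Matrix (ι ⊕ ι') (ι ⊕ ι') O := ∑ h : E, conjBy R (h : G) f₀ with hX
  have hPz : (P : Subgroup G) = Subgroup.zpowers x := (zpowers_eq P hx hxP hP).symm
  -- the core is fixed by the Sylow subgroup
  have hf₀x : ∀ i : ℕ, conjBy R (x ^ i) f₀ = f₀ := by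
    intro i
    rw [hf₀, conjBy]
    simp only [hR, sumRep, MonoidHom.coe_mk, OneHom.coe_mk, Matrix.fromBlocks_multiply,
      Matrix.mul_zero, Matrix.zero_mul, add_zero, zero_add]
    rw [Matrix.mul_vecMulVec, Matrix.vecMulVec_mul, pow_mulVec_fix ρ' hvx' i,
      inv_vecMul_fix ρ (pow_vecMul_fix ρ hφx i)]
  have hf₀P : ∀ z ∈ (P : Subgroup G), conjBy R z f₀ = f₀ := by
    intro z hz
    rw [hPz] at hz
    obtain ⟨i, rfl⟩ := mem_powers_iff_mem_zpowers.2 hz
    exact hf₀x i
  -- the average commutes with the normaliser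
  have hXN : ∀ n ∈ Subgroup.normalizer ((P : Subgroup G) : Set G), R n * X = X * R n := by
    intro n hn
    refine (conjBy_eq_iff R).1 ?_
    let K : Subgroup G :=
      { carrier := {g | conjBy R g X = X}
        one_mem' := conjBy_one R X
        mul_mem' := fun {a b} (ha : conjBy R a X = X) (hb : conjBy R b X = X) => by
          show conjBy R (a * b) X = X
          rw [conjBy_mul, hb, ha]
        inv_mem' := fun {a} (ha : conjBy R a X = X) => by
          show conjBy R a⁻¹ X = X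
          conv_lhs => rw [← ha]
          rw [← conjBy_mul, inv_mul_cancel, conjBy_one] }
    suffices h : (P : Subgroup G) ⊔ E ≤ K from h (hN ▸ hn)
    refine sup_le (fun z hz => ?_) fun h hh => ?_
    · show conjBy R z X = X
      rw [hX, conjBy_sum]
      refine Finset.sum_congr rfl fun g _ => ?_
      have hg : (g : G) ∈ Subgroup.normalizer ((P : Subgroup G) : Set G) :=
        hN ▸ Subgroup.mem_sup_right g.2
      rw [← conjBy_mul, show z * (g : G) = (g : G) * ((g : G)⁻¹ * z * g) by group, conjBy_mul,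
        hf₀P _ ?_]
      have := (Subgroup.mem_normalizer_iff.1 (inv_mem hg) z).1 hz
      rwa [inv_inv] at this
    · show conjBy R h X = X
      rw [hX, conjBy_sum]
      refine Fintype.sum_equiv (Equiv.mulLeft (⟨h, hh⟩ : E)) _ _ fun g => ?_
      exact (conjBy_mul R h (g : G) f₀).symm
  obtain ⟨Y, hY⟩ := transfer_decomp R P hx hxP hP hXN
  set T := X + ∑ i ∈ Finset.range p, conjBy R (x ^ i) Y with hT
  have hT0 : T.toBlocks₂₁ = 0 := by
    refine hzero _ fun g => ?_
    have h := congrArg Matrix.toBlocks₂₁ (hY g)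
    rw [← Matrix.fromBlocks_toBlocks T] at h
    simpa [hR, sumRep, Matrix.fromBlocks_multiply] using h
  have hX21 : φ' ⬝ᵥ X.toBlocks₂₁.mulVec v = (Nat.card E : O) * ((φ ⬝ᵥ v) * (φ' ⬝ᵥ v')) := by
    rw [hX, toBlocks₂₁_sum, Matrix.sum_mulVec, dotProduct_sum]
    have key : ∀ g : E, φ' ⬝ᵥ (conjBy R (g : G) f₀).toBlocks₂₁.mulVec v =
        (φ ⬝ᵥ v) * (φ' ⬝ᵥ v') := by
      intro g
      have h1 : (ρ ((g : G)⁻¹)).mulVec v = ν g⁻¹ • v := by
        rw [← Subgroup.coe_inv]
        exact hveig g⁻¹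
      rw [hR, conjBy_sumRep_toBlocks, hf₀, Matrix.toBlocks_fromBlocks₂₁, ← Matrix.mulVec_mulVec,
        ← Matrix.mulVec_mulVec, h1, Matrix.vecMulVec_mulVec, op_smul_eq_smul, Matrix.mulVec_smul,
        hveig', dotProduct_smul, dotProduct_smul, dotProduct_smul, smul_eq_mul, smul_eq_mul,
        smul_eq_mul]
      have h2 : ν g⁻¹ * ν g = 1 := by rw [← map_mul, inv_mul_cancel, map_one]
      linear_combination ((φ ⬝ᵥ v) * (φ' ⬝ᵥ v')) * h2
    rw [Finset.sum_congr rfl fun g _ => key g, Finset.sum_const, Finset.card_univ, nsmul_eq_mul,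
      Nat.card_eq_fintype_card]
  have hY21 : φ' ⬝ᵥ (∑ i ∈ Finset.range p, conjBy R (x ^ i) Y).toBlocks₂₁.mulVec v =
      (p : O) * (φ' ⬝ᵥ Y.toBlocks₂₁.mulVec v) := by
    rw [toBlocks₂₁_sum, Matrix.sum_mulVec, dotProduct_sum]
    have key : ∀ i ∈ Finset.range p, φ' ⬝ᵥ (conjBy R (x ^ i) Y).toBlocks₂₁.mulVec v =
        φ' ⬝ᵥ Y.toBlocks₂₁.mulVec v := by
      intro i _
      rw [hR, conjBy_sumRep_toBlocks, ← Matrix.mulVec_mulVec, ← Matrix.mulVec_mulVec,
        inv_mulVec_fix ρ (pow_mulVec_fix ρ hvx i), Matrix.dotProduct_mulVec,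
        pow_vecMul_fix ρ' hφx' i]
    rw [Finset.sum_congr rfl key, Finset.sum_const, Finset.card_range, nsmul_eq_mul]
  have hadd : T.toBlocks₂₁ = X.toBlocks₂₁ + (∑ i ∈ Finset.range p, conjBy R (x ^ i) Y).toBlocks₂₁ :=
    rfl
  have h := congrArg (fun M => φ' ⬝ᵥ M.mulVec v) hadd
  simp only [hT0, Matrix.zero_mulVec, dotProduct_zero, Matrix.add_mulVec, dotProduct_add, hX21,
    hY21] at h
  have hd : (p : O) ∣ (Nat.card E : O) * ((φ ⬝ᵥ v) * (φ' ⬝ᵥ v')) :=
    ⟨-(φ' ⬝ᵥ Y.toBlocks₂₁.mulVec v), by linear_combination -h⟩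
  rcases hprime.dvd_or_dvd hd with h1 | h1
  · exact he h1
  · exact (hprime.dvd_or_dvd h1).elim hφv hφv'

end

section

variable {ι : Type*} [Fintype ι] [DecidableEq ι] (ρ : G →* Matrix ι ι O) {x : G} {E : Subgroup G}

/-- The weights of the contragredient are the inverse weights. -/
theorem HasWeight.dual (hprime : Prime (p : O)) (he : ¬ (p : O) ∣ (Nat.card E : O))
    (hEx : ∀ h : E, ∃ j : ℕ, (h : G)⁻¹ * x * h = x ^ j) {ν μ : E →* O}
    (hμ : ∀ h, μ h = ν h⁻¹) (hv : HasWeight p ρ x E ν) : HasWeight p (dualRep ρ) x E μ := by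
  classical
  obtain ⟨v, φ, hvx, hφx, hφv, hveig⟩ := hv
  haveI := Fintype.ofFinite E
  refine ⟨∑ h : E, ν h • Matrix.vecMul φ (ρ ((h : G)⁻¹)), v, ?_, ?_, ?_, ?_⟩
  · show (ρ x⁻¹).transpose.mulVec _ = _
    rw [Matrix.mulVec_transpose, Matrix.sum_vecMul]
    refine Finset.sum_congr rfl fun h _ => ?_
    obtain ⟨j, hj⟩ := hEx h
    rw [Matrix.smul_vecMul, Matrix.vecMul_vecMul, ← map_mul,
      show (h : G)⁻¹ * x⁻¹ = (x ^ j)⁻¹ * (h : G)⁻¹ by rw [← hj]; group, map_mul,
      ← Matrix.vecMul_vecMul, inv_vecMul_fix ρ (pow_vecMul_fix ρ hφx j)]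
  · show Matrix.vecMul v (ρ x⁻¹).transpose = v
    rw [Matrix.vecMul_transpose, inv_mulVec_fix ρ hvx]
  · rw [dotProduct_sum]
    have key : ∀ h : E, v ⬝ᵥ (ν h • Matrix.vecMul φ (ρ ((h : G)⁻¹))) = φ ⬝ᵥ v := fun h => by
      have h1 : (ρ ((h : G)⁻¹)).mulVec v = ν h⁻¹ • v := by
        rw [← Subgroup.coe_inv]
        exact hveig h⁻¹
      rw [dotProduct_smul, dotProduct_comm, ← Matrix.dotProduct_mulVec, h1, dotProduct_smul,
        smul_eq_mul, smul_eq_mul, ← mul_assoc, ← map_mul, mul_inv_cancel, map_one, one_mul]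
    rw [Finset.sum_congr rfl fun h _ => key h, Finset.sum_const, Finset.card_univ, nsmul_eq_mul,
      ← Nat.card_eq_fintype_card]
    exact fun hd => (hprime.dvd_or_dvd hd).elim he hφv
  · intro g
    show (ρ ((g : G)⁻¹)).transpose.mulVec _ = _
    rw [Matrix.mulVec_transpose, Matrix.sum_vecMul, Finset.smul_sum]
    refine Fintype.sum_equiv (Equiv.mulLeft g) _ _ fun h => ?_
    rw [Matrix.smul_vecMul, Matrix.vecMul_vecMul, ← map_mul, Equiv.coe_mulLeft, smul_smul, hμ]
    congr 1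
    · rw [← map_mul, inv_mul_cancel_left]
    · rw [Subgroup.coe_mul, mul_inv_rev]

end

section

variable [IsDomain O] [IsPrincipalIdealRing O] [CharZero O] {k : Type*} [Field k] [CharP k p]
  {π : O →+* k} [RingHomSurjective π] {ι : Type*} [Fintype ι] [DecidableEq ι]

/-- **A fixed vector paired to a unit exists** when the trace sum exceeds the rank. -/
theorem exists_pair (hker : ∀ c : O, π c = 0 → (p : O) ∣ c) (A : Matrix ι ι O) (hA : A ^ p = 1)
    {m : ℕ} (htr : (normMat p A).trace = (p : O) * (m : O)) (hm : Fintype.card ι < p * m) :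
    ∃ v φ : ι → O, A.mulVec v = v ∧ Matrix.vecMul φ A = φ ∧ ¬ (p : O) ∣ φ ⬝ᵥ v := by
  classical
  have hp0 : (p : O) ≠ 0 := Nat.cast_ne_zero.2 hp.out.ne_zero
  have hpk : (p : k) = 0 := CharP.cast_eq_zero k p
  have hAN : A * normMat p A = normMat p A := by
    have := sub_mul_normMat hA
    rwa [sub_mul, one_mul, sub_eq_zero] at this
  set F := fixSub (1 : Matrix ι ι O) A with hF
  have hFrank : finrank O F = m := by
    have h := trace_eq_mul_finrank (Matrix.toLin' (normMat p A)) F (fun v => mem_fixSub.2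
      ⟨by rw [Matrix.toLin'_apply, Matrix.mulVec_mulVec, sub_mul_normMat hA, Matrix.zero_mulVec],
        Matrix.one_mulVec _⟩) (p : O) fun v hv => by
        rw [Matrix.toLin'_apply, normMat_mul_of_fixed (mem_fixSub.1 hv).1]
    rw [Matrix.trace_toLin'_eq, htr] at h
    exact_mod_cast (mul_left_cancel₀ hp0 h).symm
  have hred : finrank k (F.map (redVec π ι)) = m := by
    rw [finrank_map_redVec hker hpk hp0 F fun v h => fixSub_pure hp0 h, hFrank]
  obtain ⟨b1, -⟩ := reduced_rank_bounds (π := π) (E := (1 : Matrix ι ι O)) hA (mul_one _)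
    (by rw [one_mul, mul_one])
  rw [one_mul, Matrix.map_one _ (map_zero π) (map_one π), Matrix.mulVecLin_one,
    LinearMap.range_id, finrank_top, Module.finrank_fintype_fun_eq_card] at b1
  set W := LinearMap.range (Matrix.mulVecLin ((normMat p A).map π)) with hW
  obtain ⟨w, ⟨v, hv, rfl⟩, hvW⟩ : ∃ w ∈ F.map (redVec π ι), w ∉ W := by
    by_contra! h
    have h1 := Submodule.finrank_mono (show F.map (redVec π ι) ≤ W from h)
    rw [hred] at h1
    have h2 := Nat.mul_le_mul_left p h1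
    omega
  have hvA : A.mulVec v = v := by
    have := (mem_fixSub.1 hv).1
    rwa [Matrix.sub_mulVec, Matrix.one_mulVec, sub_eq_zero] at this
  set K : Submodule O (ι → O) := LinearMap.ker (Matrix.mulVecLin (normMat p A)) with hK
  have hvK : ∀ z, v - (p : O) • z ∉ K := by
    intro z hz
    rw [hK, LinearMap.mem_ker, Matrix.mulVecLin_apply, Matrix.mulVec_sub, Matrix.mulVec_smul,
      normMat_mul_of_fixed (mem_fixSub.1 hv).1, sub_eq_zero] at hz
    have hvz : v = (normMat p A).mulVec z := smul_right_injective (ι → O) hp0 hz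
    refine hvW ⟨redVec π ι z, ?_⟩
    rw [Matrix.mulVecLin_apply, hvz, redVec_mulVec]
  haveI : IsTorsionFree O ((ι → O) ⧸ K) := by
    rw [Module.isTorsionFree_iff_smul_eq_zero]
    intro r q hq
    induction q using Submodule.Quotient.induction_on with
    | _ z =>
      rw [← Submodule.Quotient.mk_smul, Submodule.Quotient.mk_eq_zero, hK, LinearMap.mem_ker,
        Matrix.mulVecLin_apply, Matrix.mulVec_smul, smul_eq_zero] at hq
      rw [Submodule.Quotient.mk_eq_zero]
      exact hq.imp id fun h => h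
  let b := Module.Free.chooseBasis O ((ι → O) ⧸ K)
  obtain ⟨i, hi⟩ : ∃ i, ¬ (p : O) ∣ b.repr (Submodule.Quotient.mk v) i := by
    by_contra! h
    choose c hc using h
    obtain ⟨z, hz⟩ := Submodule.Quotient.mk_surjective K (∑ i, c i • b i)
    refine hvK z ?_
    rw [← Submodule.Quotient.eq, Submodule.Quotient.mk_smul, hz, Finset.smul_sum]
    conv_lhs => rw [← b.sum_repr (Submodule.Quotient.mk v)]
    exact Finset.sum_congr rfl fun i _ => by rw [hc i, mul_smul]
  let f : (ι → O) →ₗ[O] O := (b.coord i).comp K.mkQ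
  refine ⟨v, fun j => f (Pi.single j 1), hvA, ?_, ?_⟩
  · have hdot : ∀ u : ι → O, (fun j => f (Pi.single j 1)) ⬝ᵥ u = f u := fun u => by
      conv_rhs => rw [pi_eq_sum_univ' u, map_sum]
      exact Finset.sum_congr rfl fun j _ => by rw [map_smul, smul_eq_mul, mul_comm]
    refine dotProduct_eq _ _ fun u => ?_
    rw [← Matrix.dotProduct_mulVec, hdot, hdot]
    show b.coord i (K.mkQ (A.mulVec u)) = b.coord i (K.mkQ u)
    congr 1
    rw [Submodule.mkQ_apply, Submodule.mkQ_apply, Submodule.Quotient.eq, hK, LinearMap.mem_ker,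
      Matrix.mulVecLin_apply, Matrix.mulVec_sub, Matrix.mulVec_mulVec, sub_eq_zero]
    have := normMat_mul_sub hA
    rw [mul_sub, mul_one, sub_eq_zero] at this
    rw [this]
  · have hdot : (fun j => f (Pi.single j 1)) ⬝ᵥ v = f v := by
      conv_rhs => rw [pi_eq_sum_univ' v, map_sum]
      exact Finset.sum_congr rfl fun j _ => by rw [map_smul, smul_eq_mul, mul_comm]
    rw [hdot]
    exact hi

end

section

variable [IsDomain O] [IsPrincipalIdealRing O] [CharZero O] {k : Type*} [Field k] [CharP k p]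
  {π : O →+* k} [RingHomSurjective π] {ι : Type*} [Fintype ι] [DecidableEq ι]

/-- **A weight exists** when the trace sum exceeds the rank. -/
theorem exists_weight (hker : ∀ c : O, π c = 0 → (p : O) ∣ c) (ρ : G →* Matrix ι ι O) {x : G}
    (hx : x ^ p = 1) {E : Subgroup G} (hEx : ∀ h : E, ∃ j : ℕ, (h : G)⁻¹ * x * h = x ^ j)
    (hprime : Prime (p : O)) (he : ¬ (p : O) ∣ (Nat.card E : O))
    {β : Type*} [Fintype β] (ν : β → (E →* O))
    [DecidableEq G] (horth : ∀ h : E, ∑ j, ν j h = if (h : G) = 1 then (Nat.card E : O) else 0)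
    {m : ℕ} (htr : ∑ i ∈ Finset.range p, (ρ (x ^ i)).trace = (p : O) * (m : O))
    (hm : Fintype.card ι < p * m) : ∃ j, HasWeight p ρ x E (ν j) := by
  classical
  haveI := Fintype.ofFinite E
  obtain ⟨v, φ, hv, hφ, hφv⟩ := exists_pair hker (ρ x) (by rw [← map_pow, hx, map_one])
    (m := m) (by simp only [normMat, Matrix.trace_sum, ← map_pow, htr]) hm
  set w : β → ι → O := fun j => ∑ h : E, ν j h⁻¹ • (ρ (h : G)).mulVec v with hw
  have hsum : ∑ j, w j = (Nat.card E : O) • v := by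
    simp only [hw]
    rw [Finset.sum_comm]
    simp only [← Finset.sum_smul, horth, Subgroup.coe_inv, inv_eq_one, ite_smul, zero_smul,
      OneMemClass.coe_eq_one, Finset.sum_ite_eq', Finset.mem_univ, if_true, OneMemClass.coe_one,
      map_one, Matrix.one_mulVec]
  obtain ⟨j, hj⟩ : ∃ j, ¬ (p : O) ∣ φ ⬝ᵥ w j := by
    by_contra! h
    have h1 : (p : O) ∣ φ ⬝ᵥ ∑ j, w j := by
      rw [dotProduct_sum]
      exact Finset.dvd_sum fun j _ => h j
    rw [hsum, dotProduct_smul, smul_eq_mul] at h1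
    exact (hprime.dvd_or_dvd h1).elim he hφv
  refine ⟨j, w j, φ, ?_, hφ, hj, ?_⟩
  · simp only [hw, Matrix.mulVec_sum, Matrix.mulVec_smul]
    refine Finset.sum_congr rfl fun h _ => ?_
    obtain ⟨i, hi⟩ := hEx h
    rw [Matrix.mulVec_mulVec, ← map_mul, show x * (h : G) = (h : G) * x ^ i by rw [← hi]; group,
      map_mul, ← Matrix.mulVec_mulVec, pow_mulVec_fix ρ hv i]
  · intro g
    simp only [hw, Matrix.mulVec_sum, Matrix.mulVec_smul, Finset.smul_sum]
    refine Fintype.sum_equiv (Equiv.mulLeft g) _ _ fun h => ?_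
    rw [Equiv.coe_mulLeft, Matrix.mulVec_mulVec, ← map_mul, smul_smul, Subgroup.coe_mul]
    congr 1
    rw [mul_inv_rev, mul_comm (ν j g), ← map_mul, inv_mul_cancel_right]

/-- A weight occurs in the trace sum over the normalizer. -/
theorem HasWeight.trace_ne_zero (ρ : G →* Matrix ι ι O) {x : G}
    (hx : x ^ p = 1) {E : Subgroup G} [Fintype E] (hEx : ∀ h : E, ∃ j : ℕ, (h : G)⁻¹ * x * h = x ^ j)
    {ν : E →* O} (hv : HasWeight p ρ x E ν) :
    ∑ h : E, ν h⁻¹ * ∑ i ∈ Finset.range p, (ρ ((h : G) * x ^ i)).trace ≠ 0 := by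
  classical
  obtain ⟨v, φ, hvx, -, hφv, hveig⟩ := hv
  set Pr : Matrix ι ι O := ∑ h : E, ν h⁻¹ • (ρ (h : G) * normMat p (ρ x)) with hPr
  have htrace : Pr.trace = ∑ h : E, ν h⁻¹ * ∑ i ∈ Finset.range p, (ρ ((h : G) * x ^ i)).trace := by
    simp only [hPr, normMat, Matrix.trace_sum, Matrix.trace_smul, Finset.mul_sum, ← map_pow,
      ← map_mul, smul_eq_mul]
  rw [← htrace]
  set c : O := (p : O) * (Nat.card E : O) with hc
  set S : Submodule O (ι → O) := LinearMap.ker (Matrix.toLin' Pr - c • LinearMap.id) with hS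
  have hmem : ∀ w, w ∈ S ↔ Pr.mulVec w = c • w := fun w => by
    rw [hS, LinearMap.mem_ker, LinearMap.sub_apply, sub_eq_zero, Matrix.toLin'_apply]
    rfl
  have hA : (ρ x) ^ p = 1 := by rw [← map_pow, hx, map_one]
  have hfix : ∀ u : ι → O, (ρ x).mulVec u = u → (normMat p (ρ x)).mulVec u = (p : O) • u :=
    fun u hu => normMat_mul_of_fixed (by rw [Matrix.sub_mulVec, Matrix.one_mulVec, hu, sub_self])
  have hconj : ∀ (h : E) (u : ι → O), (ρ x).mulVec u = u →
      (ρ x).mulVec ((ρ (h : G)).mulVec u) = (ρ (h : G)).mulVec u := fun h u hu => by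
    obtain ⟨i, hi⟩ := hEx h
    rw [Matrix.mulVec_mulVec, ← map_mul, show x * (h : G) = (h : G) * x ^ i by rw [← hi]; group,
      map_mul, ← Matrix.mulVec_mulVec, pow_mulVec_fix ρ hu i]
  have himage : ∀ z, Pr.mulVec z ∈ S := by
    intro z
    rw [hmem]
    set u := (normMat p (ρ x)).mulVec z with hu
    have huA : (ρ x).mulVec u = u := by
      have h1 := sub_mul_normMat hA
      rw [sub_mul, one_mul, sub_eq_zero] at h1
      rw [hu, Matrix.mulVec_mulVec, h1]
    have hz : Pr.mulVec z = ∑ h : E, ν h⁻¹ • (ρ (h : G)).mulVec u := by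
      simp only [hPr, Matrix.sum_mulVec, Matrix.smul_mulVec, hu, Matrix.mulVec_mulVec]
    have hgen : ∀ g : E, (ρ (g : G)).mulVec (Pr.mulVec z) = ν g • Pr.mulVec z := by
      intro g
      rw [hz, Matrix.mulVec_sum, Finset.smul_sum]
      refine Fintype.sum_equiv (Equiv.mulLeft g) _ _ fun h => ?_
      rw [Equiv.coe_mulLeft, Matrix.mulVec_smul, Matrix.mulVec_mulVec, ← map_mul, smul_smul,
        Subgroup.coe_mul, mul_inv_rev, mul_comm (ν g), ← map_mul, inv_mul_cancel_right]
    have hN : (normMat p (ρ x)).mulVec (Pr.mulVec z) = (p : O) • Pr.mulVec z := by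
      refine hfix _ ?_
      rw [hz, Matrix.mulVec_sum]
      exact Finset.sum_congr rfl fun h _ => by rw [Matrix.mulVec_smul, hconj h u huA]
    generalize Pr.mulVec z = q at hgen hN ⊢
    conv_lhs => rw [hPr]
    simp only [Matrix.sum_mulVec, Matrix.smul_mulVec, ← Matrix.mulVec_mulVec, hN, Matrix.mulVec_smul,
      hgen, smul_smul]
    rw [← Finset.sum_smul, hc]
    congr 1
    have : ∀ h : E, ν h⁻¹ * ((p : O) * ν h) = (p : O) := fun h => by
      rw [mul_left_comm, ← map_mul, inv_mul_cancel, map_one, mul_one]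
    rw [Finset.sum_congr rfl fun h _ => this h, Finset.sum_const, Finset.card_univ, nsmul_eq_mul,
      Nat.card_eq_fintype_card, mul_comm]
  have htr := trace_eq_mul_finrank (Matrix.toLin' Pr) S (fun z => by
    rw [Matrix.toLin'_apply]; exact himage z) c fun z hz => by
    rw [Matrix.toLin'_apply]; exact (hmem z).1 hz
  rw [Matrix.trace_toLin'_eq] at htr
  rw [htr]
  have hvS : v ∈ S := by
    rw [hmem, hPr, Matrix.sum_mulVec]
    simp only [Matrix.smul_mulVec, ← Matrix.mulVec_mulVec, hfix v hvx, Matrix.mulVec_smul, hveig,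
      smul_smul]
    rw [← Finset.sum_smul, hc]
    congr 1
    have : ∀ h : E, ν h⁻¹ * ((p : O) * ν h) = (p : O) := fun h => by
      rw [mul_left_comm, ← map_mul, inv_mul_cancel, map_one, mul_one]
    rw [Finset.sum_congr rfl fun h _ => this h, Finset.sum_const, Finset.card_univ, nsmul_eq_mul,
      Nat.card_eq_fintype_card, mul_comm]
  refine mul_ne_zero (mul_ne_zero (Nat.cast_ne_zero.2 hp.out.ne_zero)
    (Nat.cast_ne_zero.2 Nat.card_pos.ne')) (Nat.cast_ne_zero.2 fun h0 => ?_)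
  rw [Submodule.finrank_eq_zero] at h0
  rw [h0, Submodule.mem_bot] at hvS
  exact hφv (by rw [hvS, dotProduct_zero]; exact dvd_zero _)

end

end CfsgLib.PermPrime.DegP
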