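import Cfsg.Agent.Lib.PermPrime.SelfCentralizing

/-!
# Sums of class functions over the singular elements
-/

set_option autoImplicit false
set_option linter.style.haveILetI false
set_option linter.unusedSectionVars false

noncomputable section

namespace CfsgLib.PermPrime.DegP

open Cfsg CfsgLib.Characters

universe u

variable {p : ℕ} [hp : Fact p.Prime] {G : Type u} [Group G] [Fintype G]

theorem powers_injOn {x : G} (hx : orderOf x = p) {i j : ℕ} (hi : i < p) (hj : j < p)
    (h : x ^ i = x ^ j) : i = j :=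
  pow_injOn_Iio_orderOf (show i ∈ Set.Iio (orderOf x) by rw [hx]; exact hi)
    (show j ∈ Set.Iio (orderOf x) by rw [hx]; exact hj) h

/-- The sum over the singular elements is the number of Sylow subgroups times the sum over the
non-trivial powers of a generator. -/
theorem sum_singular [DecidableEq G] {R : Type*} [AddCommMonoid R] (P : Sylow p G)
    (hP : Nat.card P = p)
    (hC : Subgroup.centralizer ((P : Subgroup G) : Set G) = (P : Subgroup G)) {x : G}
    (hx : orderOf x = p) (hxP : x ∈ (P : Subgroup G)) (F : G → R)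
    (hF : ∀ g c : G, F (c * g * c⁻¹) = F g) :
    ∑ g ∈ Finset.univ.filter (fun g : G => p ∣ orderOf g), F g =
      Nat.card (Sylow p G) • ∑ i ∈ Finset.Ico 1 p, F (x ^ i) := by
  classical
  letI : Fintype (Sylow p G) := Fintype.ofFinite _
  have hcard : ∀ Q : Sylow p G, Nat.card (Q : Subgroup G) = p := fun Q =>
    (Nat.card_congr (Q.equiv P).toEquiv).trans hP
  have hset : Finset.univ.filter (fun g : G => p ∣ orderOf g) =
      Finset.univ.biUnion fun Q : Sylow p G =>
        (Finset.univ.filter fun g : G => g ∈ (Q : Subgroup G)).erase 1 := by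
    ext g
    simp only [Finset.mem_filter, Finset.mem_univ, true_and, Finset.mem_biUnion, Finset.mem_erase]
    constructor
    · intro hg
      obtain ⟨c, hc, hc1⟩ := exists_conj_mem P hP hC hg
      refine ⟨c⁻¹ • P, fun h => hc1 (by rw [h, mul_one, mul_inv_cancel]), ?_⟩
      rw [Sylow.coe_subgroup_smul]
      refine ⟨c * g * c⁻¹, hc, ?_⟩
      show c⁻¹ * (c * g * c⁻¹) * c⁻¹⁻¹ = g
      group
    · rintro ⟨Q, hg1, hgQ⟩
      exact dvd_of_eq (dvd_orderOf_of_mem Q (hcard Q) hgQ hg1).symm
  rw [hset, Finset.sum_biUnion, Nat.card_eq_fintype_card, ← Finset.card_univ, ← Finset.sum_const]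
  · refine Finset.sum_congr rfl fun Q _ => ?_
    obtain ⟨c, rfl⟩ := MulAction.exists_smul_eq G P Q
    refine (Finset.sum_bij' (fun i _ => c * x ^ i * c⁻¹)
      (fun g _ => (Finset.Ico 1 p).filter (fun i => c * x ^ i * c⁻¹ = g) |>.sup id) ?_ ?_ ?_ ?_ ?_).symm
    · intro i hi
      rw [Finset.mem_Ico] at hi
      refine Finset.mem_erase.2 ⟨fun h => ?_, Finset.mem_filter.2 ⟨Finset.mem_univ _, ?_⟩⟩
      · rw [conj_eq_one_iff] at h
        have := powers_injOn hx hi.2 hp.out.pos (h.trans (pow_zero x).symm)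
        omega
      · rw [Sylow.coe_subgroup_smul]
        exact Subgroup.smul_mem_pointwise_smul _ (MulAut.conj c) _ (Subgroup.pow_mem _ hxP i)
    · intro g hg
      obtain ⟨hg1, hg⟩ := Finset.mem_erase.1 hg
      have hg' := (Finset.mem_filter.1 hg).2
      rw [Sylow.coe_subgroup_smul] at hg'
      obtain ⟨z, hz, hzg⟩ := hg'
      rw [SetLike.mem_coe, ← CfsgLib.CyclicDefect.zpowers_eq P hx hxP hP] at hz
      obtain ⟨i, rfl⟩ := mem_powers_iff_mem_zpowers.2 hz
      have hi : c * x ^ (i % p) * c⁻¹ = g := by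
        rw [← hx, pow_mod_orderOf]
        exact hzg
      have hi0 : 1 ≤ i % p := Nat.one_le_iff_ne_zero.2 fun h => hg1 (by
        rw [← hi, h, pow_zero, mul_one, mul_inv_cancel])
      have hne : ((Finset.Ico 1 p).filter fun j => c * x ^ j * c⁻¹ = g).Nonempty :=
        ⟨i % p, Finset.mem_filter.2 ⟨Finset.mem_Ico.2 ⟨hi0, Nat.mod_lt _ hp.out.pos⟩, hi⟩⟩
      obtain ⟨j, hj, hje⟩ := Finset.exists_mem_eq_sup _ hne id
      rw [hje]
      exact (Finset.mem_filter.1 hj).1
    · intro i hi
      have hi' := Finset.mem_Ico.1 hi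
      rw [show ((Finset.Ico 1 p).filter fun j => c * x ^ j * c⁻¹ = c * x ^ i * c⁻¹) = {i} from ?_]
      · simp
      · ext j
        simp only [Finset.mem_filter, Finset.mem_Ico, Finset.mem_singleton]
        refine ⟨fun h => powers_injOn hx h.1.2 hi'.2 (mul_left_cancel (mul_right_cancel h.2)), ?_⟩
        rintro rfl
        exact ⟨hi', rfl⟩
    · intro g hg
      obtain ⟨hg1, hg⟩ := Finset.mem_erase.1 hg
      have hg' := (Finset.mem_filter.1 hg).2
      rw [Sylow.coe_subgroup_smul] at hg'
      obtain ⟨z, hz, hzg⟩ := hg'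
      rw [SetLike.mem_coe, ← CfsgLib.CyclicDefect.zpowers_eq P hx hxP hP] at hz
      obtain ⟨i, rfl⟩ := mem_powers_iff_mem_zpowers.2 hz
      have hi : c * x ^ (i % p) * c⁻¹ = g := by
        rw [← hx, pow_mod_orderOf]
        exact hzg
      have hi0 : 1 ≤ i % p := Nat.one_le_iff_ne_zero.2 fun h => hg1 (by
        rw [← hi, h, pow_zero, mul_one, mul_inv_cancel])
      have hne : ((Finset.Ico 1 p).filter fun j => c * x ^ j * c⁻¹ = g).Nonempty :=
        ⟨i % p, Finset.mem_filter.2 ⟨Finset.mem_Ico.2 ⟨hi0, Nat.mod_lt _ hp.out.pos⟩, hi⟩⟩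
      obtain ⟨j, hj, hje⟩ := Finset.exists_mem_eq_sup _ hne id
      show c * x ^ _ * c⁻¹ = g
      rw [hje]
      exact (Finset.mem_filter.1 hj).2
    · intro i _
      exact (hF _ c).symm
  · intro Q _ Q' _ hne
    rw [Function.onFun, Finset.disjoint_left]
    intro g hg hg'
    simp only [Finset.mem_erase, Finset.mem_filter, Finset.mem_univ, true_and] at hg hg'
    refine hne (Sylow.ext ?_)
    have h1 : ∀ R : Sylow p G, g ∈ (R : Subgroup G) → Subgroup.zpowers g = (R : Subgroup G) :=
      fun R hR => CfsgLib.CyclicDefect.zpowers_eq R (dvd_orderOf_of_mem R (hcard R) hR hg.1) hR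
        (hcard R)
    exact (h1 Q hg.2).symm.trans (h1 Q' hg'.2)

/-- The same, for characters and over `range p`. -/
theorem sum_irr_singular [DecidableEq G] (P : Sylow p G) (hP : Nat.card P = p)
    (hC : Subgroup.centralizer ((P : Subgroup G) : Set G) = (P : Subgroup G)) {x : G}
    (hx : orderOf x = p) (hxP : x ∈ (P : Subgroup G)) (φ : IrrCharacter G) :
    ∑ g ∈ Finset.univ.filter (fun g : G => p ∣ orderOf g), (φ : G → ℂ) g =
      (Nat.card (Sylow p G) : ℂ) *
        ((∑ i ∈ Finset.range p, (φ : G → ℂ) (x ^ i)) - (φ : G → ℂ) 1) := by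
  rw [sum_singular P hP hC hx hxP (φ : G → ℂ) (fun g c => irr_isClassFunction φ g c), nsmul_eq_mul,
    Finset.range_eq_Ico, Finset.sum_eq_sum_Ico_succ_bot hp.out.pos, pow_zero, add_sub_cancel_left]

end CfsgLib.PermPrime.DegP
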