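import Cfsg.Agent.Lib.PermPrime.DegP.Pairs
import Cfsg.Agent.Lib.PermPrime.DegP.SingularSum
import Cfsg.Agent.Lib.CyclicDefect.Realize
import Cfsg.Agent.Lib.CyclicDefect.Values
import Cfsg.Agent.Lib.CyclicDefect.Schur
import Cfsg.Agent.Lib.Characters.Galois

/-!
# Lattices with weights over the unramified ring

A character whose sum over a Sylow subgroup of order `p` exceeds its degree has a lattice, with all
constituents agreeing with it on the regular elements, carrying a weight.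
-/

set_option autoImplicit false
set_option linter.style.haveILetI false
set_option linter.unusedSectionVars false

noncomputable section

namespace CfsgLib.PermPrime.DegP

open Cfsg CfsgLib.Characters CfsgLib.CyclicDefect
open scoped ComplexConjugate

universe u

variable {p : ℕ} [hp : Fact p.Prime] {G : Type u} [Group G] [Fintype G]

theorem witt_prime : Prime (p : WittRing p) := (wittRing_prime p).prime

theorem witt_not_dvd {n : ℕ} (h : ¬ p ∣ n) : ¬ (p : WittRing p) ∣ (n : WittRing p) := fun hd => by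
  have h2 := map_dvd (wittCoeff p).π hd
  rw [map_natCast, map_natCast, CharP.cast_eq_zero, zero_dvd_iff,
    CharP.cast_eq_zero_iff (ResField p) p] at h2
  exact h h2

/-- The weights of a cyclic subgroup of order prime to `p`. -/
structure WeightSystem (p : ℕ) [Fact p.Prime] {G : Type u} [Group G] [DecidableEq G]
    (E : Subgroup G) where
  ν : Fin (Nat.card E) → (E →* WittRing p)
  orth : ∀ h : E, ∑ j, ν j h = if (h : G) = 1 then (Nat.card E : WittRing p) else 0
  surj : ∀ l : E →* ℂ, ∃ j, ∀ h, toC p (ν j h) = l h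

theorem exists_weightSystem [DecidableEq G] (E : Subgroup G) [IsCyclic E]
    (he : ¬ p ∣ Nat.card E) : Nonempty (WeightSystem p E) := by
  classical
  obtain ⟨y, hy⟩ := IsCyclic.exists_generator (α := E)
  set e := Nat.card E with hedef
  haveI : NeZero e := ⟨Nat.card_pos.ne'⟩
  haveI : NeZero (e : ResField p) :=
    ⟨fun h => he ((CharP.cast_eq_zero_iff (ResField p) p e).1 h)⟩
  obtain ⟨w, hw⟩ := HasEnoughRootsOfUnity.exists_primitiveRoot (ResField p) e
  have hinj : Function.Injective (WittVector.teichmuller p : ResField p →* WittRing p) :=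
    fun a b h => by
      have := congrArg (fun z => z.coeff 0) h
      simpa only [WittVector.teichmuller_coeff_zero] using this
  set W : WittRing p := WittVector.teichmuller p w with hW
  have hWp : IsPrimitiveRoot W e := hw.map_of_injective hinj
  have hye : orderOf y = e := orderOf_eq_card_of_forall_mem_zpowers hy
  let U : (WittRing p)ˣ := (hWp.isUnit (NeZero.ne e)).unit
  have hU : (U : WittRing p) = W := IsUnit.unit_spec _
  have hdvd : ∀ j : Fin e, orderOf (U ^ (j : ℕ)) ∣ orderOf y := fun j => by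
    rw [hye]
    refine orderOf_dvd_of_pow_eq_one (Units.ext ?_)
    rw [← pow_mul, mul_comm, pow_mul, Units.val_pow_eq_pow_val, Units.val_pow_eq_pow_val, hU,
      hWp.pow_eq_one, one_pow, Units.val_one]
  let ν : Fin e → (E →* WittRing p) := fun j =>
    (Units.coeHom (WittRing p)).comp (monoidHomOfForallMemZpowers hy (hdvd j))
  have hνy : ∀ (j : Fin e) (i : ℕ), ν j (y ^ i) = W ^ ((j : ℕ) * i) := fun j i => by
    rw [map_pow, pow_mul]
    congr 1
    show ((monoidHomOfForallMemZpowers hy (hdvd j) y : (WittRing p)ˣ) : WittRing p) = _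
    rw [monoidHomOfForallMemZpowers_apply_gen, Units.val_pow_eq_pow_val, hU]
  have hpow : ∀ h : E, ∃ i, i < e ∧ y ^ i = h := fun h => by
    obtain ⟨i, hi⟩ := mem_powers_iff_mem_zpowers.2 (hy h)
    exact ⟨i % e, Nat.mod_lt _ (NeZero.pos e), by rw [← hye, pow_mod_orderOf]; exact hi⟩
  refine ⟨⟨ν, fun h => ?_, fun l => ?_⟩⟩
  · obtain ⟨i, hie, rfl⟩ := hpow h
    simp only [hνy]
    by_cases hi : i = 0
    · subst hi
      simp [e]
    · rw [if_neg ?_]
      · rw [Fin.sum_univ_eq_sum_range (fun j => W ^ (j * i)) e]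
        have hne : W ^ i ≠ 1 := hWp.pow_ne_one_of_pos_of_lt hi hie
        have h0 := geom_sum_mul (W ^ i) e
        rw [← pow_mul, mul_comm i e, pow_mul, hWp.pow_eq_one, one_pow, sub_self, mul_eq_zero] at h0
        rcases h0 with h0 | h0
        · rw [← h0]
          exact Finset.sum_congr rfl fun j _ => by rw [← pow_mul, mul_comm]
        · exact absurd (sub_eq_zero.1 h0) hne
      · rw [OneMemClass.coe_eq_one, ← orderOf_dvd_iff_pow_eq_one, hye]
        exact fun hd => hi (Nat.eq_zero_of_dvd_of_lt hd hie)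
  · have hζ : IsPrimitiveRoot (toC p W) e := hWp.map_of_injective (toC_injective p)
    obtain ⟨j, hje, hj⟩ := hζ.eq_pow_of_pow_eq_one (ξ := l y) (by
      rw [← map_pow, ← hye, pow_orderOf_eq_one, map_one])
    refine ⟨⟨j, hje⟩, fun h => ?_⟩
    obtain ⟨i, -, rfl⟩ := hpow h
    rw [hνy, map_pow, map_pow, ← hj, pow_mul]

variable (P : Sylow p G) (hP : Nat.card P = p)
  (hC : Subgroup.centralizer ((P : Subgroup G) : Set G) = (P : Subgroup G)) {x : G}
  (hx : orderOf x = p) (hxP : x ∈ (P : Subgroup G)) (E : Subgroup G)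
  (hN : Subgroup.normalizer ((P : Subgroup G) : Set G) = (P : Subgroup G) ⊔ E)

include hP hx hxP hN in
theorem exists_conj_pow (h : E) : ∃ j : ℕ, (h : G)⁻¹ * x * h = x ^ j := by
  have hn : (h : G)⁻¹ ∈ Subgroup.normalizer ((P : Subgroup G) : Set G) :=
    inv_mem (hN ▸ Subgroup.mem_sup_right h.2)
  have h1 := (Subgroup.mem_normalizer_iff.1 hn x).1 hxP
  rw [inv_inv, ← zpowers_eq P hx hxP hP] at h1
  obtain ⟨j, hj⟩ := mem_powers_iff_mem_zpowers.2 h1
  exact ⟨j, hj.symm⟩

include hP hC hx hxP in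
/-- Characters agreeing on the regular elements, both non-principal, have the same sum over `P`. -/
theorem axis_eq_of_agree {χ φ : IrrCharacter G} (hχ : χ ≠ principalIrr G) (hφ : φ ≠ principalIrr G)
    (h : ∀ g : G, ¬ p ∣ orderOf g → (φ : G → ℂ) g = (χ : G → ℂ) g) :
    ∑ i ∈ Finset.range p, (φ : G → ℂ) (x ^ i) = ∑ i ∈ Finset.range p, (χ : G → ℂ) (x ^ i) := by
  classical
  have h0 : ∀ ξ : IrrCharacter G, ξ ≠ principalIrr G → ∑ g : G, (ξ : G → ℂ) g = 0 := fun ξ hξ => by
    have h := classInner_irr ξ (principalIrr G)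
    rw [if_neg hξ, classInner, mul_eq_zero] at h
    have h' := h.resolve_left (inv_ne_zero (Nat.cast_ne_zero.2 Nat.card_pos.ne'))
    simpa only [principalIrr, map_one, mul_one] using h'
  have hs := fun (ξ : IrrCharacter G) (hξ : ξ ≠ principalIrr G) => (Finset.sum_filter_add_sum_filter_not Finset.univ
    (fun g : G => p ∣ orderOf g) (ξ : G → ℂ)).trans (h0 ξ hξ)
  have h1 := hs φ hφ
  rw [Finset.sum_congr (s₁ := Finset.univ.filter fun g : G => ¬ p ∣ orderOf g) rfl
    fun g hg => h g (Finset.mem_filter.1 hg).2] at h1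
  have h2 := h1.trans (hs χ hχ).symm
  rw [add_left_inj, sum_irr_singular P hP hC hx hxP, sum_irr_singular P hP hC hx hxP,
    mul_right_inj' (Nat.cast_ne_zero.2 Nat.card_pos.ne'),
    h 1 (by rw [orderOf_one]; exact hp.out.not_dvd_one), sub_left_inj] at h2
  exact h2

include hP hC hx hxP hN in
/-- **A lattice with a weight.** -/
theorem exists_lattice_weight [DecidableEq G] (hsq : ¬ p ^ 2 ∣ Nat.card G) (hpG : p ∣ Nat.card G)
    (S : WeightSystem p E) (he : ¬ p ∣ Nat.card E) (χ : IrrCharacter G)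
    (hχ : χ ≠ principalIrr G)
    (hagree : ∀ φ : IrrCharacter G, (∀ g : G, ¬ p ∣ orderOf g → (φ : G → ℂ) g = (χ : G → ℂ) g) →
      φ ≠ principalIrr G)
    {m : ℕ} (hS : ∑ i ∈ Finset.range p, (χ : G → ℂ) (x ^ i) = (p : ℂ) * m)
    (hdeg : charDegree (χ : G → ℂ) < p * m) :
    ∃ (d : ℕ) (ρ : G →* Matrix (Fin d) (Fin d) (WittRing p)) (n : IrrCharacter G → ℕ),
      (∀ φ, n φ ≠ 0 → ∀ g : G, ¬ p ∣ orderOf g → (φ : G → ℂ) g = (χ : G → ℂ) g) ∧
      (∀ g, toC p (ρ g).trace = ∑ φ : IrrCharacter G, (n φ : ℂ) * (φ : G → ℂ) g) ∧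
      ∃ j, HasWeight p ρ x E (S.ν j) := by
  classical
  obtain ⟨A, hA⟩ : ∃ A : Set (IrrCharacter G),
      ∀ φ, φ ∈ A ↔ ∀ g : G, ¬ p ∣ orderOf g → (φ : G → ℂ) g = (χ : G → ℂ) g :=
    ⟨{φ | ∀ g : G, ¬ p ∣ orderOf g → (φ : G → ℂ) g = (χ : G → ℂ) g}, fun _ => Iff.rfl⟩
  have h1r : ¬ p ∣ orderOf (1 : G) := by rw [orderOf_one]; exact hp.out.not_dvd_one
  have hAdeg : ∀ φ ∈ A, (φ : G → ℂ) 1 = (charDegree (χ : G → ℂ) : ℂ) := fun φ hφ => by
    rw [(hA φ).1 hφ 1 h1r, CharCorr.irr_one_eq_charDegree]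
  have hAsum : ∀ φ ∈ A, ∑ i ∈ Finset.range p, (φ : G → ℂ) (x ^ i) = (p : ℂ) * m := fun φ hφ => by
    rw [axis_eq_of_agree P hP hC hx hxP hχ (hagree φ ((hA φ).1 hφ)) ((hA φ).1 hφ), hS]
  -- the Galois twists
  obtain ⟨q, hq⟩ := hpG
  have hpq : Nat.Coprime p q := hp.out.coprime_iff_not_dvd.2 fun h => hsq (by
    rw [hq, sq]
    exact mul_dvd_mul_left p h)
  have htwist : ∀ i, 0 < i → i < p →
      ∑ φ ∈ Finset.univ.filter (· ∈ A), (φ : G → ℂ) (x ^ i) =
        ∑ φ ∈ Finset.univ.filter (· ∈ A), (φ : G → ℂ) x := by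
    intro i hi hip
    obtain ⟨k, hk1, hk2⟩ := Nat.chineseRemainder hpq i 1
    have hcop : k.Coprime (Nat.card G) := by
      rw [hq]
      refine Nat.Coprime.mul_right ?_ ?_
      · refine Nat.coprime_comm.1 (hp.out.coprime_iff_not_dvd.2 fun hd => ?_)
        have h0 : i ≡ 0 [MOD p] := hk1.symm.trans (Nat.modEq_zero_iff_dvd.2 hd)
        have := Nat.le_of_dvd hi (Nat.modEq_zero_iff_dvd.1 h0)
        omega
      · rcases Nat.eq_zero_or_pos q with rfl | hq0
        · rw [mul_zero] at hq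
          exact absurd hq Nat.card_pos.ne'
        · show Nat.gcd k q = 1
          rw [hk2.gcd_eq, Nat.gcd_one_left]
    have hreg : ∀ g : G, ¬ p ∣ orderOf g → g ^ k = g := fun g hg => by
      have hgq : orderOf g ∣ q := by
        refine (Nat.Coprime.dvd_mul_left (k := orderOf g) ?_).1 (hq ▸ orderOf_dvd_natCard g)
        exact Nat.coprime_comm.1 (hp.out.coprime_iff_not_dvd.2 hg)
      conv_rhs => rw [← pow_one g]
      rw [pow_eq_pow_iff_modEq]
      exact hk2.of_dvd hgq
    have hxi : x ^ k = x ^ i := by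
      rw [pow_eq_pow_iff_modEq, hx]
      exact hk1
    let f : IrrCharacter G → IrrCharacter G := fun φ =>
      ⟨fun g => (φ : G → ℂ) (g ^ k), CharGalois.isIrrCharacter_pow φ.2 hcop⟩
    have hmem : ∀ φ ∈ A, f φ ∈ A := fun φ hφ => (hA _).2 fun g hg => by
      show (φ : G → ℂ) (g ^ k) = _
      rw [hreg g hg]
      exact (hA φ).1 hφ g hg
    have hinj : Function.Injective f := fun φ ψ h => Subtype.ext (funext fun g => by
      obtain ⟨g', rfl⟩ := (powCoprime (G := G) (Nat.coprime_comm.1 hcop)).surjective g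
      exact congrFun (congrArg Subtype.val h) g')
    have himg : (Finset.univ.filter (· ∈ A)).image f = Finset.univ.filter (· ∈ A) := by
      refine Finset.eq_of_subset_of_card_le ?_ (Finset.card_image_of_injective _ hinj).ge
      intro φ hφ
      obtain ⟨ψ, hψ, rfl⟩ := Finset.mem_image.1 hφ
      exact Finset.mem_filter.2 ⟨Finset.mem_univ _, hmem ψ (Finset.mem_filter.1 hψ).2⟩
    conv_rhs => rw [← himg, Finset.sum_image hinj.injOn]
    exact Finset.sum_congr rfl fun φ _ => by
      show _ = (φ : G → ℂ) (x ^ k)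
      rw [hxi]
  have hsingx : ∑ φ ∈ Finset.univ.filter (· ∈ A), (φ : G → ℂ) x ∈ unramField p := by
    set N := (Finset.univ.filter (· ∈ A)).card
    have h1 : ∑ φ ∈ Finset.univ.filter (· ∈ A), ∑ i ∈ Finset.range p, (φ : G → ℂ) (x ^ i) =
        (N : ℂ) * ((p : ℂ) * m) := by
      rw [Finset.sum_congr rfl fun φ hφ => hAsum φ (Finset.mem_filter.1 hφ).2, Finset.sum_const,
        nsmul_eq_mul]
    rw [Finset.sum_comm, Finset.range_eq_Ico, Finset.sum_eq_sum_Ico_succ_bot hp.out.pos, pow_zero,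
      Finset.sum_congr rfl fun φ hφ => hAdeg φ (Finset.mem_filter.1 hφ).2,
      Finset.sum_congr rfl fun i hi => htwist i
        (Nat.lt_of_lt_of_le Nat.zero_lt_one (Finset.mem_Ico.1 hi).1) (Finset.mem_Ico.1 hi).2,
      Finset.sum_const, Finset.sum_const, Nat.card_Ico, nsmul_eq_mul, nsmul_eq_mul] at h1
    have hp1 : ((p - (0 + 1) : ℕ) : ℂ) ≠ 0 := Nat.cast_ne_zero.2 (by have := hp.out.one_lt; omega)
    have h2 : ∑ φ ∈ Finset.univ.filter (· ∈ A), (φ : G → ℂ) x =
        ((p - (0 + 1) : ℕ) : ℂ)⁻¹ *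
          ((N : ℂ) * ((p : ℂ) * m) - (N : ℂ) * (charDegree (χ : G → ℂ) : ℂ)) := by
      rw [eq_inv_mul_iff_mul_eq₀ hp1]
      linear_combination h1
    rw [h2]
    exact mul_mem (inv_mem (natCast_mem _ _)) (sub_mem (mul_mem (natCast_mem _ _)
      (mul_mem (natCast_mem _ _) (natCast_mem _ _))) (mul_mem (natCast_mem _ _) (natCast_mem _ _)))
  have hAu : ∀ g, blockCoeff A g ∈ unramField p := by
    intro g
    rw [Blocks.blockCoeff_eq_sum]
    refine mul_mem (inv_mem (natCast_mem _ _)) ?_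
    rw [Finset.sum_congr rfl fun φ hφ => by
      rw [hAdeg φ (Finset.mem_filter.1 hφ).2, ← irr_apply_inv], ← Finset.mul_sum]
    refine mul_mem (natCast_mem _ _) ?_
    by_cases hg : p ∣ orderOf g
    · obtain ⟨c, hc, hc1⟩ := exists_conj_mem P hP hC (g := g⁻¹) (by rwa [orderOf_inv])
      rw [← zpowers_eq P hx hxP hP] at hc
      obtain ⟨i, hi⟩ := mem_powers_iff_mem_zpowers.2 hc
      have hi : x ^ i = c * g⁻¹ * c⁻¹ := hi
      rw [← pow_mod_orderOf, hx] at hi
      have hi0 : 0 < i % p := Nat.pos_of_ne_zero fun h => hc1 (by rw [← hi, h, pow_zero])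
      rw [Finset.sum_congr rfl fun φ _ => ((irr_isClassFunction φ g⁻¹ c).symm.trans
        (congrArg (φ : G → ℂ) hi.symm)), htwist _ hi0 (Nat.mod_lt _ hp.out.pos)]
      exact hsingx
    · exact sum_mem fun φ _ => Loc.irr_mem_unram φ (by rwa [orderOf_inv])
  obtain ⟨d, ρ, n, hsupp, hn, htr, -⟩ := exists_lattice p A hAu (χ := χ) ((hA χ).2 fun g _ => rfl)
  have hsupp' : ∀ φ, n φ ≠ 0 → φ ∈ A := fun φ hφ => by_contra fun h => hφ (hsupp φ h)
  refine ⟨d, ρ, n, fun φ hφ => (hA φ).1 (hsupp' φ hφ), htr, ?_⟩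
  set M := (∑ φ : IrrCharacter G, n φ) * m with hM
  have hd : d = (∑ φ : IrrCharacter G, n φ) * charDegree (χ : G → ℂ) := by
    have h := htr 1
    rw [map_one, Matrix.trace_one, Fintype.card_fin, map_natCast] at h
    rw [← Nat.cast_inj (R := ℂ), h, Nat.cast_mul, Nat.cast_sum, Finset.sum_mul]
    refine Finset.sum_congr rfl fun φ _ => ?_
    by_cases hφ : n φ = 0
    · rw [hφ, Nat.cast_zero, zero_mul, zero_mul]
    · rw [hAdeg φ (hsupp' φ hφ)]
  have hpos : 0 < ∑ φ : IrrCharacter G, n φ :=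
    lt_of_lt_of_le hn (Finset.single_le_sum (fun _ _ => Nat.zero_le _) (Finset.mem_univ χ))
  refine exists_weight (wittCoeff p).ker ρ (by rw [← hx]; exact pow_orderOf_eq_one x)
    (exists_conj_pow P hP hx hxP E hN) witt_prime (witt_not_dvd he) S.ν S.orth (m := M) ?_ ?_
  · refine toC_injective p ?_
    rw [map_sum, map_mul, map_natCast, map_natCast, hM]
    simp only [htr]
    rw [Finset.sum_comm, Nat.cast_mul, Nat.cast_sum, Finset.sum_mul, Finset.mul_sum]
    refine Finset.sum_congr rfl fun φ _ => ?_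
    rw [← Finset.mul_sum]
    by_cases hφ : n φ = 0
    · simp [hφ]
    · rw [hAsum φ (hsupp' φ hφ)]
      ring
  · rw [Fintype.card_fin, hd, hM, mul_left_comm p]
    exact Nat.mul_lt_mul_of_pos_left hdeg hpos

include hP hx hxP hN in
/-- **Two lattices with orthogonal characters do not share a weight.** -/
theorem weight_unique (he : ¬ p ∣ Nat.card E) {d d' : ℕ}
    (ρ : G →* Matrix (Fin d) (Fin d) (WittRing p)) (ρ' : G →* Matrix (Fin d') (Fin d') (WittRing p))
    (h0 : classInner (fun g => toC p (ρ' g).trace) (fun g => toC p (ρ g).trace) = 0)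
    {ν : E →* WittRing p} (hv : HasWeight p ρ x E ν) (hv' : HasWeight p ρ' x E ν) : False := by
  refine weight_not_shared P hx hxP hP E hN witt_prime (witt_not_dvd he) ρ ρ' (fun T hT => ?_) hv hv'
  have h := intertwiner_eq_zero (cx p ρ') (cx p ρ) (X := T.map (toC p)) (by
    simpa only [cx_trace] using h0) fun g => by
      show (ρ' g).map (toC p) * T.map (toC p) = T.map (toC p) * (ρ g).map (toC p)
      rw [← Matrix.map_mul, ← Matrix.map_mul, hT g]
  refine Matrix.ext fun i j => toC_injective p ?_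
  simpa using congrFun (congrFun h i) j

include hP hx hxP hN in
/-- A weight occurs in the character. -/
theorem weight_occurs [Fintype E] {d : ℕ} (ρ : G →* Matrix (Fin d) (Fin d) (WittRing p))
    {ν : E →* WittRing p} (hv : HasWeight p ρ x E ν) :
    ∑ h : E, toC p (ν h⁻¹) * ∑ i ∈ Finset.range p, toC p (ρ ((h : G) * x ^ i)).trace ≠ 0 := by
  have h := hv.trace_ne_zero ρ (by rw [← hx]; exact pow_orderOf_eq_one x)
    (exists_conj_pow P hP hx hxP E hN)
  intro h0
  refine h (toC_injective p ?_)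
  simpa only [map_sum, map_mul, map_zero] using h0

theorem dualRep_trace {d : ℕ} (ρ : G →* Matrix (Fin d) (Fin d) (WittRing p)) (g : G) :
    (dualRep ρ g).trace = (ρ g⁻¹).trace := Matrix.trace_transpose _

end CfsgLib.PermPrime.DegP
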