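import Cfsg.Agent.Lib.PermPrime.DegP.Basic
import Cfsg.Agent.Lib.PermPrime.DegP.Weights
import Cfsg.Agent.Lib.PermPrime.DegP.PerfectDet
import Cfsg.Agent.Lib.Blocks.DefectZeroVanish
import Cfsg.Agent.Lib.Characters.LinearTwist
import Cfsg.Agent.Lib.Characters.PermTwo
import Cfsg.Agent.S0675
import Mathlib.GroupTheory.FiniteAbelian.Duality

/-!
# The character of degree `p`
-/

set_option autoImplicit false
set_option linter.style.haveILetI false
set_option linter.unusedSectionVars false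

noncomputable section

namespace CfsgLib.PermPrime.DegP

open Cfsg CfsgLib.Characters MulAction
open scoped ComplexConjugate

universe u

variable {p : ℕ} [hp : Fact p.Prime] {α : Type u} [Fintype α] [DecidableEq α]
  {G : Subgroup (Equiv.Perm α)} [Fintype G] (S : Setup p G)

include S

/-- The character of degree `p`. -/
def Setup.st : IrrCharacter G := S.huniq.choose

theorem Setup.st_deg : charDegree (S.st : G → ℂ) = p := S.huniq.choose_spec.1

theorem Setup.eq_st {φ : IrrCharacter G} (h : charDegree (φ : G → ℂ) = p) : φ = S.st :=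
  S.huniq.choose_spec.2 φ h

theorem Setup.st_one : (S.st : G → ℂ) 1 = (p : ℂ) := by
  rw [CharCorr.irr_one_eq_charDegree, S.st_deg]

theorem Setup.st_sing {g : G} (hg : p ∣ orderOf g) : (S.st : G → ℂ) g = 0 := by
  refine CfsgLib.DefectZeroVanish.vanish_of_defect_zero S.st ?_ hg
  rw [S.st_deg]
  have hk : (Nat.card G).factorization p ≤ 1 := by
    by_contra h
    exact S.sq_not_dvd ((pow_dvd_pow p (show 2 ≤ (Nat.card G).factorization p by omega)).trans
      (Nat.ordProj_dvd _ _))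
  exact (pow_dvd_pow p hk).trans (by rw [pow_one])

theorem Setup.st_int (g : G) : ∃ z : ℤ, (S.st : G → ℂ) g = (z : ℂ) := by
  obtain ⟨q, hq⟩ := CharGalois.exists_rat_char (irr_isCharacter S.st) g fun m hm => by
    have h := S.eq_st (φ := ⟨_, CharGalois.isIrrCharacter_pow S.st.2 hm⟩) (by
      show charDegree (fun g => (S.st : G → ℂ) (g ^ m)) = p
      simp only [charDegree, one_pow]
      exact S.st_deg)
    exact congrFun (congrArg Subtype.val h) g
  obtain ⟨z, rfl⟩ := exists_int_of_isIntegral_rat (q := q)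
    (hq ▸ isIntegral_of_isCharacter (irr_isCharacter S.st) g)
  exact ⟨z, by rw [hq, Rat.cast_intCast]⟩

theorem Setup.inv_exp (h : S.E) : (h : G)⁻¹ * S.x * h = S.x ^ (S.expo h⁻¹).val := by
  have := S.expo_spec h⁻¹
  rwa [Subgroup.coe_inv, inv_inv] at this

/-- Non-identity elements of the complement absorb the powers of the generator. -/
theorem Setup.conj_mul_pow {h : S.E} (hh : h ≠ 1) (i : ℕ) :
    ∃ c : G, c * h * c⁻¹ = (h : G) * S.x ^ i := by
  set k := S.expo h⁻¹ with hk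
  have hk1 : k ≠ 1 := fun e => hh (by
    have h1 : h⁻¹ = 1 := Subtype.ext (S.eq_one_of_commute (h⁻¹).2 (by
      rw [S.expo_spec, ← hk, e, ZMod.val_one, pow_one]; ))
    exact inv_eq_one.1 h1)
  set j : ZMod p := (i : ZMod p) / (k - 1) with hj
  have h2 : k.val * j.val ≡ i + j.val [MOD p] := by
    rw [← ZMod.natCast_eq_natCast_iff]
    push_cast [ZMod.natCast_zmod_val]
    have : j * (k - 1) = (i : ZMod p) := div_mul_cancel₀ _ (sub_ne_zero.2 hk1)
    linear_combination this
  refine ⟨S.x ^ j.val, ?_⟩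
  rw [mul_inv_eq_iff_eq_mul, mul_assoc, ← pow_add,
    show S.x ^ j.val * (h : G) = (h : G) * ((h : G)⁻¹ * S.x ^ j.val * h) by group]
  congr 1
  have h3 : (h : G)⁻¹ * S.x ^ j.val * h = ((h : G)⁻¹ * S.x * h) ^ j.val := by
    conv_rhs => rw [show (h : G)⁻¹ * S.x * h = (h : G)⁻¹ * S.x * ((h : G)⁻¹)⁻¹ by rw [inv_inv], conj_pow, inv_inv]
  rw [h3, S.inv_exp, ← pow_mul, pow_eq_pow_iff_modEq, S.x_order]
  exact h2

theorem Setup.sum_coset (χ : G → ℂ) (hχ : IsClassFunction G χ) {h : S.E} (hh : h ≠ 1) :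
    ∑ i ∈ Finset.range p, χ ((h : G) * S.x ^ i) = (p : ℂ) * χ h := by
  have : ∀ i ∈ Finset.range p, χ ((h : G) * S.x ^ i) = χ h := fun i _ => by
    obtain ⟨c, hc⟩ := S.conj_mul_pow hh i
    rw [← hc, hχ]
  rw [Finset.sum_congr rfl this, Finset.sum_const, Finset.card_range, nsmul_eq_mul]

/-- **The multiplicity of a linear character of the normalizer.** -/
theorem Setup.exists_mult [Fintype S.E] (χ : IrrCharacter G) (l : S.E →* ℂ) :
    ∃ m : ℕ, (∑ i ∈ Finset.range p, (χ : G → ℂ) (S.x ^ i)) - p * (χ : G → ℂ) 1 +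
      (p : ℂ) * ∑ h : S.E, (χ : G → ℂ) (h : G) * conj (l h) = (p : ℂ) * Nat.card S.E * m := by
  classical
  set N := Subgroup.normalizer ((S.P : Subgroup G) : Set G) with hN
  haveI := Fintype.ofFinite N
  have hxN : ∀ (h : S.E) (i : ℕ), (h : G) * S.x ^ i ∈ N := fun h i =>
    N.mul_mem (S.E_le h.2) (N.pow_mem (Subgroup.le_normalizer S.x_mem) i)
  let φ : S.E × Fin p → N := fun z => ⟨(z.1 : G) * S.x ^ (z.2 : ℕ), hxN z.1 z.2⟩
  have hinj : ∀ {h h' : S.E} {z z' : G}, z ∈ (S.P : Subgroup G) → z' ∈ (S.P : Subgroup G) →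
      (h : G) * z = h' * z' → h = h' ∧ z = z' := by
    intro h h' z z' hz hz' e
    have e' : z⁻¹ * ((h⁻¹ : S.E) : G) = z'⁻¹ * ((h'⁻¹ : S.E) : G) := by
      simpa [mul_inv_rev] using congrArg (·⁻¹) e
    obtain ⟨h1, h2⟩ := S.eq_of_mul_eq (Subgroup.inv_mem _ hz) (Subgroup.inv_mem _ hz') (h⁻¹).2 (h'⁻¹).2 e'
    exact ⟨inv_injective (Subtype.ext h2), inv_injective h1⟩
  have hφ : Function.Bijective φ := by
    refine (Nat.bijective_iff_injective_and_card φ).2 ⟨fun z w e => ?_, ?_⟩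
    · obtain ⟨h1, h2⟩ := hinj (Subgroup.pow_mem _ S.x_mem _) (Subgroup.pow_mem _ S.x_mem _)
        (congrArg Subtype.val e)
      exact Prod.ext h1 (Fin.ext (powers_injOn S.x_order z.2.2 w.2.2 h2))
    · rw [Nat.card_prod, Nat.card_fin, hN, S.card_N, mul_comm]
  let pr : N → S.E := fun n => (Function.surjInv hφ.2 n).1
  have hpr : ∀ (n : N) (h : S.E) (z : G), z ∈ (S.P : Subgroup G) → (h : G) * z = n → pr n = h := by
    intro n h z hz e
    exact (hinj (Subgroup.pow_mem _ S.x_mem _) hz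
      ((congrArg Subtype.val (Function.surjInv_eq hφ.2 n)).trans e.symm)).1
  let L : N →* ℂ :=
    { toFun := fun n => l (pr n)
      map_one' := by rw [hpr 1 1 1 (one_mem _) (by simp), map_one]
      map_mul' := fun n n' => by
        obtain ⟨⟨h, i⟩, rfl⟩ := hφ.2 n
        obtain ⟨⟨h', i'⟩, rfl⟩ := hφ.2 n'
        rw [hpr (φ (h, i)) h _ (Subgroup.pow_mem _ S.x_mem i) rfl,
          hpr (φ (h', i')) h' _ (Subgroup.pow_mem _ S.x_mem i') rfl, ← map_mul]
        congr 1
        refine hpr _ _ (((h' : G)⁻¹ * S.x ^ (i : ℕ) * h') * S.x ^ (i' : ℕ))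
          (mul_mem ?_ (Subgroup.pow_mem _ S.x_mem _)) ?_
        · have := (Subgroup.mem_normalizer_iff.1 (inv_mem (S.E_le h'.2)) _).1
            (Subgroup.pow_mem _ S.x_mem (i : ℕ))
          rwa [inv_inv] at this
        · simp only [φ, Subgroup.coe_mul]
          group }
  obtain ⟨m, hm⟩ := classInner_char_nat (Clifford.isCharacter_subtype (irr_isCharacter χ) N)
    (CfsgLib.Induction.isCharacter_monoidHom L)
  refine ⟨m, ?_⟩
  rw [classInner, inv_mul_eq_iff_eq_mul₀ (Nat.cast_ne_zero.2 Nat.card_pos.ne'),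
    show Nat.card N = p * Nat.card S.E from S.card_N, Nat.cast_mul] at hm
  rw [← hm, ← hφ.sum_comp, Fintype.sum_prod_type]
  have hL : ∀ (h : S.E) (i : Fin p), (χ : G → ℂ) (φ (h, i) : G) * conj (L (φ (h, i))) =
      conj (l h) * (χ : G → ℂ) ((h : G) * S.x ^ (i : ℕ)) := fun h i => by
    show _ * conj (l (pr (φ (h, i)))) = _
    rw [hpr (φ (h, i)) h _ (Subgroup.pow_mem _ S.x_mem i) rfl, mul_comm]
  rw [Finset.sum_congr rfl fun h _ => Finset.sum_congr rfl fun i _ => hL h i]
  simp only [← Finset.mul_sum]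
  rw [← Finset.add_sum_erase Finset.univ (fun h => conj (l h) * ∑ i : Fin p, (χ : G → ℂ) ((h : G) * S.x ^ (i : ℕ))) (Finset.mem_univ 1),
    ← Finset.add_sum_erase Finset.univ (fun h : S.E => (χ : G → ℂ) (h : G) * conj (l h)) (Finset.mem_univ 1)]
  have h1 : ∑ h ∈ Finset.univ.erase (1 : S.E),
      conj (l h) * ∑ i : Fin p, (χ : G → ℂ) ((h : G) * S.x ^ (i : ℕ)) =
      (p : ℂ) * ∑ h ∈ Finset.univ.erase (1 : S.E), (χ : G → ℂ) (h : G) * conj (l h) := by
    rw [Finset.mul_sum]
    refine Finset.sum_congr rfl fun h hh => ?_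
    rw [Fin.sum_univ_eq_sum_range (fun i => (χ : G → ℂ) ((h : G) * S.x ^ i)) p,
      S.sum_coset _ (irr_isClassFunction χ) (Finset.mem_erase.1 hh).1]
    ring
  rw [h1]
  simp only [OneMemClass.coe_one, map_one, one_mul, mul_one]
  rw [Fin.sum_univ_eq_sum_range (fun i => (χ : G → ℂ) (S.x ^ i)) p]
  ring

theorem Setup.st_axis : ∑ i ∈ Finset.range p, (S.st : G → ℂ) (S.x ^ i) = (p : ℂ) := by
  rw [Finset.range_eq_Ico, Finset.sum_eq_sum_Ico_succ_bot hp.out.pos, pow_zero, S.st_one,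
    Finset.sum_eq_zero (fun i hi => S.st_sing ?_), add_zero]
  have hi' := Finset.mem_Ico.1 hi
  rw [Nat.Coprime.orderOf_pow, S.x_order]
  rw [S.x_order]
  exact hp.out.coprime_iff_not_dvd.2 fun hd => by
    have := Nat.le_of_dvd (by omega) hd
    omega

/-- The weights. -/
def Setup.ws : WeightSystem p S.E :=
  haveI := S.isCyclic
  (exists_weightSystem S.E S.not_dvd_e).some

/-- A weight as a complex linear character. -/
def Setup.lin (j : Fin (Nat.card S.E)) : S.E →* ℂ :=
  (CfsgLib.CyclicDefect.toC p).toMonoidHom.comp (S.ws.ν j)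

theorem Setup.lin_orth (h : S.E) :
    ∑ j, S.lin j h = if (h : G) = 1 then (Nat.card S.E : ℂ) else 0 := by
  show ∑ j, CfsgLib.CyclicDefect.toC p (S.ws.ν j h) = _
  rw [← map_sum, S.ws.orth h]
  split_ifs <;> simp

theorem Setup.conj_hom (l : S.E →* ℂ) (h : S.E) : conj (l h) = l h⁻¹ := by
  have h1 : l h * l h⁻¹ = 1 := by rw [← map_mul, mul_inv_cancel, map_one]
  have hn : ‖l h‖ = 1 := Complex.norm_eq_one_of_pow_eq_one (n := orderOf h)
    (by rw [← map_pow, pow_orderOf_eq_one, map_one]) (orderOf_pos h).ne'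
  rw [eq_inv_of_mul_eq_one_right h1, Complex.inv_def, Complex.normSq_eq_norm_sq, hn]
  simp

theorem Setup.exists_mu :
    ∃ μ : S.E →* ℂ, ∀ h : S.E, h ≠ 1 → (S.st : G → ℂ) (h : G) = μ h := by
  classical
  haveI := Fintype.ofFinite S.E
  choose m hm using fun j => S.exists_mult S.st (S.lin j)
  set c : Fin (Nat.card S.E) → ℂ := fun j => ∑ h : S.E, (S.st : G → ℂ) (h : G) * conj (S.lin j h) with hc
  have hcm : ∀ j, c j = (p : ℂ) - 1 + (Nat.card S.E : ℂ) * m j := fun j => by
    have h := hm j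
    rw [S.st_axis, S.st_one] at h
    refine mul_left_cancel₀ (Nat.cast_ne_zero.2 hp.out.ne_zero : (p : ℂ) ≠ 0) ?_
    simp only [hc]
    linear_combination h
  have hinv : ∀ g : S.E, ∑ j, c j * S.lin j g = (Nat.card S.E : ℂ) * (S.st : G → ℂ) (g : G) := by
    intro g
    simp only [hc, Finset.sum_mul, S.conj_hom, mul_assoc, ← map_mul]
    rw [Finset.sum_comm]
    simp only [← Finset.mul_sum, S.lin_orth]
    rw [Finset.sum_eq_single g]
    · rw [if_pos (by simp)]
      ring
    · intro b _ hb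
      rw [if_neg ?_, mul_zero]
      exact fun h => hb (inv_mul_eq_one.1 (Subtype.ext h))
    · exact fun h => absurd (Finset.mem_univ _) h
  have hsum : ∑ j, m j = 1 := by
    have h := hinv 1
    simp only [map_one, mul_one, OneMemClass.coe_one, S.st_one, hcm, Finset.sum_add_distrib,
      Finset.sum_const, Finset.card_univ, Fintype.card_fin, nsmul_eq_mul, ← Finset.mul_sum] at h
    have he0 : (Nat.card S.E : ℂ) ≠ 0 := Nat.cast_ne_zero.2 Nat.card_pos.ne'
    have h2 : (Nat.card S.E : ℂ) * ∑ j, (m j : ℂ) = (Nat.card S.E : ℂ) * 1 := by linear_combination h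
    have h3 := mul_left_cancel₀ he0 h2
    exact_mod_cast h3
  obtain ⟨j₀, -, hj₀⟩ : ∃ j ∈ Finset.univ, m j ≠ 0 :=
    Finset.exists_ne_zero_of_sum_ne_zero (by rw [hsum]; exact one_ne_zero)
  have hm1 : ∀ j, m j = if j = j₀ then 1 else 0 := by
    intro j
    rw [← Finset.add_sum_erase _ _ (Finset.mem_univ j₀)] at hsum
    split_ifs with hj
    · subst hj
      omega
    · have hle := Finset.single_le_sum (f := m) (fun _ _ => Nat.zero_le _)
        (Finset.mem_erase.2 ⟨hj, Finset.mem_univ j⟩)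
      omega
  refine ⟨S.lin j₀, fun g hg => ?_⟩
  have h := hinv g
  simp only [hcm, hm1, add_mul, Finset.sum_add_distrib, ← Finset.mul_sum, S.lin_orth,
    OneMemClass.coe_eq_one, if_neg hg, mul_zero, zero_add, Nat.cast_ite, Nat.cast_one, Nat.cast_zero,
    mul_ite, mul_one, ite_mul, zero_mul, Finset.sum_ite_eq', Finset.mem_univ, if_true] at h
  exact (mul_left_cancel₀ (Nat.cast_ne_zero.2 Nat.card_pos.ne') h).symm

/-- The weight of the character of degree `p`. -/
def Setup.mu : S.E →* ℂ := S.exists_mu.choose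

theorem Setup.st_mem (h : S.E) (hh : h ≠ 1) : (S.st : G → ℂ) (h : G) = S.mu h :=
  S.exists_mu.choose_spec h hh

theorem Setup.prim : IsPreprimitive G α := by
  haveI := S.trans
  exact IsPreprimitive.of_prime_card (by rw [S.card_α]; exact hp.out)

theorem Setup.le_of_normal {K : Subgroup G} [K.Normal] (hK : K ≠ ⊥) : (S.P : Subgroup G) ≤ K := by
  haveI := S.prim
  have := IsPreprimitive.isQuasiPreprimitive.isPretransitive_of_normal (G := G) (X := α) (N := K)
    (fun hfix => hK ((Subgroup.eq_bot_iff_forall K).2 fun k hk =>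
      FaithfulSMul.eq_of_smul_eq_smul (α := α) fun b => by
        rw [one_smul]
        exact (hfix.ge (Set.mem_univ b)) ⟨k, hk⟩))
  obtain ⟨a⟩ := S.nonempty
  have hd : p ∣ Nat.card K := by
    have h := (stabilizer K a).index_dvd_card
    rwa [index_stabilizer_of_transitive, S.card_α] at h
  obtain ⟨⟨z, hz⟩, hzo⟩ := exists_prime_orderOf_dvd_card' (G := K) p hd
  rw [Subgroup.orderOf_mk] at hzo
  obtain ⟨c, hc, hc1⟩ := exists_conj_mem S.P S.card_P S.centralizer_eq (g := z) (dvd_of_eq hzo.symm)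
  have hcK : c * z * c⁻¹ ∈ K := Subgroup.Normal.conj_mem inferInstance z hz c
  rw [← CfsgLib.CyclicDefect.zpowers_eq S.P (dvd_orderOf_of_mem S.P S.card_P hc hc1) hc S.card_P]
  exact Subgroup.zpowers_le.2 hcK

theorem Setup.top_le_of_normal {K : Subgroup G} [K.Normal] (hP : (S.P : Subgroup G) ≤ K)
    (hE : S.E ≤ K) : K = ⊤ := by
  have h := Sylow.normalizer_sup_eq_top (P := S.P.subtype hP)
  rw [Sylow.coe_subtype, Subgroup.map_subgroupOf_eq_of_le hP, ← S.hPE] at h
  exact eq_top_iff.2 (h.ge.trans (sup_le (sup_le hP hE) le_rfl))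

theorem Setup.perfect : commutator G = ⊤ := by
  classical
  have hne : commutator G ≠ ⊥ := fun h => S.not_normal ⟨fun z hz g => by
    have hc : g * z * g⁻¹ * z⁻¹ ∈ commutator G :=
      Subgroup.commutator_mem_commutator (Subgroup.mem_top g) (Subgroup.mem_top z)
    rw [h, Subgroup.mem_bot, mul_inv_eq_one] at hc
    rwa [hc]⟩
  refine S.top_le_of_normal (S.le_of_normal hne) fun g hg => ?_
  by_contra hgc
  have hg1 : Abelianization.of g ≠ 1 := fun h => hgc ((QuotientGroup.eq_one_iff g).1 h)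
  obtain ⟨f, hf⟩ := CommGroup.exists_apply_ne_one_of_hasEnoughRootsOfUnity (Abelianization G) ℂ hg1
  let F : G →* ℂˣ := f.comp Abelianization.of
  have hne1 : g ≠ 1 := fun h => hgc (h ▸ Subgroup.one_mem _)
  have hst := S.eq_st (φ := ⟨_, LinearTwist.isIrr_mul_hom S.st.2 F⟩) (by
    refine LinearTwist.charDegree_eq_of_apply_one ?_
    simp [S.st_one])
  have h1 := congrFun (congrArg Subtype.val hst) g
  have hμ : (S.st : G → ℂ) g = S.mu ⟨g, hg⟩ := S.st_mem ⟨g, hg⟩ fun h => hne1 (congrArg Subtype.val h)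
  have hμ0 : S.mu ⟨g, hg⟩ ≠ 0 := ((Group.isUnit (⟨g, hg⟩ : S.E)).map S.mu).ne_zero
  simp only [hμ] at h1
  exact hf (Units.ext (mul_left_cancel₀ hμ0 (h1.trans (mul_one _).symm)))

theorem Setup.isSimpleGroup : IsSimpleGroup G := by
  haveI : Nontrivial G := ⟨⟨S.x, 1, S.x_ne_one⟩⟩
  refine ⟨fun K hK => ?_⟩
  by_contra! h
  haveI := hK
  have hP := S.le_of_normal h.1
  refine h.2 (eq_top_iff.2 (S.perfect.ge.trans ?_))
  haveI := S.isCyclic
  have hgen : ∀ g : G, ∃ y ∈ S.E, g⁻¹ * y ∈ K := by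
    have hs := Sylow.normalizer_sup_eq_top (P := S.P.subtype hP)
    rw [Sylow.coe_subtype, Subgroup.map_subgroupOf_eq_of_le hP, ← S.hPE] at hs
    have hK' : S.E ⊔ K = ⊤ := eq_top_iff.2 (hs.ge.trans (sup_le (sup_le (hP.trans le_sup_right) le_sup_left) le_sup_right))
    intro g
    obtain ⟨y, hy, k, hk, e⟩ := Subgroup.mem_sup_of_normal_right.1 (hK'.ge (Subgroup.mem_top g))
    exact ⟨y, hy, by rw [← e, mul_inv_rev, mul_assoc, inv_mul_cancel, mul_one]; exact K.inv_mem hk⟩
  rw [commutator_def, Subgroup.commutator_le]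
  intro a _ b _
  obtain ⟨y, hy, hya⟩ := hgen a
  obtain ⟨z, hz, hzb⟩ := hgen b
  rw [← QuotientGroup.eq_one_iff, commutatorElement_def]
  simp only [QuotientGroup.mk_mul, QuotientGroup.mk_inv, QuotientGroup.eq.2 hya, QuotientGroup.eq.2 hzb]
  simp only [← QuotientGroup.mk_inv, ← QuotientGroup.mk_mul, S.comm_E hy hz]
  group
  rfl

theorem Setup.two_trans : IsMultiplyPretransitive G α 2 := by
  haveI := S.trans
  refine (Cfsg.Agent.S0675.result (by rw [S.hα]; exact hp.out) G).resolve_left fun h => ?_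
  haveI := h
  haveI := S.isSimpleGroup
  have hcomm := IsSimpleGroup.comm_iff_isSolvable.2 h
  exact S.not_normal ⟨fun z hz g => by rwa [hcomm g z, mul_inv_cancel_right]⟩

/-- The fixed point count minus one. -/
def Setup.theta : IrrCharacter G :=
  ⟨fun g => (Nat.card (fixedBy α g) : ℂ) - 1, by
    haveI := S.trans
    exact (CfsgLib.PermTwo.isIrrCharacter_fix_sub_one_iff (by rw [S.card_α]; exact hp.out.two_le)).2
      S.two_trans⟩

theorem Setup.theta_one : (S.theta : G → ℂ) 1 = (p : ℂ) - 1 := by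
  show (Nat.card (fixedBy α (1 : G)) : ℂ) - 1 = _
  rw [fixedBy_one_eq_univ, Nat.card_coe_set_eq, Set.ncard_univ, S.card_α]

theorem Setup.theta_pow {i : ℕ} (hi : 1 ≤ i) (hip : i < p) :
    (S.theta : G → ℂ) (S.x ^ i) = -1 := by
  show (Nat.card (fixedBy α (S.x ^ i)) : ℂ) - 1 = -1
  rw [show Nat.card (fixedBy α (S.x ^ i)) = 0 from Finite.card_eq_zero_iff.2 ⟨fun ⟨b, hb⟩ => ?_⟩]
  · simp
  · have := (S.orbit_x b).1 (a₁ := ⟨i, hip⟩) (a₂ := ⟨0, hp.out.pos⟩) (by
      show S.x ^ i • b = S.x ^ 0 • b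
      rw [pow_zero, one_smul]
      exact hb)
    have := congrArg Fin.val this
    simp only at this
    omega

theorem Setup.fixedBy_mem {h : G} (hh : h ∈ S.E) (h1 : h ≠ 1) : fixedBy α h = {S.a} := by
  ext b
  exact ⟨fun hb => S.eq_a hh h1 hb, fun hb => by rw [Set.mem_singleton_iff.1 hb]; exact S.smul_a hh⟩

theorem Setup.theta_mem {h : G} (hh : h ∈ S.E) (h1 : h ≠ 1) : (S.theta : G → ℂ) h = 0 := by
  show (Nat.card (fixedBy α h) : ℂ) - 1 = 0
  rw [S.fixedBy_mem hh h1, Nat.card_coe_set_eq, Set.ncard_singleton, Nat.cast_one, sub_self]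

theorem Setup.exists_r : ∃ r, p = Nat.card S.E * r + 1 := by
  obtain ⟨r, hr⟩ := S.e_dvd
  exact ⟨r, by have := hp.out.pos; omega⟩

/-- The number of regular orbits of the complement. -/
def Setup.r : ℕ := S.exists_r.choose

theorem Setup.p_eq : p = Nat.card S.E * S.r + 1 := S.exists_r.choose_spec

theorem Setup.det_conditions (y : S.E) (hy : ∀ g : S.E, g ∈ Subgroup.zpowers y) :
    S.mu y = 1 ∧ (Even (Nat.card S.E) → Even S.r) := by
  classical
  set e := Nat.card S.E with he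
  have hye : orderOf y = e := orderOf_eq_card_of_forall_mem_zpowers hy
  have he0 : e ≠ 0 := Nat.card_pos.ne'
  haveI : NeZero e := ⟨he0⟩
  have hye' : orderOf (y : G) = e := by rw [Subgroup.orderOf_coe, hye]
  obtain ⟨ζ, hζ⟩ : ∃ ζ : ℂ, IsPrimitiveRoot ζ e := ⟨_, Complex.isPrimitiveRoot_exp e he0⟩
  let w : Fin S.r × Fin e → ℂ := fun z => ζ ^ (z.2 : ℕ)
  have hw : ∀ z, w z ^ e = 1 := fun z => by rw [← pow_mul, mul_comm, pow_mul, hζ.pow_eq_one, one_pow]
  have hwsum : ∀ k, k < e → ∑ z, w z ^ k = if k = 0 then ((p : ℂ) - 1) else 0 := by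
    intro k hk
    rw [Fintype.sum_prod_type]
    simp only [w, Finset.sum_const, Finset.card_univ, Fintype.card_fin, nsmul_eq_mul]
    split_ifs with hk0
    · subst hk0
      simp only [pow_zero, Finset.sum_const, Finset.card_univ, Fintype.card_fin, nsmul_eq_mul,
        mul_one]
      have := congrArg (Nat.cast (R := ℂ)) S.p_eq
      push_cast at this
      linear_combination -this
    · rw [Fin.sum_univ_eq_sum_range (fun j => (ζ ^ j) ^ k) e]
      have hne : ζ ^ k ≠ 1 := hζ.pow_ne_one_of_pos_of_lt hk0 hk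
      have h0 := geom_sum_mul (ζ ^ k) e
      rw [← pow_mul, mul_comm k e, pow_mul, hζ.pow_eq_one, one_pow, sub_self, mul_eq_zero] at h0
      have h1 : ∑ j ∈ Finset.range e, (ζ ^ j) ^ k = 0 := by
        rw [← (h0.resolve_right (sub_ne_zero.2 hne))]
        exact Finset.sum_congr rfl fun j _ => by rw [← pow_mul, mul_comm, pow_mul]
      rw [h1, mul_zero]
  have hk1 : ∀ k, k < e → k ≠ 0 → (y : G) ^ k ≠ 1 := fun k hk hk0 h =>
    pow_ne_one_of_lt_orderOf hk0 (hye'.symm ▸ hk) h
  have hθ : ∏ z, w z = 1 := by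
    refine prod_eq_one_of_perfect S.perfect (irr_isCharacter S.theta) (y : G) w
      (fun z => by rw [hye']; exact hw z) fun k hk => ?_
    rw [hye'] at hk
    rw [hwsum k hk]
    split_ifs with hk0
    · rw [hk0, pow_zero, S.theta_one]
    · exact S.theta_mem (S.E.pow_mem y.2 k) (hk1 k hk hk0)
  have hst : ∏ z : Option (Fin S.r × Fin e), z.elim (S.mu y) w = 1 := by
    refine prod_eq_one_of_perfect S.perfect (irr_isCharacter S.st) (y : G) _
      (fun z => ?_) fun k hk => ?_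
    · rw [hye']
      cases z with
      | none => rw [Option.elim_none, ← map_pow, ← hye, pow_orderOf_eq_one, map_one]
      | some z => exact hw z
    · rw [hye'] at hk
      rw [Fintype.sum_option]
      simp only [Option.elim_none, Option.elim_some]
      rw [hwsum k hk, ← map_pow]
      split_ifs with hk0
      · rw [hk0, pow_zero, pow_zero, S.st_one, map_one]
        ring
      · rw [add_zero, ← S.st_mem (y ^ k) (fun h => hk1 k hk hk0 (congrArg Subtype.val h))]
        rfl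
  rw [Fintype.prod_option] at hst
  simp only [Option.elim_none, Option.elim_some, hθ, mul_one] at hst
  refine ⟨hst, fun heven => ?_⟩
  rw [Fintype.prod_prod_type] at hθ
  simp only [w, Finset.prod_const, Finset.card_univ, Fintype.card_fin] at hθ
  rw [Fin.prod_univ_eq_prod_range (fun j => ζ ^ j) e, prod_roots_of_even hζ heven he0] at hθ
  exact (neg_one_pow_eq_one_iff_even (by norm_num : (-1 : ℂ) ≠ 1)).1 hθ

theorem Setup.even_r (h : Even (Nat.card S.E)) : Even S.r := by
  haveI := S.isCyclic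
  obtain ⟨y, hy⟩ := IsCyclic.exists_generator (α := S.E)
  exact (S.det_conditions y hy).2 h

theorem Setup.st_E {h : G} (hh : h ∈ S.E) (h1 : h ≠ 1) : (S.st : G → ℂ) h = 1 := by
  haveI := S.isCyclic
  obtain ⟨y, hy⟩ := IsCyclic.exists_generator (α := S.E)
  rw [show h = ((⟨h, hh⟩ : S.E) : G) from rfl, S.st_mem _ fun e => h1 (congrArg Subtype.val e)]
  obtain ⟨k, hk⟩ := mem_powers_iff_mem_zpowers.2 (hy ⟨h, hh⟩)
  rw [← hk]
  show S.mu (y ^ k) = 1
  rw [map_pow, (S.det_conditions y hy).1, one_pow]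

end CfsgLib.PermPrime.DegP
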